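import Cfsg.Agent.Lib.CIT.FourCount

/-!
The configuration of the two classes of elementary subgroups of order sixteen in `PGL₃(4)`, and its coset
geometry.
-/
set_option autoImplicit false
set_option linter.style.haveILetI false

namespace CfsgLib.AutL34

open Subgroup
open scoped Pointwise

universe u

/-- The configuration. -/
structure Conf {G : Type u} [Group G] (V A : Subgroup G) : Prop where
  elemV : ∀ x ∈ V, x * x = 1
  elemA : ∀ x ∈ A, x * x = 1
  card_V : Nat.card V = 16
  card_A : Nat.card A = 16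
  centV : Subgroup.centralizer (V : Set G) = V
  centA : Subgroup.centralizer (A : Set G) = A
  card_inf : Nat.card ↥(V ⊓ A) = 4
  card_sup : Nat.card ↥(V ⊔ A) = 64
  normal_left : A ≤ Subgroup.normalizer (V : Set G)
  normal_right : V ≤ Subgroup.normalizer (A : Set G)
  sylow : ∀ Q : Subgroup G, IsPGroup 2 Q → V ⊔ A ≤ Q → Q = V ⊔ A
  invol : ∀ x ∈ V ⊔ A, x * x = 1 → x ∈ V ∨ x ∈ A
  card_NV : Nat.card (Subgroup.normalizer (V : Set G)) = 2880
  card_NA : Nat.card (Subgroup.normalizer (A : Set G)) = 2880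
  linesV : ((Subgroup.normalizer (A : Set G)).subgroupOf (Subgroup.normalizer (V : Set G))).index = 5
  linesA : ((Subgroup.normalizer (V : Set G)).subgroupOf (Subgroup.normalizer (A : Set G))).index = 5
  transV : ∀ t ∈ V, t ≠ 1 → ∀ t' ∈ V, t' ≠ 1 →
    ∃ n ∈ Subgroup.normalizer (V : Set G), n * t * n⁻¹ = t'
  transA : ∀ t ∈ A, t ≠ 1 → ∀ t' ∈ A, t' ≠ 1 →
    ∃ n ∈ Subgroup.normalizer (A : Set G), n * t * n⁻¹ = t'
  centI : ∀ t : G, t ≠ 1 → t * t = 1 →
    ∃ c : G, ∀ x, x * x = 1 → x * t = t * x → x ∈ MulAut.conj c • (V ⊔ A)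
  cardC : ∀ t : G, t ≠ 1 → t * t = 1 → Nat.card (Subgroup.centralizer ({t} : Set G)) = 192
  noInv : ∀ y g : G, y ≠ 1 → y ^ 3 = 1 → (∃ t, t ≠ 1 ∧ t * t = 1 ∧ t * y = y * t) →
    g * y * g⁻¹ ≠ y⁻¹

namespace Conf

open CfsgLib.CIT.FourRecog (Inc inc_swap inc_smul card_inc mem_conj card_conj conj_eq_self_iff
  conj_congr quot_eq_of_conj commutator_mem sup_eq_of_card)

variable {G : Type u} [Group G] {V A : Subgroup G}

theorem conjS_mul (g g' : G) (H : Subgroup G) :
    MulAut.conj (g * g') • H = MulAut.conj g • MulAut.conj g' • H :=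
  CfsgLib.CIT.FourRecog.conj_mul g g' H

theorem symm (h : Conf V A) : Conf A V where
  elemV := h.elemA
  elemA := h.elemV
  card_V := h.card_A
  card_A := h.card_V
  centV := h.centA
  centA := h.centV
  card_inf := by rw [inf_comm]; exact h.card_inf
  card_sup := by rw [sup_comm]; exact h.card_sup
  normal_left := h.normal_right
  normal_right := h.normal_left
  sylow := by rw [sup_comm]; exact h.sylow
  invol := fun x hx hx2 => (h.invol x (sup_comm A V ▸ hx) hx2).symm
  card_NV := h.card_NA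
  card_NA := h.card_NV
  linesV := h.linesA
  linesA := h.linesV
  transV := h.transA
  transA := h.transV
  centI := fun t h1 h2 => by rw [sup_comm]; exact h.centI t h1 h2
  cardC := h.cardC
  noInv := h.noInv

theorem isPGroup_sup [Finite G] (h : Conf V A) : IsPGroup 2 ↥(V ⊔ A) :=
  IsPGroup.of_card (n := 6) (by rw [h.card_sup]; norm_num)

theorem le_normalizer_self (H : Subgroup G) : H ≤ normalizer (H : Set G) := le_normalizer

theorem sup_le_normalizer (h : Conf V A) : V ⊔ A ≤ normalizer (V : Set G) :=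
  sup_le le_normalizer h.normal_left

variable [Finite G]

/-- The Sylow 2-subgroup `V ⊔ A`. -/
def syl (h : Conf V A) : Sylow 2 G :=
  ⟨V ⊔ A, isPGroup_sup h, fun hQ hle => h.sylow _ hQ hle⟩

theorem ne (h : Conf V A) : V ≠ A := by
  rintro rfl
  have := h.card_inf
  rw [inf_idem, h.card_V] at this
  omega

/-- An elementary abelian subgroup of order 16 of `V ⊔ A` is one of `V`, `A`. -/
theorem eq_or_eq (h : Conf V A) {E : Subgroup G} (hE : E ≤ V ⊔ A)
    (he : ∀ x ∈ E, x * x = 1) (hcE : Nat.card ↥E = 16) : E = V ∨ E = A := by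
  have hsub : E ≤ V ∨ E ≤ A := by
    by_contra hcon
    push Not at hcon
    obtain ⟨⟨x, hx, hxV⟩, y, hy, hyA⟩ := And.imp SetLike.not_le_iff_exists.1
      SetLike.not_le_iff_exists.1 hcon
    have hxA : x ∈ A := (h.invol x (hE hx) (he x hx)).resolve_left hxV
    have hyV : y ∈ V := (h.invol y (hE hy) (he y hy)).resolve_right hyA
    rcases h.invol (x * y) (hE (mul_mem hx hy)) (he _ (mul_mem hx hy)) with hv | ha
    · exact hxV ((mul_mem_cancel_right hyV).1 hv)
    · exact hyA ((mul_mem_cancel_left hxA).1 ha)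
  exact hsub.imp (fun hle => Subgroup.eq_of_le_of_card_ge hle (by rw [hcE, h.card_V]))
    (fun hle => Subgroup.eq_of_le_of_card_ge hle (by rw [hcE, h.card_A]))

theorem not_conj (h : Conf V A) (g : G) : MulAut.conj g • V ≠ A := by
  intro hg
  haveI : Fact (Nat.Prime 2) := ⟨Nat.prime_two⟩
  set S : Subgroup G := V ⊔ A with hS
  set N : Subgroup G := normalizer (A : Set G) with hN
  have hSN : S ≤ N := sup_le h.normal_right le_normalizer
  have hgS : MulAut.conj g • S ≤ N := by
    intro x hx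
    rw [mem_conj] at hx
    rw [hN, ← hg]
    refine conj_eq_self_iff.1 ?_
    rw [show x = g * (g⁻¹ * x * g) * g⁻¹ by group, conjS_mul, conjS_mul, ← conjS_mul g⁻¹ g]
    rw [inv_mul_cancel, map_one, one_smul, conj_eq_self_iff.2 (sup_le_normalizer h hx)]
  let P : Sylow 2 N := (syl h).subtype hSN
  let Q : Sylow 2 N := (MulAut.conj g • syl h).subtype (by exact hgS)
  obtain ⟨n, hn⟩ := MulAction.exists_smul_eq N Q P
  set m : G := (n : G) * g with hm
  have hmS : MulAut.conj m • S = S := by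
    have e : ∀ x : ↥N, ((x : G) ∈ MulAut.conj (n : G) • (MulAut.conj g • S) ↔ (x : G) ∈ S) := by
      intro x
      have := congrArg Sylow.toSubgroup hn
      rw [Sylow.coe_subgroup_smul] at this
      have h1 := SetLike.ext_iff.1 this x
      rw [mem_pointwise_smul_iff_inv_smul_mem, ← map_inv, MulAut.smul_def, MulAut.conj_apply,
        inv_inv] at h1
      rw [mem_conj]
      exact h1
    rw [hm, conjS_mul]
    refine le_antisymm (fun x hx => ?_) (fun x hx => (e ⟨x, hSN hx⟩).2 hx)
    have hxN : x ∈ N := by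
      have hxn := hgS (mem_conj.1 hx)
      simpa [mul_assoc] using N.mul_mem (N.mul_mem n.2 hxn) (N.inv_mem n.2)
    exact (e ⟨x, hxN⟩).1 hx
  have hmV : MulAut.conj m • V = A := by
    rw [hm, conjS_mul, hg]
    exact conj_eq_self_iff.2 n.2
  have hmA : MulAut.conj m • A = V := by
    have hle : MulAut.conj m • A ≤ S := by
      rw [← hmS]
      exact Subgroup.pointwise_smul_le_pointwise_smul_iff.2 le_sup_right
    have he : ∀ x ∈ MulAut.conj m • A, x * x = 1 := fun x hx => by
      have := h.elemA _ (mem_conj.1 hx)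
      have h2 : m⁻¹ * (x * x) * m = 1 := by rw [← this]; group
      calc x * x = m * (m⁻¹ * (x * x) * m) * m⁻¹ := by group
        _ = 1 := by rw [h2]; group
    rcases eq_or_eq h hle he (by rw [card_conj, h.card_A]) with e | e
    · exact e
    · exact absurd (MulAction.injective (MulAut.conj m) (hmV.trans e.symm)) (ne h)
  obtain ⟨a, b, hb, hab⟩ := Nat.exists_eq_two_pow_mul_odd (orderOf_pos m).ne'
  have hsw : MulAut.conj (m ^ b) • V = A := by
    obtain ⟨j, rfl⟩ := hb
    have h2 : ∀ i : ℕ, MulAut.conj (m ^ (2 * i)) • V = V := by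
      intro i
      induction i with
      | zero => simp
      | succ i ih =>
        rw [show 2 * (i + 1) = 1 + (1 + 2 * i) by omega, pow_add, pow_add, conjS_mul, conjS_mul, ih,
          pow_one, hmV, hmA]
    rw [pow_succ', conjS_mul, h2, hmV]
  have hmem : m ^ b ∈ S := by
    have hnS : zpowers (m ^ b) ≤ normalizer (S : Set G) :=
      zpowers_le.2 (pow_mem (conj_eq_self_iff.1 hmS) b)
    have hz : IsPGroup 2 ↥(zpowers (m ^ b)) := by
      refine IsPGroup.of_card (n := a) ?_
      rw [Nat.card_zpowers, orderOf_pow_of_dvd hb.pos.ne' (hab ▸ dvd_mul_left _ _), hab,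
        Nat.mul_div_cancel _ hb.pos]
    have := h.sylow _ ((isPGroup_sup h).to_sup_of_normal_left' hz hnS) le_sup_left
    rw [hS, ← this]
    exact mem_sup_right (mem_zpowers _)
  rw [conj_eq_self_iff.2 (sup_le_normalizer h hmem)] at hsw
  exact ne h hsw

/-- A 2-subgroup contains at most one conjugate of `V`. -/
theorem conj_unique (h : Conf V A) {Q : Subgroup G} (hQ : IsPGroup 2 ↥Q) {g g' : G}
    (hg : MulAut.conj g • V ≤ Q) (hg' : MulAut.conj g' • V ≤ Q) :
    MulAut.conj g • V = MulAut.conj g' • V := by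
  haveI : Fact (Nat.Prime 2) := ⟨Nat.prime_two⟩
  obtain ⟨P, hP⟩ := hQ.exists_le_sylow
  obtain ⟨c, hc⟩ := MulAction.exists_smul_eq G (syl h) P
  have hc' : (P : Subgroup G) = MulAut.conj c • (V ⊔ A) := by
    rw [← hc, Sylow.coe_subgroup_smul]
    rfl
  have key : ∀ x : G, MulAut.conj x • V ≤ Q → MulAut.conj (c⁻¹ * x) • V = V := by
    intro x hx
    have hle : MulAut.conj (c⁻¹ * x) • V ≤ V ⊔ A := by
      rw [conjS_mul, map_inv, Subgroup.pointwise_smul_subset_iff, inv_inv, ← hc']
      exact hx.trans hP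
    have he : ∀ y ∈ MulAut.conj (c⁻¹ * x) • V, y * y = 1 := fun y hy => by
      have h1 := h.elemV _ (mem_conj.1 hy)
      generalize c⁻¹ * x = z at h1
      calc y * y = z * (z⁻¹ * y * z * (z⁻¹ * y * z)) * z⁻¹ := by group
        _ = 1 := by rw [h1]; group
    rcases eq_or_eq h hle he (by rw [card_conj, h.card_V]) with e | e
    · exact e
    · exact absurd e (not_conj h _)
  have h1 := key g hg
  have h2 := key g' hg'
  rw [conjS_mul] at h1 h2
  exact MulAction.injective (MulAut.conj c⁻¹) (h1.trans h2.symm)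

theorem conj_elem (h : Conf V A) (g : G) : ∀ x ∈ MulAut.conj g • V, x * x = 1 := fun x hx => by
  have h1 := h.elemV _ (mem_conj.1 hx)
  calc x * x = g * (g⁻¹ * x * g * (g⁻¹ * x * g)) * g⁻¹ := by group
    _ = 1 := by rw [h1]; group

theorem conj_commute (h : Conf V A) (g : G) {x y : G} (hx : x ∈ MulAut.conj g • V)
    (hy : y ∈ MulAut.conj g • V) : Commute x y := by
  have e : ∀ z ∈ MulAut.conj g • V, z⁻¹ = z := fun z hz =>
    inv_eq_of_mul_eq_one_right (conj_elem h g z hz)
  calc x * y = (x * y)⁻¹ := (e _ (mul_mem hx hy)).symm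
    _ = y⁻¹ * x⁻¹ := mul_inv_rev x y
    _ = y * x := by rw [e x hx, e y hy]

/-- Distinct conjugates of `V` meet trivially. -/
theorem eq_bot_of_ne (h : Conf V A) {g g' : G}
    (hne : MulAut.conj g • V ≠ MulAut.conj g' • V) :
    MulAut.conj g • V ⊓ MulAut.conj g' • V = ⊥ := by
  by_contra hcon
  rw [← ne_eq, ne_bot_iff_exists_ne_one] at hcon
  obtain ⟨⟨w, hw⟩, hw1⟩ := hcon
  have hw1' : w ≠ 1 := fun e => hw1 (Subtype.ext e)
  obtain ⟨c, hc⟩ := h.centI w hw1' (conj_elem h g w hw.1)
  refine hne (conj_unique h (Q := MulAut.conj c • (V ⊔ A))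
    (IsPGroup.of_card (n := 6) (by rw [card_conj, h.card_sup]; norm_num)) ?_ ?_) <;> intro x hx
  · exact hc x (conj_elem h g x hx) (conj_commute h g hx hw.1).eq
  · exact hc x (conj_elem h g' x hx) (conj_commute h g' hx hw.2).eq

theorem cent_conj (h : Conf V A) (g : G) {x : G}
    (hx : ∀ y ∈ MulAut.conj g • V, Commute x y) : x ∈ MulAut.conj g • V := by
  rw [mem_conj]
  have : g⁻¹ * x * g ∈ centralizer (V : Set G) := by
    rw [mem_centralizer_iff]
    intro v hv
    have hy : g * v * g⁻¹ ∈ MulAut.conj g • V := by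
      rw [mem_conj]
      simpa [mul_assoc] using hv
    have := (hx _ hy).eq
    calc v * (g⁻¹ * x * g) = g⁻¹ * (g * v * g⁻¹ * x) * g := by group
      _ = g⁻¹ * (x * (g * v * g⁻¹)) * g := by rw [this]
      _ = g⁻¹ * x * g * v := by group
  rwa [h.centV] at this

theorem conj_le_normalizer (h : Conf V A) (g : G) :
    MulAut.conj g • A ≤ normalizer ((MulAut.conj g • V : Subgroup G) : Set G) := by
  intro x hx
  rw [mem_conj] at hx
  refine conj_eq_self_iff.1 ?_
  rw [← conjS_mul, show x * g = g * (g⁻¹ * x * g) by group, conjS_mul,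
    conj_eq_self_iff.2 (h.normal_left hx)]

theorem card_conj_inf (h : Conf V A) (g : G) :
    Nat.card ↥(MulAut.conj g • V ⊓ MulAut.conj g • A) = 4 := by
  rw [← smul_inf, card_conj, h.card_inf]

theorem commutator_mem {X : Subgroup G} {x y : G} (hy : y ∈ X)
    (hx : x ∈ normalizer (X : Set G)) : x * y * x⁻¹ * y⁻¹ ∈ X :=
  mul_mem ((mem_normalizer_iff.1 hx y).1 hy) (inv_mem hy)

theorem inc_data (h : Conf V A) {x a : G}
    (hi : Inc (x : G ⧸ normalizer (V : Set G)) (a : G ⧸ normalizer (A : Set G))) :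
    Nat.card ↥(MulAut.conj x • V ⊓ MulAut.conj a • A) = 4 ∧
      MulAut.conj a • A ≤ normalizer ((MulAut.conj x • V : Subgroup G) : Set G) ∧
      MulAut.conj x • V ≤ normalizer ((MulAut.conj a • A : Subgroup G) : Set G) := by
  obtain ⟨g, hgx, hga⟩ := hi
  rw [← conj_congr hgx, ← conj_congr hga]
  exact ⟨card_conj_inf h g, conj_le_normalizer h g, conj_le_normalizer (symm h) g⟩

theorem sup_eq_of_card {v X Y : Subgroup G}
    (hX : X ≤ v) (hY : Y ≤ v) (hd : X ⊓ Y = ⊥)
    (hc : Nat.card ↥v ≤ Nat.card ↥X * Nat.card ↥Y) : X ⊔ Y = v := by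
  let f : ↥X × ↥Y → ↥(X ⊔ Y) := fun q =>
    ⟨(q.1 : G) * (q.2 : G), mul_mem (mem_sup_left q.1.2) (mem_sup_right q.2.2)⟩
  have hf : Function.Injective f := fun q r hqr => by
    exact Subgroup.mul_injective_of_disjoint (disjoint_iff.2 hd) (congrArg Subtype.val hqr)
  refine Subgroup.eq_of_le_of_card_ge (sup_le hX hY) (hc.trans ?_)
  rw [← Nat.card_prod]
  exact Nat.card_le_card_of_injective f hf

/-- Two points lie on at most one common line. -/
theorem inc_unique (h : Conf V A) {p p' : G ⧸ normalizer (V : Set G)}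
    {l l' : G ⧸ normalizer (A : Set G)} (hp : p ≠ p') (h11 : Inc p l) (h12 : Inc p l')
    (h21 : Inc p' l) (h22 : Inc p' l') : l = l' := by
  by_contra hl
  induction p using QuotientGroup.induction_on with | _ x =>
  induction p' using QuotientGroup.induction_on with | _ x' =>
  induction l using QuotientGroup.induction_on with | _ a =>
  induction l' using QuotientGroup.induction_on with | _ a' =>
  set v := MulAut.conj x • V
  set v' := MulAut.conj x' • V
  set b := MulAut.conj a • A
  set b' := MulAut.conj a' • A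
  have hvv : v ⊓ v' = ⊥ := eq_bot_of_ne h fun e => hp (quot_eq_of_conj e)
  have hbb : b ⊓ b' = ⊥ := eq_bot_of_ne  (symm h) fun e => hl (quot_eq_of_conj e)
  obtain ⟨c11, n11, m11⟩ := inc_data h h11
  obtain ⟨c12, n12, m12⟩ := inc_data h h12
  obtain ⟨c21, n21, m21⟩ := inc_data h h21
  obtain ⟨c22, n22, m22⟩ := inc_data h h22
  have hcv : Nat.card ↥v = 16 := by rw [card_conj, h.card_V]
  have hsup : (v ⊓ b) ⊔ (v ⊓ b') = v := by
    refine sup_eq_of_card inf_le_left inf_le_left
      ?_ (le_of_eq ?_)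
    · exact le_bot_iff.1 (hbb ▸ inf_le_inf inf_le_right inf_le_right)
    · rw [hcv, c11, c12]
  have hcent : v' ⊓ b ≤ v := by
    intro s hs
    refine cent_conj h x fun y hy => ?_
    rw [show MulAut.conj x • V = v from rfl, ← hsup] at hy
    have hC : (v ⊓ b) ⊔ (v ⊓ b') ≤ centralizer ({s} : Set G) := by
      refine sup_le ?_ ?_ <;> intro z hz <;> rw [mem_centralizer_singleton_iff]
      · exact (conj_commute (symm h) a hz.2 hs.2).eq
      · have h1 : s * z * s⁻¹ * z⁻¹ ∈ v ⊓ b' :=
          ⟨commutator_mem hz.1 (n11 hs.2), commutator_mem hz.2 (m22 hs.1)⟩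
        have h2 : z * s * z⁻¹ * s⁻¹ ∈ v' ⊓ b :=
          ⟨commutator_mem hs.1 (n22 hz.2), commutator_mem hs.2 (m11 hz.1)⟩
        have h3 : s * z * s⁻¹ * z⁻¹ ∈ v' ⊓ b := by
          have := inv_mem h2
          convert this using 1
          group
        have h4 : s * z * s⁻¹ * z⁻¹ ∈ v ⊓ v' := ⟨h1.1, h3.1⟩
        rw [hvv, mem_bot] at h4
        calc z * s = (s * z * s⁻¹ * z⁻¹) * (z * s) := by rw [h4, one_mul]
          _ = s * z := by group
    exact (mem_centralizer_singleton_iff.1 (hC hy)).symm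
  have : v' ⊓ b = ⊥ := le_bot_iff.1 (hvv ▸ le_inf hcent inf_le_left)
  rw [this, Subgroup.card_bot] at c21
  omega

end Conf

end CfsgLib.AutL34
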