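import Cfsg.Agent.Lib.AutL34.Lines

/-!
Coordinates for a group `L` with a normal self-centralising `2^{1+4}_-` and quotient of order 24.
-/
set_option autoImplicit false
set_option maxRecDepth 10000

namespace CfsgLib.AutL34

namespace EHyp

variable {L : Type*} [Group L] [Finite L] {z : L} (H : EHyp L z)

/-- generators of the extraspecial group whose fifth line is fixed by everything -/
theorem exists_fixed_gens (hq : Nat.card (L ⧸ H.E) = 24) :
    ∃ (X : EGens L z) (hX : X.e1 ∈ H.E ∧ X.e2 ∈ H.E ∧ X.e3 ∈ H.E ∧ X.e4 ∈ H.E),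
      ∀ g : L, H.lineHom X hX g 4 = 4 := by
  obtain ⟨X, hX⟩ := H.exists_eGens
  obtain ⟨q, hq'⟩ := exists_fixed_of_card (H.card_range X hX hq)
  let σ : Equiv.Perm (Fin 5) := Equiv.swap 4 q
  let p : Fin 4 → L := fun i => H.pt X (σ i.castSucc)
  have hmem : ∀ i, p i ∈ H.E := fun i => H.elE_mem X hX _
  have hanti : ∀ i j : Fin 4, i ≠ j → p j * p i = z * (p i * p j) := by
    intro i j hij
    have hne : σ j.castSucc ≠ σ i.castSucc := fun e => hij (Fin.castSucc_injective 4 (σ.injective e)).symm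
    obtain ⟨a, b, c⟩ := H.pt_spec X (σ i.castSucc)
    obtain ⟨a', b', c'⟩ := H.pt_spec X (σ j.castSucc)
    obtain ⟨d, d'⟩ := H.pt_ne X hne
    exact H.anti (hmem i) (hmem j) a a' b c b' c' d d'
  let Y : EGens L z :=
    { e1 := p 0, e2 := p 1, e3 := p 2, e4 := p 3, z_sq := H.z_sq
      e1_sq := (H.pt_spec X _).1, e2_sq := (H.pt_spec X _).1, e3_sq := (H.pt_spec X _).1,
      e4_sq := (H.pt_spec X _).1
      e1_z := H.central _, e2_z := H.central _, e3_z := H.central _, e4_z := H.central _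
      e21 := hanti 0 1 (by decide), e31 := hanti 0 2 (by decide), e41 := hanti 0 3 (by decide)
      e32 := hanti 1 2 (by decide), e42 := hanti 1 3 (by decide), e43 := hanti 2 3 (by decide) }
  have hY : Y.e1 ∈ H.E ∧ Y.e2 ∈ H.E ∧ Y.e3 ∈ H.E ∧ Y.e4 ∈ H.E := ⟨hmem 0, hmem 1, hmem 2, hmem 3⟩
  have hpY : ∀ i : Fin 4, H.pt Y i.castSucc = p i := fun i => by
    fin_cases i <;> simp [pt, ptSym, EGens.elE, bitN, Y]
  obtain ⟨a, b, c⟩ := H.pt_spec Y 4
  obtain ⟨k, hk, hk'⟩ := H.exists_pt X hX (H.elE_mem Y hY _) a b c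
  have hkq : (⟨k, hk⟩ : Fin 5) = q := by
    by_contra hne
    have h4 : σ ⟨k, hk⟩ ≠ 4 := fun e => hne (σ.injective (e.trans (Equiv.swap_apply_right 4 q).symm))
    obtain ⟨i, hi⟩ := Fin.exists_castSucc_eq.2 (show σ ⟨k, hk⟩ ≠ Fin.last 4 from h4)
    obtain ⟨d, d'⟩ := H.pt_ne Y (show (4 : Fin 5) ≠ i.castSucc from (Fin.castSucc_lt_last i).ne')
    have hs : σ i.castSucc = ⟨k, hk⟩ := by rw [hi]; exact Equiv.swap_apply_self 4 q _
    have hp : p i = H.pt X ⟨k, hk⟩ := by simp only [p, hs]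
    rw [hpY, hp] at d d'
    rcases hk' with e | e
    · exact d e
    · exact d' e
  refine ⟨Y, hY, fun g => H.lineMap_eq Y hY ?_⟩
  have h4 : H.pt Y 4 = H.pt X q ∨ H.pt Y 4 = z * H.pt X q := by rw [← hkq]; exact hk'
  have hg : g * H.pt X q * g⁻¹ = H.pt X q ∨ g * H.pt X q * g⁻¹ = z * H.pt X q := by
    have := H.lineMap_spec X hX g q
    rwa [← H.lineHom_apply X hX, hq' _ ⟨g, rfl⟩] at this
  have hz : ∀ w : L, g * (z * w) * g⁻¹ = z * (g * w * g⁻¹) := fun w => by
    rw [← mul_assoc g, H.central g]; group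
  rcases h4 with e | e <;> rcases hg with e' | e' <;> rw [e]
  · exact Or.inl e'
  · exact Or.inr e'
  · exact Or.inl (by rw [hz, e'])
  · exact Or.inr (by rw [hz, e'])

variable (X : EGens L z) (hX : X.e1 ∈ H.E ∧ X.e2 ∈ H.E ∧ X.e3 ∈ H.E ∧ X.e4 ∈ H.E)
  (hq : Nat.card (L ⧸ H.E) = 24) (hfix : ∀ g : L, H.lineHom X hX g 4 = 4)
include hX hq hfix

/-- exact lifts of the permutations fixing the fifth line -/
theorem exists_lift {τ : Equiv.Perm (Fin 5)} (hτ : τ 4 = 4) :
    ∃ s : L, ∀ i : Fin 4, s * H.pt X i.castSucc * s⁻¹ = H.pt X (τ i.castSucc) := by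
  classical
  let R := (H.lineHom X hX).range
  have hle : R ≤ MulAction.stabilizer (Equiv.Perm (Fin 5)) (4 : Fin 5) := by
    rintro _ ⟨g, rfl⟩
    exact hfix g
  have hR : R = MulAction.stabilizer (Equiv.Perm (Fin 5)) (4 : Fin 5) := by
    refine Subgroup.eq_of_le_of_card_ge hle ?_
    rw [H.card_range X hX hq, Nat.card_eq_fintype_card, Fintype.card_subtype]
    exact le_of_eq ((congrArg Finset.card (Finset.filter_congr fun σ _ => Iff.rfl)).trans stab_table)
  obtain ⟨g, hg⟩ : τ ∈ R := hR ▸ hτ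
  have key : ∀ i : Fin 4, ∃ k < 2, g * H.pt X i.castSucc * g⁻¹ = z ^ k * H.pt X (τ i.castSucc) := by
    intro i
    have h := H.lineMap_spec X hX g i.castSucc
    rw [← H.lineHom_apply X hX, hg] at h
    rcases h with h | h
    · exact ⟨0, by omega, by simpa using h⟩
    · exact ⟨1, by omega, by simpa using h⟩
  choose t ht htg using key
  have hne : ∀ i : Fin 4, τ i.castSucc ≠ Fin.last 4 := fun i e =>
    (Fin.castSucc_lt_last i).ne (τ.injective (e.trans hτ.symm))
  have hne' : ∀ i : Fin 4, τ⁻¹ i.castSucc ≠ Fin.last 4 := fun i e =>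
    (Fin.castSucc_lt_last i).ne ((τ.apply_symm_apply i.castSucc).symm.trans ((congrArg τ e).trans hτ))
  choose b hb using fun i => Fin.exists_castSucc_eq.2 (hne' i)
  choose f hf using fun i => Fin.exists_castSucc_eq.2 (hne i)
  obtain ⟨x, hx, hxc⟩ := H.exists_signs X hX (fun i => t (b i)) (fun i => ht _)
  refine ⟨x * g, fun i => ?_⟩
  have hbf : b (f i) = i := Fin.castSucc_injective 4 (by rw [hb, hf]; exact τ.symm_apply_apply _)
  have hpt : ∀ i : Fin 4, H.pt X i.castSucc = X.elE (2 ^ (i : ℕ)) := fun i => by fin_cases i <;> rfl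
  have hx2 : x * H.pt X (τ i.castSucc) * x⁻¹ = z ^ t i * H.pt X (τ i.castSucc) := by
    rw [← hf, hpt, hxc (f i)]
    simp only [hbf]
  calc x * g * H.pt X i.castSucc * (x * g)⁻¹ = x * (g * H.pt X i.castSucc * g⁻¹) * x⁻¹ := by group
    _ = x * z ^ t i * H.pt X (τ i.castSucc) * x⁻¹ := by rw [htg]; group
    _ = z ^ t i * (x * H.pt X (τ i.castSucc) * x⁻¹) := by
        rw [(Commute.pow_right (H.central x) _).eq]; group
    _ = H.pt X (τ i.castSucc) := by
        rw [hx2, ← mul_assoc, ← pow_add, ← two_mul, pow_mul, pow_two, H.z_sq, one_pow, one_mul]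

end EHyp

/-- two elements with the same action on the generators differ by a central element -/
theorem exists_central {L : Type*} [Group L] [Finite L] {z : L} (H : EHyp L z) (X : EGens L z)
    (hX : X.e1 ∈ H.E ∧ X.e2 ∈ H.E ∧ X.e3 ∈ H.E ∧ X.e4 ∈ H.E) {a b : L}
    (h1 : a * X.e1 * a⁻¹ = b * X.e1 * b⁻¹) (h2 : a * X.e2 * a⁻¹ = b * X.e2 * b⁻¹)
    (h3 : a * X.e3 * a⁻¹ = b * X.e3 * b⁻¹) (h4 : a * X.e4 * a⁻¹ = b * X.e4 * b⁻¹) :
    ∃ γ : Bool, a = z ^ γ.toNat * b := by
  have hc : ∀ e : L, a * e * a⁻¹ = b * e * b⁻¹ → Commute (b⁻¹ * a) e := fun e he => by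
    show b⁻¹ * a * e = e * (b⁻¹ * a)
    calc b⁻¹ * a * e = b⁻¹ * (a * e * a⁻¹) * a := by group
      _ = e * (b⁻¹ * a) := by rw [he]; group
  have hall : ∀ y ∈ H.E, Commute (b⁻¹ * a) y := by
    intro y hy
    obtain ⟨m, -, rfl⟩ := H.elE_surj X hX hy
    exact (Commute.pow_right (H.central _) _).mul_right (((hc _ h1).pow_right _).mul_right
      (((hc _ h2).pow_right _).mul_right (((hc _ h3).pow_right _).mul_right ((hc _ h4).pow_right _))))
  have hmem := H.cent _ fun y hy => (hall y hy).eq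
  rcases H.centre _ hmem fun y hy => (hall y hy).eq with e | e
  · exact ⟨false, by rw [Bool.toNat_false, pow_zero, one_mul]; exact (inv_mul_eq_one.1 e).symm⟩
  · exact ⟨true, by rw [Bool.toNat_true, pow_one, ← H.central b, ← e, mul_inv_cancel_left]⟩

theorem exists_gens {L : Type*} [Group L] [Finite L] {z : L} (H : EHyp L z)
    (hq : Nat.card (L ⧸ H.E) = 24) : ∃ (α β : Bool) (Y : Gens α β L z),
      (∀ g h : ℕ, g < 768 → h < 768 → Y.el g = Y.el h → g = h) ∧ ∀ l : L, ∃ g < 768, Y.el g = l := by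
  obtain ⟨X, hX, hfix⟩ := H.exists_fixed_gens hq
  have lift : ∀ τ : Equiv.Perm (Fin 5), τ 4 = 4 → ∃ s : L, ∀ i : Fin 4,
      s * H.pt X i.castSucc * s⁻¹ = H.pt X (τ i.castSucc) := fun τ hτ => H.exists_lift X hX hq hfix hτ
  have p0 : H.pt X 0 = X.e1 := by simp [EHyp.pt, ptSym, EGens.elE, bitN]
  have p1 : H.pt X 1 = X.e2 := by simp [EHyp.pt, ptSym, EGens.elE, bitN]
  have p2 : H.pt X 2 = X.e3 := by simp [EHyp.pt, ptSym, EGens.elE, bitN]
  have p3 : H.pt X 3 = X.e4 := by simp [EHyp.pt, ptSym, EGens.elE, bitN]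
  have get : ∀ (τ : Equiv.Perm (Fin 5)), τ 4 = 4 → ∃ s : L, s * X.e1 * s⁻¹ = H.pt X (τ 0) ∧
      s * X.e2 * s⁻¹ = H.pt X (τ 1) ∧ s * X.e3 * s⁻¹ = H.pt X (τ 2) ∧ s * X.e4 * s⁻¹ = H.pt X (τ 3) := by
    intro τ hτ
    obtain ⟨s, hs⟩ := lift τ hτ
    exact ⟨s, by rw [← p0]; exact hs 0, by rw [← p1]; exact hs 1, by rw [← p2]; exact hs 2,
      by rw [← p3]; exact hs 3⟩
  obtain ⟨a, a1, a2, a3, a4⟩ := get (Equiv.swap 0 1) (by decide)
  obtain ⟨b0, b1, b2, b3, b4⟩ := get (Equiv.swap 1 2) (by decide)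
  obtain ⟨c0, c1, c2, c3, c4⟩ := get (Equiv.swap 2 3) (by decide)
  rw [show (Equiv.swap (0 : Fin 5) 1) 0 = 1 by decide, p1] at a1
  rw [show (Equiv.swap (0 : Fin 5) 1) 1 = 0 by decide, p0] at a2
  rw [show (Equiv.swap (0 : Fin 5) 1) 2 = 2 by decide, p2] at a3
  rw [show (Equiv.swap (0 : Fin 5) 1) 3 = 3 by decide, p3] at a4
  rw [show (Equiv.swap (1 : Fin 5) 2) 0 = 0 by decide, p0] at b1
  rw [show (Equiv.swap (1 : Fin 5) 2) 1 = 2 by decide, p2] at b2
  rw [show (Equiv.swap (1 : Fin 5) 2) 2 = 1 by decide, p1] at b3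
  rw [show (Equiv.swap (1 : Fin 5) 2) 3 = 3 by decide, p3] at b4
  rw [show (Equiv.swap (2 : Fin 5) 3) 0 = 0 by decide, p0] at c1
  rw [show (Equiv.swap (2 : Fin 5) 3) 1 = 1 by decide, p1] at c2
  rw [show (Equiv.swap (2 : Fin 5) 3) 2 = 3 by decide, p3] at c3
  rw [show (Equiv.swap (2 : Fin 5) 3) 3 = 2 by decide, p2] at c4
  have conj2 : ∀ u v e : L, u * v * e * (u * v)⁻¹ = u * (v * e * v⁻¹) * u⁻¹ := fun u v e => by group
  have conjz : ∀ (u : L) (k : ℕ) (e : L), z ^ k * u * e * (z ^ k * u)⁻¹ = u * e * u⁻¹ := fun u k e => by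
    have hk : Commute (u * e * u⁻¹) (z ^ k) := Commute.pow_right (H.central _) k
    calc z ^ k * u * e * (z ^ k * u)⁻¹ = z ^ k * (u * e * u⁻¹) * (z ^ k)⁻¹ := by group
      _ = u * e * u⁻¹ := by rw [← hk.eq]; group
  have one_conj : ∀ e : L, (1 : L) * e * (1 : L)⁻¹ = e := fun e => by group
  have hzz : z * z = 1 := H.z_sq
  have hzp : ∀ n : ℕ, z ^ n * z ^ n = 1 := fun n => by
    rw [← pow_add, ← two_mul, pow_mul, pow_two, hzz, one_pow]
  obtain ⟨α, hα⟩ := exists_central H X hX (a := a * a) (b := 1)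
    (by rw [conj2, a1, a2, one_conj]) (by rw [conj2, a2, a1, one_conj])
    (by rw [conj2, a3, a3, one_conj]) (by rw [conj2, a4, a4, one_conj])
  rw [mul_one] at hα
  -- normalising the second lift
  obtain ⟨γ, hγ⟩ := exists_central H X hX (a := b0 * (a * b0)) (b := a * (b0 * a))
    (by simp only [conj2, a1, a2, a3, a4, b1, b2, b3, b4])
    (by simp only [conj2, a1, a2, a3, a4, b1, b2, b3, b4])
    (by simp only [conj2, a1, a2, a3, a4, b1, b2, b3, b4])
    (by simp only [conj2, a1, a2, a3, a4, b1, b2, b3, b4])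
  obtain ⟨k, b, hb, hab⟩ : ∃ k : ℕ, ∃ b : L, b = z ^ k * b0 ∧ b * (a * b) = z ^ α.toNat * (a * (b * a)) := by
    refine ⟨γ.toNat + α.toNat, _, rfl, ?_⟩
    set k := γ.toNat + α.toNat with hk
    have ck : ∀ w : L, w * z ^ k = z ^ k * w := fun w => (Commute.pow_right (H.central w) k).eq
    calc z ^ k * b0 * (a * (z ^ k * b0)) = z ^ k * z ^ k * (b0 * (a * b0)) := by
          simp [mul_assoc, lm (ck a), lm (ck b0)]
      _ = z ^ γ.toNat * (a * (b0 * a)) := by rw [hzp, one_mul, hγ]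
      _ = z ^ α.toNat * z ^ k * (a * (b0 * a)) := by
          rw [← pow_add, show α.toNat + k = γ.toNat + (α.toNat + α.toNat) by omega, pow_add, pow_add, hzp,
            mul_one]
      _ = z ^ α.toNat * (a * (z ^ k * b0 * a)) := by simp [mul_assoc, lm (ck a)]
  have b1' : b * X.e1 * b⁻¹ = X.e1 := by rw [hb, conjz, b1]
  have b2' : b * X.e2 * b⁻¹ = X.e3 := by rw [hb, conjz, b2]
  have b3' : b * X.e3 * b⁻¹ = X.e2 := by rw [hb, conjz, b3]
  have b4' : b * X.e4 * b⁻¹ = X.e4 := by rw [hb, conjz, b4]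
  have sq_of_braid : ∀ u v : L, ∀ d e : Bool, u * u = z ^ d.toNat →
      v * (u * v) = z ^ e.toNat * (u * (v * u)) → v * v = z ^ d.toNat := by
    intro u v d e huu hbr
    have ce : ∀ x : L, x * z ^ e.toNat = z ^ e.toNat * x := fun x => (Commute.pow_right (H.central x) _).eq
    have cd : ∀ x : L, x * z ^ d.toNat = z ^ d.toNat * x := fun x => (Commute.pow_right (H.central x) _).eq
    have h1 : v * u * v * (v * u)⁻¹ = z ^ e.toNat * u := by
      rw [mul_assoc v u v, hbr]; group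
    have h2 : v * u * (v * v) * (v * u)⁻¹ = z ^ d.toNat := by
      rw [show v * u * (v * v) * (v * u)⁻¹ = v * u * v * (v * u)⁻¹ * (v * u * v * (v * u)⁻¹) by group, h1,
        mul_assoc, ← mul_assoc u, ce u, mul_assoc, huu, ← mul_assoc, hzp, one_mul]
    calc v * v = (v * u)⁻¹ * (v * u * (v * v) * (v * u)⁻¹) * (v * u) := by group
      _ = z ^ d.toNat := by rw [h2, cd (v * u)⁻¹]; group
  have hb2 : b * b = z ^ α.toNat := sq_of_braid a b α α hα hab
  -- normalising the third lift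
  obtain ⟨δ, hδ⟩ := exists_central H X hX (a := c0 * (b * c0)) (b := b * (c0 * b))
    (by simp only [conj2, c1, c2, c3, c4, b1', b2', b3', b4'])
    (by simp only [conj2, c1, c2, c3, c4, b1', b2', b3', b4'])
    (by simp only [conj2, c1, c2, c3, c4, b1', b2', b3', b4'])
    (by simp only [conj2, c1, c2, c3, c4, b1', b2', b3', b4'])
  obtain ⟨k', c, hc, hbc⟩ : ∃ k : ℕ, ∃ c : L, c = z ^ k * c0 ∧ c * (b * c) = z ^ α.toNat * (b * (c * b)) := by
    refine ⟨δ.toNat + α.toNat, _, rfl, ?_⟩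
    set k := δ.toNat + α.toNat with hk
    have ck : ∀ w : L, w * z ^ k = z ^ k * w := fun w => (Commute.pow_right (H.central w) k).eq
    calc z ^ k * c0 * (b * (z ^ k * c0)) = z ^ k * z ^ k * (c0 * (b * c0)) := by
          simp [mul_assoc, lm (ck b), lm (ck c0)]
      _ = z ^ δ.toNat * (b * (c0 * b)) := by rw [hzp, one_mul, hδ]
      _ = z ^ α.toNat * z ^ k * (b * (c0 * b)) := by
          rw [← pow_add, show α.toNat + k = δ.toNat + (α.toNat + α.toNat) by omega, pow_add, pow_add, hzp,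
            mul_one]
      _ = z ^ α.toNat * (b * (z ^ k * c0 * b)) := by simp [mul_assoc, lm (ck b)]
  have c1' : c * X.e1 * c⁻¹ = X.e1 := by rw [hc, conjz, c1]
  have c2' : c * X.e2 * c⁻¹ = X.e2 := by rw [hc, conjz, c2]
  have c3' : c * X.e3 * c⁻¹ = X.e4 := by rw [hc, conjz, c3]
  have c4' : c * X.e4 * c⁻¹ = X.e3 := by rw [hc, conjz, c4]
  have hc2 : c * c = z ^ α.toNat := sq_of_braid b c α α hb2 hbc
  obtain ⟨β, hβ⟩ := exists_central H X hX (a := c * a) (b := a * c)
    (by simp only [conj2, a1, a2, a3, a4, c1', c2', c3', c4'])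
    (by simp only [conj2, a1, a2, a3, a4, c1', c2', c3', c4'])
    (by simp only [conj2, a1, a2, a3, a4, c1', c2', c3', c4'])
    (by simp only [conj2, a1, a2, a3, a4, c1', c2', c3', c4'])
  have mk : ∀ {s u v : L}, s * u * s⁻¹ = v → s * u = v * s := fun h => by
    rw [← h, inv_mul_cancel_right]
  let Y : Gens α β L z :=
    { X with
      s1 := a, s2 := b, s3 := c
      s1_z := H.central _, s2_z := H.central _, s3_z := H.central _
      s1_e1 := mk a1, s1_e2 := mk a2, s1_e3 := mk a3, s1_e4 := mk a4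
      s2_e1 := mk b1', s2_e2 := mk b2', s2_e3 := mk b3', s2_e4 := mk b4'
      s3_e1 := mk c1', s3_e2 := mk c2', s3_e3 := mk c3', s3_e4 := mk c4'
      s1_sq := hα, s2_sq := hb2, s3_sq := hc2
      s31 := hβ, s212 := hab, s323 := hbc }
  have hinj : ∀ g h : ℕ, g < 768 → h < 768 → Y.el g = Y.el h → g = h := by
    intro g h hg hh he
    have hgx : g % 32 < 32 := Nat.mod_lt _ (by omega)
    have hhx : h % 32 < 32 := Nat.mod_lt _ (by omega)
    have hp : g / 32 = h / 32 := by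
      by_contra hne
      have hd : allB 24 (fun p => allB 24 fun q => p == q ||
          anyB 4 fun i => act p (2 ^ i) % 16 != act q (2 ^ i) % 16) = true := by decide +kernel
      have h1 := allB_spec (allB_spec hd (i := g / 32) (by omega)) (i := h / 32) (by omega)
      rw [Bool.or_eq_true, beq_iff_eq] at h1
      obtain ⟨i, hi, h2⟩ := anyB_spec (h1.resolve_left hne)
      rw [bne_iff_ne] at h2
      have h2i : 2 ^ i < 32 :=
        lt_of_le_of_lt (Nat.pow_le_pow_right (by omega) (by omega : i ≤ 3)) (by norm_num)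
      have key : ∀ n : ℕ, n < 768 → ∃ x < 32, Y.el n * X.elE (2 ^ i) = X.elE x * Y.el n ∧
          x % 16 = act (n / 32) (2 ^ i) % 16 := by
        intro n hn
        have hn' : n / 32 < 24 := by omega
        have hnx : n % 32 < 32 := Nat.mod_lt _ (by omega)
        have hax := act_lt hn' h2i
        have h3 : Y.el n * X.elE (2 ^ i) = X.elE (eMul (n % 32) (act (n / 32) (2 ^ i))) * Y.elD (n / 32) := by
          unfold Gens.el
          rw [mul_assoc, Y.elD_elE hn' h2i, ← mul_assoc, X.elE_mul hnx hax]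
        rcases H.comm _ (H.elE_mem X hX (n % 32)) _ (H.elE_mem X hX (act (n / 32) (2 ^ i))) with h4 | h4
        · refine ⟨_, hax, ?_, rfl⟩
          rw [h3, ← X.elE_mul hnx hax, h4]
          unfold Gens.el
          rw [mul_assoc]
        · refine ⟨act (n / 32) (2 ^ i) ^^^ 16, xor_lt hax (k := 1) (by omega), ?_, ?_⟩
          · rw [h3, ← X.elE_mul hnx hax, h4, ← X.z_elE hax]
            unfold Gens.el
            simp [mul_assoc, Y]
          · have hd' : allB 32 (fun a => (a ^^^ 16) % 16 == a % 16) = true := by decide +kernel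
            exact eq_of_beq (allB_spec hd' hax)
      obtain ⟨x, hx, e1, m1⟩ := key g hg
      obtain ⟨y, hy, e2, m2⟩ := key h hh
      rw [he] at e1
      exact h2 (by rw [← m1, ← m2, H.elE_inj X hx hy (mul_right_cancel (e1.symm.trans e2))])
    have hx' : X.elE (g % 32) = X.elE (h % 32) := by
      unfold Gens.el at he
      rw [hp] at he
      exact mul_right_cancel he
    have := H.elE_inj X hgx hhx hx'
    omega
  refine ⟨α, β, Y, hinj, fun l => ?_⟩
  let f : Fin 768 → L := fun n => Y.el n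
  have hf : Function.Injective f := fun m n e => Fin.ext (hinj m n m.2 n.2 e)
  have hcL : Nat.card L = 768 := by
    rw [Subgroup.card_eq_card_quotient_mul_card_subgroup H.E, hq, H.card_E]
  obtain ⟨n, hn⟩ := (hf.bijective_of_nat_card_le (by rw [hcL, Nat.card_fin])).2 l
  exact ⟨n, n.2, hn⟩

end CfsgLib.AutL34
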