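import Cfsg.Agent.Lib.AutL34.Frame
import Cfsg.Agent.Lib.LargeExtra.Basic
import Cfsg.Agent.Lib.Involutions.BrauerSuzuki
import Cfsg.Prelude.Def_CaseTheorems

/-!
Normal subgroups of odd order.
-/
set_option autoImplicit false
set_option maxRecDepth 10000

namespace CfsgLib.AutL34

universe u

theorem normE_check (α β : Bool) : allB 768 (fun c => allB 4 (fun i => decide (conjC α β c (2 ^ i) < 32)) &&
    (!(allB 4 fun i => commC α β c (2 ^ i)) || decide (c < 32))) = true := by
  cases α <;> cases β <;> decide +kernel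

theorem expE_check (α β : Bool) : allB 32 (fun g => sqC α β (sqC α β g) == 0) = true := by
  cases α <;> cases β <;> decide +kernel

theorem mulE_check (α β : Bool) : allB 32 (fun g => allB 32 fun h => decide (mulC α β g h < 32)) = true := by
  cases α <;> cases β <;> decide +kernel

namespace Frame

variable {G : Type u} [Group G] [Finite G] {z : G} (F : Frame G z)

theorem eq_one_of_lt {g : ℕ} (hg : g < 32) (h : ¬ 2 ∣ orderOf (F.el g)) : F.el g = 1 := by
  have hs := eq_of_beq (allB_spec (expE_check F.α F.β) hg)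
  have h4 : F.el g ^ 2 ^ 2 = 1 := by
    rw [show (2 : ℕ) ^ 2 = 2 + 2 from rfl, pow_add, pow_two, F.el_mul (by omega) (by omega)]
    exact (F.sqC_iff (mulC_lt _ _ (by omega) (by omega))).1 hs
  obtain ⟨k, -, hk⟩ := (Nat.dvd_prime_pow Nat.prime_two).1 (orderOf_dvd_of_pow_eq_one h4)
  rcases Nat.eq_zero_or_pos k with e | e
  · rw [e, pow_zero] at hk; exact orderOf_eq_one_iff.1 hk
  · exact absurd (hk ▸ dvd_pow_self 2 (by omega : k ≠ 0)) h

include F in
/-- an element of odd order of a normal subgroup of odd order commuting with `z` is trivial -/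
theorem eq_one_of_mem_odd {N : Subgroup G} [hN : N.Normal] (hodd : ¬ 2 ∣ Nat.card N) {x : G} (hx : x ∈ N)
    (hxz : x * z = z * x) : x = 1 := by
  have hord : ∀ y ∈ N, ¬ 2 ∣ orderOf y := fun y hy h =>
    hodd (h.trans (Subgroup.orderOf_dvd_natCard N hy))
  obtain ⟨c, hc, rfl⟩ := F.surj hxz
  have h := allB_spec (normE_check F.α F.β) hc
  simp only [Bool.and_eq_true, Bool.or_eq_true, Bool.not_eq_true', decide_eq_true_eq] at h
  have hcomm : allB 4 (fun i => commC F.α F.β c (2 ^ i)) = true := by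
    refine List.all_eq_true.2 fun i hi => ?_
    have hi4 := List.mem_range.1 hi
    have h2i : 2 ^ i < 32 :=
      lt_of_le_of_lt (Nat.pow_le_pow_right (by omega) (by omega : i ≤ 3)) (by norm_num)
    have h1 := of_decide_eq_true (allB_spec h.1 hi4)
    have hi' : invC F.α F.β (2 ^ i) < 32 := by
      have : allB 32 (fun g => decide (invC F.α F.β g < 32)) = true := by
        cases F.α <;> cases F.β <;> decide +kernel
      exact of_decide_eq_true (allB_spec this h2i)
    have hm := of_decide_eq_true (allB_spec (allB_spec (mulE_check F.α F.β) h1) hi')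
    have e : F.el c * F.el (2 ^ i) * (F.el c)⁻¹ * (F.el (2 ^ i))⁻¹ =
        F.el (mulC F.α F.β (conjC F.α F.β c (2 ^ i)) (invC F.α F.β (2 ^ i))) := by
      rw [F.el_conj hc (by omega), F.el_inv (by omega : 2 ^ i < 768), F.el_mul (by omega) (by omega)]
    have hmem : F.el c * F.el (2 ^ i) * (F.el c)⁻¹ * (F.el (2 ^ i))⁻¹ ∈ N := by
      have := mul_mem hx (hN.conj_mem _ (inv_mem hx) (F.el (2 ^ i)))
      simpa [mul_assoc] using this
    rw [e] at hmem
    have h0 := F.eq_one_of_lt hm (hord _ hmem)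
    rw [← e, mul_inv_eq_one, mul_inv_eq_iff_eq_mul] at h0
    exact (F.commC_iff hc (by omega)).2 h0
  rw [hcomm] at h
  exact F.eq_one_of_lt (h.2.resolve_left (by simp)) (hord _ hx)

theorem not_dvd_oddCore : ¬ 2 ∣ Nat.card (Cfsg.oddCore G) := by
  haveI : Fact (Nat.Prime 2) := ⟨Nat.prime_two⟩
  exact CfsgLib.PCore.not_dvd_card_pPrimeCore

include F in
/-- `z` inverts the odd core -/
theorem inverts_oddCore {x : G} (hx : x ∈ Cfsg.oddCore G) : z * x * z⁻¹ = x⁻¹ := by
  haveI : (Cfsg.oddCore G).Normal := Cfsg.pPrimeCore_normal 2 G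
  refine CfsgLib.LargeExtra.inverts_of_fixed_point_free
    (by rw [← Nat.not_even_iff_odd, even_iff_two_dvd]; exact not_dvd_oddCore)
    (by rw [Subgroup.normalizer_eq_top]; trivial) F.z_sq
    (fun k hk hzk => F.eq_one_of_mem_odd not_dvd_oddCore hk hzk.symm) hx

include F in
theorem isMulCommutative_oddCore : IsMulCommutative (Cfsg.oddCore G) := by
  refine ⟨⟨fun a b => Subtype.ext ?_⟩⟩
  show (a : G) * b = b * a
  have h := F.inverts_oddCore (mul_mem a.2 b.2)
  have e : z * ((a : G) * b) * z⁻¹ = (z * a * z⁻¹) * (z * b * z⁻¹) := by group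
  rw [e, F.inverts_oddCore a.2, F.inverts_oddCore b.2, ← mul_inv_rev, inv_inj] at h
  exact h.symm

include F in
/-- the odd core is trivial once `z`, `a` and `za` are conjugate -/
theorem oddCore_eq_bot (ha : IsConj z F.a) : Cfsg.oddCore G = ⊥ := by
  haveI : (Cfsg.oddCore G).Normal := Cfsg.pPrimeCore_normal 2 G
  have hconj : ∀ w : G, IsConj z w → ∀ x ∈ Cfsg.oddCore G, w * x * w⁻¹ = x⁻¹ := by
    intro w hw x hx
    obtain ⟨g, rfl⟩ := isConj_iff.1 hw
    have hy : g⁻¹ * x * g ∈ Cfsg.oddCore G := by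
      have := (inferInstance : (Cfsg.oddCore G).Normal).conj_mem x hx g⁻¹
      simpa using this
    calc g * z * g⁻¹ * x * (g * z * g⁻¹)⁻¹ = g * (z * (g⁻¹ * x * g) * z⁻¹) * g⁻¹ := by group
      _ = x⁻¹ := by rw [F.inverts_oddCore hy]; group
  rw [Subgroup.eq_bot_iff_forall]
  intro x hx
  have hza : IsConj z (F.el 31) := ha.trans (isConj_iff.2 ⟨F.el 1, F.conj_one_a⟩)
  have hc := CfsgLib.LargeExtra.commute_mul_of_inverts (hconj z (IsConj.refl z) x hx) (hconj F.a ha x hx)
  rw [F.a_spec.2.2.2.2] at hc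
  have h1 := hconj _ hza x hx
  rw [hc, mul_inv_cancel_right] at h1
  have h2 : orderOf x ∣ 2 := orderOf_dvd_of_pow_eq_one (by
    rw [pow_two]; nth_rewrite 2 [h1]; exact mul_inv_cancel x)
  rcases (Nat.dvd_prime Nat.prime_two).1 h2 with h | h
  · exact orderOf_eq_one_iff.1 h
  · exact absurd ((h ▸ Subgroup.orderOf_dvd_natCard _ hx : 2 ∣ _)) not_dvd_oddCore

end Frame

end CfsgLib.AutL34
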