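import Cfsg.Agent.Lib.AutL34.Conf

/-!
The order of a group with the configuration.
-/
set_option autoImplicit false
set_option linter.style.haveILetI false

namespace CfsgLib.AutL34

open Subgroup
open scoped Pointwise

universe u

/-- A subgroup of order 15 or 45 is commutative. -/
theorem commute_of_card {G : Type u} [Group G] [Finite G] (D : Subgroup G)
    (hD : Nat.card D = 15 ∨ Nat.card D = 45) : ∀ a ∈ D, ∀ b ∈ D, a * b = b * a := by
  haveI : Fact (Nat.Prime 3) := ⟨by norm_num⟩
  haveI : Fact (Nat.Prime 5) := ⟨by norm_num⟩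
  obtain ⟨e, he1, he2, hc⟩ : ∃ e, 1 ≤ e ∧ e ≤ 2 ∧ Nat.card D = 3 ^ e * 5 ^ 1 := by
    rcases hD with h | h
    · exact ⟨1, le_rfl, by norm_num, by rw [h]; norm_num⟩
    · exact ⟨2, by norm_num, le_rfl, by rw [h]; norm_num⟩
  obtain ⟨P⟩ : Nonempty (Sylow 3 D) := inferInstance
  obtain ⟨Q⟩ : Nonempty (Sylow 5 D) := inferInstance
  have hP : Nat.card P = 3 ^ e := by
    rw [P.card_eq_multiplicity, hc, Nat.factorization_mul (by positivity) (by positivity)]
    simp [Nat.Prime.factorization (by norm_num : Nat.Prime 3), Nat.Prime.factorization (by norm_num : Nat.Prime 5)]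
  have hQ : Nat.card Q = 5 ^ 1 := by
    rw [Q.card_eq_multiplicity, hc, Nat.factorization_mul (by positivity) (by positivity)]
    simp [Nat.Prime.factorization (by norm_num : Nat.Prime 3), Nat.Prime.factorization (by norm_num : Nat.Prime 5)]
  have hPi : (P : Subgroup D).index = 5 := by
    have := (P : Subgroup D).card_mul_index
    rw [hP, hc, pow_one] at this
    exact Nat.eq_of_mul_eq_mul_left (by positivity) this
  have hQi : (Q : Subgroup D).index = 3 ^ e := by
    have := (Q : Subgroup D).card_mul_index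
    rw [hQ, hc, mul_comm (3 ^ e)] at this
    exact Nat.eq_of_mul_eq_mul_left (by positivity) this
  have hP1 : Nat.card (Sylow 3 D) = 1 := by
    have hd : Nat.card (Sylow 3 D) ∣ 5 := hPi ▸ P.card_dvd_index
    rcases (Nat.dvd_prime (by norm_num)).1 hd with h | h
    · exact h
    · have := card_sylow_modEq_one 3 D
      rw [h] at this
      exact absurd this (by decide)
  have hQ1 : Nat.card (Sylow 5 D) = 1 := by
    have hd : Nat.card (Sylow 5 D) ∣ 3 ^ e := hQi ▸ Q.card_dvd_index
    obtain ⟨i, hi, h⟩ := (Nat.dvd_prime_pow (by norm_num)).1 hd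
    have := card_sylow_modEq_one 5 D
    rw [h] at this ⊢
    have hi2 : i ≤ 2 := hi.trans he2
    interval_cases i <;> first | rfl | exact absurd this (by decide)
  haveI : Subsingleton (Sylow 3 D) := (Nat.card_eq_one_iff_unique.1 hP1).1
  haveI : Subsingleton (Sylow 5 D) := (Nat.card_eq_one_iff_unique.1 hQ1).1
  have hPn := Sylow.normal_of_subsingleton P
  have hQn := Sylow.normal_of_subsingleton Q
  have hdis : Disjoint (P : Subgroup D) (Q : Subgroup D) :=
    IsPGroup.disjoint_of_ne 3 5 (by norm_num) _ _ P.isPGroup' Q.isPGroup'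
  have htop : ∀ K : Subgroup D, (P : Subgroup D) ≤ K → (Q : Subgroup D) ≤ K → K = ⊤ := by
    intro K h1 h2
    refine Subgroup.eq_top_of_card_eq K (Nat.dvd_antisymm (Subgroup.card_subgroup_dvd_card K) ?_)
    rw [hc, ← hP, ← hQ]
    refine Nat.Coprime.mul_dvd_of_dvd_of_dvd ?_ (Subgroup.card_dvd_of_le h1) (Subgroup.card_dvd_of_le h2)
    rw [hP, hQ]
    exact Nat.Coprime.pow _ _ (by norm_num)
  have hcP : ∀ x ∈ (P : Subgroup D), ∀ y ∈ (P : Subgroup D), x * y = y * x := by
    rcases (show e = 1 ∨ e = 2 by omega) with rfl | rfl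
    · haveI := isCyclic_of_prime_card (α := P) (p := 3) (by rw [hP]; norm_num)
      letI := IsCyclic.commGroup (α := P)
      exact fun x hx y hy => congrArg Subtype.val (mul_comm (⟨x, hx⟩ : P) ⟨y, hy⟩)
    · exact fun x hx y hy => congrArg Subtype.val
        ((IsPGroup.isMulCommutative_of_card_eq_prime_sq hP).is_comm.comm (⟨x, hx⟩ : P) ⟨y, hy⟩)
  have hcQ : ∀ x ∈ (Q : Subgroup D), ∀ y ∈ (Q : Subgroup D), x * y = y * x := by
    haveI := isCyclic_of_prime_card (α := Q) (p := 5) (by rw [hQ]; norm_num)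
    letI := IsCyclic.commGroup (α := Q)
    exact fun x hx y hy => congrArg Subtype.val (mul_comm (⟨x, hx⟩ : Q) ⟨y, hy⟩)
  have hcPQ : ∀ x ∈ (P : Subgroup D), ∀ y ∈ (Q : Subgroup D), x * y = y * x := fun x hx y hy =>
    Subgroup.commute_of_normal_of_disjoint _ _ hPn hQn hdis x y hx hy
  have hcen : Subgroup.center D = ⊤ := by
    refine htop _ (fun x hx => Subgroup.mem_center_iff.2 fun y => ?_)
      (fun x hx => Subgroup.mem_center_iff.2 fun y => ?_)
    · have hy : y ∈ centralizer ({x} : Set D) := by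
        rw [htop (centralizer ({x} : Set D)) (fun z hz => mem_centralizer_singleton_iff.2 (hcP z hz x hx))
          (fun z hz => mem_centralizer_singleton_iff.2 (hcPQ x hx z hz).symm)]
        trivial
      exact mem_centralizer_singleton_iff.1 hy
    · have hy : y ∈ centralizer ({x} : Set D) := by
        rw [htop (centralizer ({x} : Set D)) (fun z hz => mem_centralizer_singleton_iff.2 (hcPQ z hz x hx))
          (fun z hz => mem_centralizer_singleton_iff.2 (hcQ z hz x hx))]
        trivial
      exact mem_centralizer_singleton_iff.1 hy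
  intro a ha b hb
  exact congrArg Subtype.val (Subgroup.mem_center_iff.1 (hcen ▸ mem_top (⟨b, hb⟩ : D)) ⟨a, ha⟩)

namespace Conf

open CfsgLib.CIT.FourRecog (Inc inc_swap inc_smul card_inc mem_conj card_conj conj_eq_self_iff
  conj_congr quot_eq_of_conj commutator_mem)
open CfsgLib.CIT.FourCount (pconj pconj_mk fix_iff pconj_fix pconj_inj card_pconj)

variable {G : Type u} [Group G] [Finite G] {V A : Subgroup G}

/-- An involution of `N(V)` lies in `V` or in a conjugate of `A` under `N(V)`. -/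
theorem invol_normalizer (h : Conf V A) {x : G} (hx : x * x = 1)
    (hxN : x ∈ normalizer (V : Set G)) :
    x ∈ V ∨ ∃ n ∈ normalizer (V : Set G), x ∈ MulAut.conj n • A := by
  haveI : Fact (Nat.Prime 2) := ⟨Nat.prime_two⟩
  set N : Subgroup G := normalizer (V : Set G)
  have hz : IsPGroup 2 ↥(zpowers (⟨x, hxN⟩ : ↥N)) := by
    intro y
    refine ⟨1, ?_⟩
    obtain ⟨i, hi⟩ := y.2
    have hi' : (⟨x, hxN⟩ : ↥N) ^ i = (y : ↥N) := hi
    refine Subtype.ext ?_
    show (y : ↥N) ^ (2 ^ 1) = 1
    rw [pow_one, ← hi', ← zpow_natCast, ← zpow_mul, mul_comm i, zpow_mul, zpow_natCast, pow_two,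
      show (⟨x, hxN⟩ : ↥N) * ⟨x, hxN⟩ = 1 from Subtype.ext hx, one_zpow]
  obtain ⟨P, hP⟩ := hz.exists_le_sylow
  obtain ⟨n, hn⟩ := MulAction.exists_smul_eq ↥N ((syl h).subtype (sup_le_normalizer h)) P
  have hmem : (⟨x, hxN⟩ : ↥N) ∈ MulAut.conj n •
      ((syl h).subtype (sup_le_normalizer h) : Subgroup ↥N) := by
    have := hP (mem_zpowers _)
    rw [← hn, Sylow.coe_subgroup_smul] at this
    exact this
  rw [mem_conj] at hmem
  have hS : (n : G)⁻¹ * x * (n : G) ∈ V ⊔ A := hmem
  have hsq : (n : G)⁻¹ * x * n * ((n : G)⁻¹ * x * n) = 1 := by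
    calc (n : G)⁻¹ * x * n * ((n : G)⁻¹ * x * n) = (n : G)⁻¹ * (x * x) * n := by group
      _ = 1 := by rw [hx]; group
  rcases h.invol _ hS hsq with h' | h'
  · left
    rw [← conj_eq_self_iff.2 n.2, mem_conj]
    exact h'
  · exact Or.inr ⟨n, n.2, mem_conj.2 h'⟩

/-- An involution fixing a point lies in the point's conjugate or in that of a line through it. -/
theorem invol_fix (h : Conf V A) {x : G} (hx : x * x = 1)
    {p : G ⧸ normalizer (V : Set G)} (hfix : x • p = p) :
    x ∈ pconj V p ∨ ∃ l : G ⧸ normalizer (A : Set G), Inc p l ∧ x ∈ pconj A l := by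
  induction p using QuotientGroup.induction_on with | _ g =>
  have hN : g⁻¹ * x * g ∈ normalizer (V : Set G) := by
    have := conj_eq_self_iff.2 ((fix_iff V g x).1 hfix)
    refine conj_eq_self_iff.1 ?_
    rw [conjS_mul, conjS_mul, this, ← conjS_mul, inv_mul_cancel, map_one, one_smul]
  have hsq : g⁻¹ * x * g * (g⁻¹ * x * g) = 1 := by
    calc g⁻¹ * x * g * (g⁻¹ * x * g) = g⁻¹ * (x * x) * g := by group
      _ = 1 := by rw [hx]; group
  rcases invol_normalizer h hsq hN with h' | ⟨n, hn, h'⟩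
  · exact Or.inl (mem_conj.2 h')
  · refine Or.inr ⟨((g * n : G) : G ⧸ _), ⟨g * n, QuotientGroup.eq.2 ?_, rfl⟩, ?_⟩
    · simpa using hn
    · rw [pconj_mk, conjS_mul, mem_conj]
      exact h'

theorem exists_mem_inf (h : Conf V A) : ∃ t ∈ V ⊓ A, t ≠ 1 := by
  have h4 : V ⊓ A ≠ ⊥ := fun e => by
    have := h.card_inf
    rw [e, Subgroup.card_bot] at this
    omega
  obtain ⟨⟨t, ht⟩, ht1⟩ := ne_bot_iff_exists_ne_one.1 h4
  exact ⟨t, ht, fun e => ht1 (Subtype.ext e)⟩

/-- An involution of a conjugate of `A` lies in a conjugate of `V` incident to it. -/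
theorem exists_witness (h : Conf V A) {x a : G} (hx1 : x ≠ 1)
    (hx : x ∈ MulAut.conj a • A) : ∃ g : G, (g : G ⧸ normalizer (A : Set G)) = a ∧
      x ∈ MulAut.conj g • V := by
  obtain ⟨t, ht, ht1⟩ := exists_mem_inf h
  have hne : a⁻¹ * x * a ≠ 1 := fun e => hx1 (by
    calc x = a * (a⁻¹ * x * a) * a⁻¹ := by group
      _ = 1 := by rw [e]; group)
  obtain ⟨n, hn, he⟩ := h.transA t ht.2 ht1 _ (mem_conj.1 hx) hne
  refine ⟨a * n, QuotientGroup.eq.2 (by simpa using inv_mem hn), mem_conj.2 ?_⟩
  rw [show (a * n)⁻¹ * x * (a * n) = n⁻¹ * (a⁻¹ * x * a) * n by group, ← he,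
    show n⁻¹ * (n * t * n⁻¹) * n = t by group]
  exact ht.1

/-- A nontrivial element common to the conjugates of a point and of a line shows incidence. -/
theorem inc_of_mem (h : Conf V A) {x : G} (hx1 : x ≠ 1)
    {p : G ⧸ normalizer (V : Set G)} {l : G ⧸ normalizer (A : Set G)}
    (hp : x ∈ pconj V p) (hl : x ∈ pconj A l) : Inc p l := by
  induction p using QuotientGroup.induction_on with | _ b =>
  induction l using QuotientGroup.induction_on with | _ a =>
  obtain ⟨g, hga, hgx⟩ := exists_witness h hx1 hl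
  refine ⟨g, quot_eq_of_conj ?_, hga⟩
  by_contra hne
  have := eq_bot_of_ne h hne
  exact hx1 (mem_bot.1 (this ▸ ⟨hgx, hp⟩))

/-- Every involution lies in a conjugate of `V`. -/
theorem exists_point (h : Conf V A) {x : G} (hx : orderOf x = 2) :
    ∃ p : G ⧸ normalizer (V : Set G), x ∈ pconj V p := by
  haveI : Fact (Nat.Prime 2) := ⟨Nat.prime_two⟩
  have hx1 : x ≠ 1 := fun e => by simp [e] at hx
  have hsq : x * x = 1 := by rw [← pow_two, ← hx, pow_orderOf_eq_one]
  have hz : IsPGroup 2 ↥(zpowers x) := IsPGroup.of_card (n := 1) (by rw [Nat.card_zpowers, hx, pow_one])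
  obtain ⟨P, hP⟩ := hz.exists_le_sylow
  obtain ⟨c, hc⟩ := MulAction.exists_smul_eq G (syl h) P
  have hm : x ∈ MulAut.conj c • (V ⊔ A) := by
    have := hP (mem_zpowers _)
    rw [← hc, Sylow.coe_subgroup_smul] at this
    exact this
  have hsq' : c⁻¹ * x * c * (c⁻¹ * x * c) = 1 := by
    calc c⁻¹ * x * c * (c⁻¹ * x * c) = c⁻¹ * (x * x) * c := by group
      _ = 1 := by rw [hsq]; group
  rcases h.invol _ (mem_conj.1 hm) hsq' with h' | h'
  · exact ⟨((c : G) : G ⧸ normalizer (V : Set G)), mem_conj.2 h'⟩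
  · obtain ⟨g, -, hg⟩ := exists_witness h hx1 (mem_conj.2 h')
    exact ⟨((g : G) : G ⧸ normalizer (V : Set G)), hg⟩

/-- An involution fixing an incident point and line lies in their join. -/
theorem mem_or_mem (h : Conf V A) {x : G} (hx : x * x = 1)
    {p : G ⧸ normalizer (V : Set G)} {l : G ⧸ normalizer (A : Set G)} (hi : Inc p l)
    (hp : x • p = p) (hl : x • l = l) : x ∈ pconj V p ∨ x ∈ pconj A l := by
  haveI : Fact (Nat.Prime 2) := ⟨Nat.prime_two⟩
  obtain ⟨g, rfl, rfl⟩ := hi
  have key : ∀ (H : Subgroup G), x • (g : G ⧸ normalizer (H : Set G)) = g →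
      g⁻¹ * x * g ∈ normalizer (H : Set G) := by
    intro H he
    refine conj_eq_self_iff.1 ?_
    rw [conjS_mul, conjS_mul, conj_eq_self_iff.2 ((fix_iff H g x).1 he), ← conjS_mul, inv_mul_cancel,
      map_one, one_smul]
  set y := g⁻¹ * x * g with hy
  have hy2 : y * y = 1 := by
    calc y * y = g⁻¹ * (x * x) * g := by rw [hy]; group
      _ = 1 := by rw [hx]; group
  have hN : zpowers y ≤ normalizer ((V ⊔ A : Subgroup G) : Set G) := by
    refine zpowers_le.2 (conj_eq_self_iff.1 ?_)
    rw [Subgroup.smul_sup, conj_eq_self_iff.2 (key V hp), conj_eq_self_iff.2 (key A hl)]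
  have hz : IsPGroup 2 ↥(zpowers y) := by
    rcases eq_or_ne y 1 with e | e
    · exact IsPGroup.of_card (n := 0) (by rw [e, zpowers_one_eq_bot, Subgroup.card_bot, pow_zero])
    · exact IsPGroup.of_card (n := 1)
        (by rw [Nat.card_zpowers, orderOf_eq_prime (by rw [pow_two, hy2]) e, pow_one])
  have hS := h.sylow _ ((isPGroup_sup h).to_sup_of_normal_left' hz hN) le_sup_left
  have hmem : y ∈ V ⊔ A := by
    rw [← hS]
    exact mem_sup_right (mem_zpowers _)
  exact (h.invol y hmem hy2).imp mem_conj.2 mem_conj.2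

theorem le_fix_line (h : Conf V A) {p : G ⧸ normalizer (V : Set G)}
    {l : G ⧸ normalizer (A : Set G)} (hi : Inc p l) {x : G} (hx : x ∈ pconj V p) : x • l = l := by
  induction p using QuotientGroup.induction_on with | _ b =>
  induction l using QuotientGroup.induction_on with | _ a =>
  exact (fix_iff A a x).2 ((inc_data h hi).2.2 hx)

theorem le_fix_point (h : Conf V A) {p : G ⧸ normalizer (V : Set G)}
    {l : G ⧸ normalizer (A : Set G)} (hi : Inc p l) {x : G} (hx : x ∈ pconj A l) : x • p = p :=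
  le_fix_line (symm h) (inc_swap.1 hi) hx

theorem pconj_inf_eq_bot (h : Conf V A) {p q : G ⧸ normalizer (V : Set G)}
    (hpq : p ≠ q) : pconj V p ⊓ pconj V q = ⊥ := by
  induction p using QuotientGroup.induction_on with | _ g =>
  induction q using QuotientGroup.induction_on with | _ g' =>
  exact eq_bot_of_ne h fun e => hpq (quot_eq_of_conj e)

theorem pconj_sq (h : Conf V A) (p : G ⧸ normalizer (V : Set G)) :
    ∀ x ∈ pconj V p, x * x = 1 := by
  induction p using QuotientGroup.induction_on with | _ g =>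
  exact conj_elem h g

/-- An element of order five does not centralise an involution. -/
theorem no_five (h : Conf V A) {f t : G} (hf : orderOf f = 5) (ht1 : t ≠ 1) (ht : t * t = 1)
    (hft : f * t = t * f) : False := by
  have := Subgroup.orderOf_dvd_natCard _ (mem_centralizer_singleton_iff.2 hft :
    f ∈ centralizer ({t} : Set G))
  rw [h.cardC t ht1 ht, hf] at this
  omega

/-- An element of order five of `N(V)` moves every nontrivial coset of `V` in `V A`. -/
theorem no_five_coset (h : Conf V A) {f s : G} (hf : orderOf f = 5) (hfN : f ∈ normalizer (V : Set G))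
    (hs : s ∈ A) (hsV : s ∉ V) (hfs : s⁻¹ * (f * s * f⁻¹) ∈ V) : False := by
  haveI : Fact (Nat.Prime 5) := ⟨by norm_num⟩
  set X : Subgroup G := V ⊓ centralizer ({s} : Set G) with hX
  set v₀ := s⁻¹ * (f * s * f⁻¹) with hv₀
  have key : ∀ x ∈ X, f * x * f⁻¹ ∈ X := by
    intro x hx
    have hfx : f * x * f⁻¹ ∈ V := (mem_normalizer_iff.1 hfN x).1 hx.1
    refine ⟨hfx, mem_centralizer_singleton_iff.2 ?_⟩
    have hxs := mem_centralizer_singleton_iff.1 hx.2
    have hcomm : v₀ * (f * x * f⁻¹) = f * x * f⁻¹ * v₀ :=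
      (conj_commute h 1 (by simpa using hfs) (by simpa using hfx)).eq
    have e : f * x * f⁻¹ * (s * v₀) = s * v₀ * (f * x * f⁻¹) := by
      rw [show s * v₀ = f * s * f⁻¹ by rw [hv₀]; group]
      calc f * x * f⁻¹ * (f * s * f⁻¹) = f * (x * s) * f⁻¹ := by group
        _ = f * (s * x) * f⁻¹ := by rw [hxs]
        _ = f * s * f⁻¹ * (f * x * f⁻¹) := by group
    rw [mul_assoc s, hcomm] at e
    refine mul_right_cancel (b := v₀) ?_
    rw [mul_assoc _ s, e, ← mul_assoc]
  have h4 : 4 ≤ Nat.card X := by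
    rw [← h.card_inf]
    refine Subgroup.card_le_of_le (le_inf inf_le_left fun x hx => mem_centralizer_singleton_iff.2 ?_)
    exact (conj_commute (symm h) 1 (by simpa using hx.2) (by simpa using hs)).eq
  have h16 : Nat.card X < 16 := by
    by_contra hge
    have hVX : X = V := Subgroup.eq_of_le_of_card_ge inf_le_left (by rw [h.card_V]; omega)
    apply hsV
    rw [← h.centV, mem_centralizer_iff]
    intro v hv
    rw [SetLike.mem_coe, ← hVX] at hv
    exact mem_centralizer_singleton_iff.1 hv.2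
  have hd : Nat.card X ∣ 2 ^ 4 := by
    rw [show (2 : ℕ) ^ 4 = 16 from rfl, ← h.card_V]
    exact Subgroup.card_dvd_of_le inf_le_left
  have key' : ∀ g ∈ zpowers f, ∀ x ∈ X, g * x * g⁻¹ ∈ X := by
    have hf' : f ∈ normalizer (X : Set G) := Subgroup.mem_normalizer_fintype key
    exact fun g hg x hx => (mem_normalizer_iff.1 (zpowers_le.2 hf' hg) x).1 hx
  letI : MulAction (zpowers f) X :=
    { smul := fun g x => ⟨(g : G) * x * (g : G)⁻¹, key' g g.2 x x.2⟩
      one_smul := fun x => Subtype.ext (show (1 : G) * x * (1 : G)⁻¹ = x by group)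
      mul_smul := fun g g' x => Subtype.ext (show ((g : G) * g') * x * ((g : G) * g')⁻¹ =
        (g : G) * ((g' : G) * x * (g' : G)⁻¹) * (g : G)⁻¹ by group) }
  have hp : IsPGroup 5 (zpowers f) := IsPGroup.of_card (n := 1) (by rw [Nat.card_zpowers, hf, pow_one])
  have hmod := hp.card_modEq_card_fixedPoints X
  have hfix : ∀ x ∈ MulAction.fixedPoints (zpowers f) X, x = 1 := by
    intro x hx
    by_contra hne
    have h2 : f * (x : G) * f⁻¹ = x := congrArg Subtype.val (hx ⟨f, mem_zpowers f⟩)
    exact no_five h hf (fun e => hne (Subtype.ext e)) (h.elemV _ x.2.1) (mul_inv_eq_iff_eq_mul.1 h2)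
  have hle : Nat.card (MulAction.fixedPoints (zpowers f) X) ≤ 1 :=
    Finite.card_le_one_iff_subsingleton.2 ⟨fun a b => Subtype.ext (by rw [hfix _ a.2, hfix _ b.2])⟩
  obtain ⟨i, hi, e⟩ := (Nat.dvd_prime_pow Nat.prime_two).1 hd
  rw [e] at hmod h4 h16
  unfold Nat.ModEq at hmod
  interval_cases i <;> omega

/-- An element of order three of `N(V)` commuting with one of order five centralises an involution. -/
theorem exists_invol_commute (h : Conf V A) {y f : G} (hy : orderOf y = 3) (hf : orderOf f = 5)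
    (hyN : y ∈ normalizer (V : Set G)) (hfN : f ∈ normalizer (V : Set G)) (hyf : y * f = f * y) :
    ∃ t, t ≠ 1 ∧ t * t = 1 ∧ t * y = y * t := by
  classical
  haveI : Fact (Nat.Prime 2) := ⟨Nat.prime_two⟩
  haveI : Fact (Nat.Prime 3) := ⟨by norm_num⟩
  haveI : Fact (Nat.Prime 5) := ⟨by norm_num⟩
  by_contra hno
  push Not at hno
  set N : Subgroup G := normalizer (V : Set G)
  set M : Subgroup N := V.subgroupOf N with hM
  set q := QuotientGroup.mk' M with hq
  have hmk : ∀ a b : N, q a = q b ↔ (a : G)⁻¹ * b ∈ V := fun a b => QuotientGroup.eq.trans mem_subgroupOf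
  have hcQ : Nat.card (N ⧸ M) = 180 := by
    have := M.card_eq_card_quotient_mul_card_subgroup
    rw [h.card_NV, Nat.card_congr (subgroupOfEquivOfLe le_normalizer).toEquiv, h.card_V] at this
    omega
  have hord : ∀ (n : N) (p : ℕ), p.Prime → p ≠ 2 → orderOf (n : G) = p → orderOf (q n) = p := by
    intro n p hp hp2 hn
    haveI := Fact.mk hp
    refine orderOf_eq_prime ?_ fun e => ?_
    · rw [← map_pow, show n ^ p = 1 from Subtype.ext (by rw [Subgroup.coe_pow, ← hn, pow_orderOf_eq_one]; rfl),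
        map_one]
    · have hv : (n : G) ∈ V := mem_subgroupOf.1 ((QuotientGroup.eq_one_iff n).1 e)
      have := orderOf_dvd_of_pow_eq_one (show (n : G) ^ 2 = 1 by rw [pow_two]; exact h.elemV _ hv)
      rw [hn, Nat.dvd_prime Nat.prime_two] at this
      exact this.elim hp.ne_one hp2
  set yN : N := ⟨y, hyN⟩
  set fN : N := ⟨f, hfN⟩
  have hy' := hord yN 3 (by norm_num) (by norm_num) hy
  have hf' := hord fN 5 (by norm_num) (by norm_num) hf
  set C := centralizer ({q yN} : Set (N ⧸ M)) with hC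
  have h5 : 5 ∣ Nat.card C := by
    rw [← hf']
    refine Subgroup.orderOf_dvd_natCard _ (mem_centralizer_singleton_iff.2 ?_)
    rw [← map_mul, ← map_mul, show fN * yN = yN * fN from Subtype.ext hyf.symm]
  have h9 : 9 ∣ Nat.card C := by
    obtain ⟨P, hP⟩ := (IsPGroup.of_card (n := 1)
      (show Nat.card (zpowers (q yN)) = 3 ^ 1 by rw [Nat.card_zpowers, hy', pow_one])).exists_le_sylow
    have hcP : Nat.card P = 3 ^ 2 := by
      rw [P.card_eq_multiplicity, hcQ, show (180 : ℕ) = 3 ^ 2 * 20 by norm_num,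
        Nat.factorization_mul (by norm_num) (by norm_num), Nat.Prime.factorization_pow (by norm_num)]
      simp [Nat.factorization_eq_zero_of_not_dvd (show ¬ 3 ∣ 20 by norm_num)]
    have hcomm := IsPGroup.isMulCommutative_of_card_eq_prime_sq hcP
    have hle : (P : Subgroup (N ⧸ M)) ≤ C := fun x hx => mem_centralizer_singleton_iff.2
      (congrArg Subtype.val (hcomm.is_comm.comm (⟨x, hx⟩ : P) ⟨q yN, hP (mem_zpowers _)⟩))
    have := Subgroup.card_dvd_of_le hle
    rwa [hcP] at this
  have hC180 : Nat.card C ∣ 180 := hcQ ▸ Subgroup.card_subgroup_dvd_card C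
  -- the centraliser has odd order
  have hodd : ¬ 2 ∣ Nat.card C := by
    intro h2
    obtain ⟨⟨u', hu'⟩, hu⟩ := exists_prime_orderOf_dvd_card' (G := C) 2 h2
    rw [← Subgroup.orderOf_coe] at hu
    change orderOf u' = 2 at hu
    obtain ⟨u, rfl⟩ := QuotientGroup.mk'_surjective M u'
    have hcom := mem_centralizer_singleton_iff.1 hu'
    let ι : V → {v : G // v ∈ V} := fun v => ⟨(v : G) * y * (v : G)⁻¹ * y⁻¹, by
      have := mul_mem v.2 ((mem_normalizer_iff.1 hyN _).1 (inv_mem v.2))
      simpa [mul_assoc] using this⟩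
    have hι : Function.Injective ι := by
      intro a b e
      have e' : (a : G) * y * (a : G)⁻¹ * y⁻¹ = b * y * (b : G)⁻¹ * y⁻¹ := congrArg Subtype.val e
      by_contra hne
      refine hno ((b : G)⁻¹ * a) (fun e1 => hne (Subtype.ext (inv_mul_eq_one.1 e1).symm))
        (h.elemV _ (mul_mem (inv_mem b.2) a.2)) ?_
      calc (b : G)⁻¹ * a * y = (b : G)⁻¹ * (a * y * (a : G)⁻¹ * y⁻¹) * y * a := by group
        _ = y * ((b : G)⁻¹ * a) := by rw [e']; group
    have hmem : (u : G) * y * (u : G)⁻¹ * y⁻¹ ∈ V := by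
      have := (hmk (yN * u) (u * yN)).1 (by rw [map_mul, map_mul, ← hcom])
      have h2 := (mem_normalizer_iff.1 (mul_mem hyN u.2) _).1 this
      simpa [yN, mul_assoc] using h2
    obtain ⟨v, hv⟩ := (Finite.surjective_of_injective hι) ⟨_, hmem⟩
    have hv' : (v : G) * y * (v : G)⁻¹ * y⁻¹ = u * y * (u : G)⁻¹ * y⁻¹ := congrArg Subtype.val hv
    set c : N := ⟨(v : G)⁻¹, inv_mem (le_normalizer v.2)⟩ * u with hc
    have hqc : q c = q u := by
      rw [hc, map_mul, show q ⟨(v : G)⁻¹, _⟩ = 1 from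
        (QuotientGroup.eq_one_iff _).2 (mem_subgroupOf.2 (inv_mem v.2)), one_mul]
    have hcy : (c : G) * y = y * c := by
      show (v : G)⁻¹ * u * y = y * ((v : G)⁻¹ * u)
      calc (v : G)⁻¹ * u * y = (v : G)⁻¹ * (u * y * (u : G)⁻¹ * y⁻¹) * y * u := by group
        _ = y * ((v : G)⁻¹ * u) := by rw [← hv']; group
    have h2c : 2 ∣ orderOf (c : G) := by
      rw [← hu, ← hqc, Subgroup.orderOf_coe]
      exact orderOf_map_dvd q c
    obtain ⟨k, hk⟩ := h2c
    have hk0 : k ≠ 0 := fun e => (orderOf_pos (c : G)).ne' (by rw [hk, e])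
    refine hno ((c : G) ^ k) (fun e => ?_) ?_ (Commute.pow_left hcy k).eq
    · have := Nat.le_of_dvd (by omega) (orderOf_dvd_of_pow_eq_one e)
      omega
    · rw [← pow_add, ← two_mul, ← hk, pow_orderOf_eq_one]
  have h45 : Nat.card C = 45 := by
    have hd : Nat.card C ∣ 45 := by
      exact Nat.Coprime.dvd_of_dvd_mul_left
        (((Nat.Prime.coprime_iff_not_dvd Nat.prime_two).2 hodd).symm.pow_right 2)
        (show Nat.card C ∣ 2 ^ 2 * 45 from hC180)
    exact Nat.dvd_antisymm hd (Nat.Coprime.mul_dvd_of_dvd_of_dvd (by norm_num : Nat.Coprime 9 5) h9 h5)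
  -- hence the subgroup of order five is normal
  set R := zpowers (q fN) with hR
  have hcR : Nat.card R = 5 ^ 1 := by rw [hR, Nat.card_zpowers, hf', pow_one]
  have hRC : R ≤ C := zpowers_le.2 (mem_centralizer_singleton_iff.2 (by
    rw [← map_mul, ← map_mul, show fN * yN = yN * fN from Subtype.ext hyf.symm]))
  let P5 : Sylow 5 (N ⧸ M) := Sylow.ofCard R (by
    rw [hcR, hcQ, show (180 : ℕ) = 5 ^ 1 * 36 by norm_num, Nat.factorization_mul (by norm_num) (by norm_num),
      Nat.Prime.factorization_pow (by norm_num)]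
    simp [Nat.factorization_eq_zero_of_not_dvd (show ¬ 5 ∣ 36 by norm_num)])
  have hnR : R.Normal := by
    rw [← Subgroup.normalizer_eq_top_iff]
    have hsub : C ≤ normalizer (R : Set (N ⧸ M)) := by
      have : (R.subgroupOf C).Normal := by
        obtain ⟨Q⟩ : Nonempty (Sylow 5 C) := inferInstance
        have h1 : Nat.card (Sylow 5 C) = 1 := by
          have hd : Nat.card (Sylow 5 C) ∣ (Q : Subgroup C).index := Q.card_dvd_index
          have hi := (Q : Subgroup C).card_mul_index
          rw [Q.card_eq_multiplicity, h45, show (45 : ℕ) = 5 ^ 1 * 9 by norm_num,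
            Nat.factorization_mul (by norm_num) (by norm_num), Nat.Prime.factorization_pow (by norm_num)] at hi
          simp [Nat.factorization_eq_zero_of_not_dvd (show ¬ 5 ∣ 9 by norm_num)] at hi
          rw [show (Q : Subgroup C).index = 9 by omega] at hd
          have hmod := card_sylow_modEq_one 5 C
          have hle := Nat.le_of_dvd (by norm_num) hd
          unfold Nat.ModEq at hmod
          interval_cases hk : Nat.card (Sylow 5 C) <;> omega
        haveI : Subsingleton (Sylow 5 C) := (Nat.card_eq_one_iff_unique.1 h1).1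
        have h' := Sylow.normal_of_subsingleton (P5.subtype hRC)
        exact h'
      exact Subgroup.normal_subgroupOf_iff_le_normalizer hRC |>.1 this
    have hidx : (normalizer (R : Set (N ⧸ M))).index ∣ 4 := by
      refine (Subgroup.index_dvd_of_le hsub).trans (dvd_of_eq ?_)
      have := C.card_mul_index
      rw [hcQ, h45] at this
      omega
    have hmod : Nat.card (Sylow 5 (N ⧸ M)) ≡ 1 [MOD 5] := card_sylow_modEq_one 5 (N ⧸ M)
    rw [P5.card_eq_index_normalizer] at hmod
    rw [← Subgroup.index_eq_one]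
    change (normalizer (R : Set (N ⧸ M))).index ≡ 1 [MOD 5] at hmod
    have hle := Nat.le_of_dvd (by norm_num) hidx
    unfold Nat.ModEq at hmod
    interval_cases hk : (normalizer (R : Set (N ⧸ M))).index <;> omega
  -- three involutions act on it
  obtain ⟨s, hs, hsV, hsf⟩ : ∃ s : N, (s : G) ∈ A ∧ (s : G) ∉ V ∧ q s * q fN = q fN * q s := by
    obtain ⟨s₁, hs₁, hs₁V⟩ : ∃ s ∈ A, s ∉ V := by
      by_contra hall
      push Not at hall
      exact ne h (Subgroup.eq_of_le_of_card_ge hall (by rw [h.card_A, h.card_V])).symm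
    obtain ⟨s₂, hs₂, hs₂V, hs₁₂⟩ : ∃ s ∈ A, s ∉ V ∧ s₁ * s ∉ V := by
      by_contra hall
      push Not at hall
      haveI := Fintype.ofFinite G
      have hsub : (Finset.univ.filter fun x : G => x ∈ A) ⊆ (Finset.univ.filter fun x : G => x ∈ V ⊓ A) ∪
          (Finset.univ.filter fun x : G => x ∈ V ⊓ A).image (fun w => s₁⁻¹ * w) := by
        intro x hx
        have hxA := (Finset.mem_filter.1 hx).2
        by_cases hxV : x ∈ V
        · exact Finset.mem_union_left _ (by simp [hxV, hxA])
        · refine Finset.mem_union_right _ (Finset.mem_image.2 ⟨s₁ * x, ?_, by group⟩)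
          simp [hall x hxA hxV, mul_mem hs₁ hxA]
      have hc : ∀ K : Subgroup G, (Finset.univ.filter fun x : G => x ∈ K).card = Nat.card ↥K :=
        fun K => by rw [Nat.card_eq_fintype_card, ← Fintype.card_subtype]
      have := (Finset.card_le_card hsub).trans ((Finset.card_union_le _ _).trans
        (Nat.add_le_add_left Finset.card_image_le _))
      rw [hc, hc, h.card_A, h.card_inf] at this
      omega
    have act : ∀ s : N, (s : G) ∈ A → q s * q fN * (q s)⁻¹ = q fN ∨ q s * q fN * (q s)⁻¹ = (q fN)⁻¹ := by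
      intro s hsA
      have hs2 : q s * q s = 1 := by
        rw [← map_mul, show s * s = 1 from Subtype.ext (h.elemA _ hsA), map_one]
      have hm := hnR.conj_mem _ (mem_zpowers (q fN)) (q s)
      obtain ⟨k, -, hk⟩ : ∃ k < 5, q fN ^ k = q s * q fN * (q s)⁻¹ := by
        obtain ⟨k, hk⟩ := (mem_powers_iff_mem_zpowers).2 hm
        exact ⟨k % 5, Nat.mod_lt _ (by norm_num), by
          rw [← hf', pow_mod_orderOf]; exact hk⟩
      have hsq : q fN ^ (k * k) = q fN ^ 1 := by
        calc q fN ^ (k * k) = (q s * q fN * (q s)⁻¹) ^ k := by rw [pow_mul, hk]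
          _ = q s * (q fN ^ k) * (q s)⁻¹ := conj_pow
          _ = q s * q s * q fN * (q s * q s)⁻¹ := by rw [hk]; group
          _ = q fN ^ 1 := by rw [hs2]; group
      rw [pow_inj_mod, hf'] at hsq
      have hk4 : k % 5 = 1 ∨ k % 5 = 4 := by
        rw [Nat.mul_mod] at hsq
        have : k % 5 < 5 := Nat.mod_lt _ (by norm_num)
        interval_cases hk' : k % 5 <;> omega
      rw [← hk, ← pow_mod_orderOf, hf']
      refine hk4.imp (fun e => by rw [e, pow_one]) fun e => ?_
      rw [e]
      refine eq_inv_of_mul_eq_one_left ?_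
      rw [← pow_succ, show 4 + 1 = orderOf (q fN) from hf'.symm, pow_orderOf_eq_one]
    let a : N := ⟨s₁, h.normal_left hs₁⟩
    let b : N := ⟨s₂, h.normal_left hs₂⟩
    rcases act a hs₁ with e₁ | e₁
    · exact ⟨a, hs₁, hs₁V, mul_inv_eq_iff_eq_mul.1 e₁⟩
    rcases act b hs₂ with e₂ | e₂
    · exact ⟨b, hs₂, hs₂V, mul_inv_eq_iff_eq_mul.1 e₂⟩
    refine ⟨a * b, mul_mem hs₁ hs₂, hs₁₂, mul_inv_eq_iff_eq_mul.1 ?_⟩
    calc q (a * b) * q fN * (q (a * b))⁻¹ = q a * (q b * q fN * (q b)⁻¹) * (q a)⁻¹ := by rw [map_mul]; group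
      _ = (q a * q fN * (q a)⁻¹)⁻¹ := by rw [e₂]; group
      _ = q fN := by rw [e₁, inv_inv]
  refine no_five_coset h hf hfN hs hsV ?_
  have := (hmk s (fN * s * fN⁻¹)).1 (by rw [map_mul, map_mul, map_inv, ← hsf]; group)
  simpa [fN] using this

/-- At most fourteen involutions exchange two points without common line. -/
theorem card_swapping_le (h : Conf V A) {q : G ⧸ normalizer (V : Set G)}
    (hne : ((1 : G) : G ⧸ normalizer (V : Set G)) ≠ q)
    (hcol : ¬ ∃ l : G ⧸ normalizer (A : Set G), Inc ((1 : G) : G ⧸ normalizer (V : Set G)) l ∧ Inc q l)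
    (X : Finset G) (hX : ∀ x ∈ X, x * x = 1 ∧ x • ((1 : G) : G ⧸ normalizer (V : Set G)) = q)
    (hbig : 14 < X.card) : False := by
  classical
  haveI : Fact (Nat.Prime 2) := ⟨Nat.prime_two⟩
  haveI : Fact (Nat.Prime 3) := ⟨by norm_num⟩
  haveI : Fact (Nat.Prime 5) := ⟨by norm_num⟩
  set p₀ : G ⧸ normalizer (V : Set G) := ((1 : G) : G ⧸ normalizer (V : Set G))
  set D : Subgroup G := normalizer (V : Set G) ⊓ MulAction.stabilizer G q with hD
  have hfp : ∀ g : G, g • p₀ = p₀ ↔ g ∈ normalizer (V : Set G) := fun g => by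
    rw [fix_iff, map_one, one_smul]
  have hodd : ¬ 2 ∣ Nat.card ↥D := by
    intro h2
    obtain ⟨t, ht⟩ := exists_prime_orderOf_dvd_card' (G := ↥D) 2 h2
    have htG : orderOf (t : G) = 2 := by rw [Subgroup.orderOf_coe, ht]
    have ht1 : (t : G) ≠ 1 := fun e => by simp [e] at htG
    have hsq : (t : G) * t = 1 := by rw [← pow_two, ← htG, pow_orderOf_eq_one]
    rcases invol_fix h hsq ((hfp _).2 t.2.1) with hv | ⟨l, hl, hla⟩
    · rcases invol_fix h hsq t.2.2 with hv' | ⟨m, hm, hma⟩
      · exact ht1 (mem_bot.1 (pconj_inf_eq_bot h hne ▸ ⟨hv, hv'⟩))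
      · exact hcol ⟨m, inc_of_mem h ht1 hv hma, hm⟩
    · rcases invol_fix h hsq t.2.2 with hv' | ⟨m, hm, hma⟩
      · exact hcol ⟨l, hl, inc_of_mem h ht1 hv' hla⟩
      · rcases eq_or_ne l m with rfl | hlm
        · exact hcol ⟨l, hl, hm⟩
        · exact ht1 (mem_bot.1 (pconj_inf_eq_bot (symm h) hlm ▸ ⟨hla, hma⟩))
  have h45 : Nat.card ↥D ∣ 45 := by
    refine Nat.Coprime.dvd_of_dvd_mul_left
      (((Nat.Prime.coprime_iff_not_dvd Nat.prime_two).2 hodd).symm.pow_right 6)
      (show Nat.card D ∣ 2 ^ 6 * 45 from ?_)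
    have := Subgroup.card_dvd_of_le (inf_le_left : D ≤ normalizer (V : Set G))
    rw [h.card_NV] at this
    exact this
  obtain ⟨x₀, hx₀⟩ : X.Nonempty := Finset.card_pos.1 (by omega)
  obtain ⟨hx₀2, hx₀q⟩ := hX x₀ hx₀
  have hmemD : ∀ x ∈ X, x₀ * x ∈ D := by
    intro x hx
    obtain ⟨hx2, hxq⟩ := hX x hx
    refine ⟨(hfp _).1 ?_, ?_⟩
    · rw [mul_smul, hxq, ← hx₀q, smul_smul, hx₀2, one_smul]
    · show (x₀ * x) • q = q
      have : x • q = p₀ :=
        (congrArg (x • ·) hxq.symm).trans (by rw [smul_smul, hx2, one_smul])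
      rw [mul_smul, this, hx₀q]
  have hcardX : X.card ≤ Nat.card D := by
    rw [← Nat.card_eq_finsetCard]
    exact Nat.card_le_card_of_injective (fun x => (⟨x₀ * (x : G), hmemD x x.2⟩ : D))
      (fun x y e => Subtype.ext (mul_left_cancel (congrArg Subtype.val e)))
  have hDc : Nat.card D = 15 ∨ Nat.card D = 45 := by
    have hm : Nat.card ↥D ∈ Nat.divisors 45 := Nat.mem_divisors.2 ⟨h45, by norm_num⟩
    rw [show Nat.divisors 45 = {1, 3, 5, 9, 15, 45} by decide] at hm
    simp only [Finset.mem_insert, Finset.mem_singleton] at hm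
    omega
  have hcomm := commute_of_card D hDc
  -- the elements inverted by `x₀`
  let K : Subgroup G :=
    { carrier := {d | d ∈ D ∧ x₀ * d * x₀ = d⁻¹}
      one_mem' := ⟨one_mem _, by rw [mul_one, hx₀2, inv_one]⟩
      mul_mem' := by
        rintro a b ⟨ha, ha'⟩ ⟨hb, hb'⟩
        refine ⟨mul_mem ha hb, ?_⟩
        calc x₀ * (a * b) * x₀ = x₀ * a * (x₀ * x₀) * b * x₀ := by rw [hx₀2]; group
          _ = (x₀ * a * x₀) * (x₀ * b * x₀) := by group
          _ = (b * a)⁻¹ := by rw [ha', hb']; group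
          _ = (a * b)⁻¹ := by rw [hcomm a ha b hb]
      inv_mem' := by
        rintro a ⟨ha, ha'⟩
        refine ⟨inv_mem ha, ?_⟩
        calc x₀ * a⁻¹ * x₀ = (x₀⁻¹ * a * x₀⁻¹)⁻¹ := by group
          _ = (a⁻¹)⁻¹ := by rw [inv_eq_of_mul_eq_one_right hx₀2, ha'] }
  have hKcard : X.card ≤ Nat.card K := by
    rw [← Nat.card_eq_finsetCard]
    refine Nat.card_le_card_of_injective (fun x => (⟨x₀ * (x : G), hmemD x x.2, ?_⟩ : K))
      (fun x y e => Subtype.ext (mul_left_cancel (congrArg Subtype.val e)))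
    rw [mul_inv_rev, inv_eq_of_mul_eq_one_right hx₀2, inv_eq_of_mul_eq_one_right (hX x x.2).1,
      ← mul_assoc x₀ x₀, hx₀2, one_mul]
  have hKD : Nat.card K ∣ 45 := (Subgroup.card_dvd_of_le (fun d hd => hd.1 : K ≤ D)).trans h45
  have h3 : 3 ∣ Nat.card K := by
    have hm : Nat.card ↥K ∈ Nat.divisors 45 := Nat.mem_divisors.2 ⟨hKD, by norm_num⟩
    rw [show Nat.divisors 45 = {1, 3, 5, 9, 15, 45} by decide] at hm
    simp only [Finset.mem_insert, Finset.mem_singleton] at hm
    omega
  obtain ⟨y, hy⟩ := exists_prime_orderOf_dvd_card' (G := K) 3 h3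
  obtain ⟨f, hf⟩ := exists_prime_orderOf_dvd_card' (G := D) 5 (by omega)
  rw [← Subgroup.orderOf_coe] at hy hf
  have hyD : (y : G) ∈ D := y.2.1
  have hy1 : (y : G) ≠ 1 := fun e => by simp [e] at hy
  refine h.noInv (y : G) x₀ hy1 (by rw [← hy, pow_orderOf_eq_one])
    (exists_invol_commute h hy hf hyD.1 f.2.1 (hcomm _ hyD _ f.2)) ?_
  rw [inv_eq_of_mul_eq_one_right hx₀2]
  exact y.2.2

/-- The order of a group with the configuration. -/
theorem card_eq (h : Conf V A) : Nat.card G = 60480 ∧ (Subgroup.normalizer (V : Set G)).index = 21 := by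
  classical
  haveI : Fact (Nat.Prime 2) := ⟨Nat.prime_two⟩
  haveI : Fintype G := Fintype.ofFinite G
  haveI : Fintype (G ⧸ normalizer (V : Set G)) := Fintype.ofFinite _
  haveI : Fintype (G ⧸ normalizer (A : Set G)) := Fintype.ofFinite _
  set p₀ : G ⧸ normalizer (V : Set G) := ((1 : G) : G ⧸ normalizer (V : Set G)) with hp₀
  set Nn : ℕ := Fintype.card (G ⧸ normalizer (V : Set G)) with hNn
  set I : Finset G := Finset.univ.filter fun x => orderOf x = 2 with hI
  have hsq : ∀ x ∈ I, x * x = 1 := fun x hx => by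
    rw [← pow_two, ← (Finset.mem_filter.1 hx).2, pow_orderOf_eq_one]
  have hne1 : ∀ x ∈ I, x ≠ 1 := fun x hx e => by
    simp [hI, e] at hx
  -- the involutions
  have hIcard : I.card = Nn * 15 := by
    have hb : Nat.card (Σ p : G ⧸ normalizer (V : Set G), {x : ↥(pconj V p) // x ≠ 1}) =
        Nat.card ↥I := by
      refine Nat.card_eq_of_bijective (fun s => ⟨(s.2.1 : G), Finset.mem_filter.2
        ⟨Finset.mem_univ _, orderOf_eq_prime (by rw [pow_two]; exact pconj_sq h s.1 _ s.2.1.2)
          (fun e => s.2.2 (Subtype.ext e))⟩⟩) ⟨?_, ?_⟩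
      · rintro ⟨p, ⟨x, hx⟩, hx1⟩ ⟨q, ⟨y, hy⟩, hy1⟩ e
        obtain rfl : x = y := congrArg Subtype.val e
        obtain rfl : p = q := by
          by_contra hpq
          exact hx1 (Subtype.ext (mem_bot.1 (pconj_inf_eq_bot h hpq ▸ ⟨hx, hy⟩)))
        rfl
      · rintro ⟨x, hx⟩
        obtain ⟨p, hp⟩ := exists_point h (Finset.mem_filter.1 hx).2
        exact ⟨⟨p, ⟨x, hp⟩, fun e => hne1 x hx (congrArg Subtype.val e)⟩, rfl⟩
    rw [← Nat.card_eq_finsetCard, ← hb, Nat.card_sigma, Finset.sum_congr rfl (fun p _ => ?_),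
      Finset.sum_const, Finset.card_univ, smul_eq_mul]
    haveI := Fintype.ofFinite ↥(pconj V p)
    rw [Nat.card_eq_fintype_card, Fintype.card_subtype_compl, Fintype.card_subtype_eq,
      ← Nat.card_eq_fintype_card, card_pconj, h.card_V]
  -- lines and points
  have hlines : ∀ p : G ⧸ normalizer (V : Set G),
      (Finset.univ.filter fun l : G ⧸ normalizer (A : Set G) => Inc p l).card = 5 := by
    intro p
    induction p using QuotientGroup.induction_on with | _ a =>
    rw [← Nat.card_eq_finsetCard]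
    refine (Eq.trans (Nat.card_congr (Equiv.subtypeEquivRight fun l => ?_))
      (card_inc (normalizer (V : Set G)) (normalizer (A : Set G)) a)).trans h.linesV
    simp
  have hblock : ∀ l : G ⧸ normalizer (A : Set G),
      (Finset.univ.filter fun p : G ⧸ normalizer (V : Set G) => Inc p l).card = 5 := by
    intro l
    induction l using QuotientGroup.induction_on with | _ a =>
    rw [← Nat.card_eq_finsetCard]
    refine (Eq.trans (Nat.card_congr (Equiv.subtypeEquivRight fun p => ?_))
      (card_inc (normalizer (A : Set G)) (normalizer (V : Set G)) a)).trans h.linesA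
    rw [Finset.mem_filter, inc_swap]
    simp
  set Col : Finset (G ⧸ normalizer (V : Set G)) :=
    (Finset.univ.filter fun l : G ⧸ normalizer (A : Set G) => Inc p₀ l).biUnion
      fun l => (Finset.univ.filter fun p : G ⧸ normalizer (V : Set G) => Inc p l).erase p₀ with hCol
  have hColcard : Col.card = 20 := by
    rw [hCol, Finset.card_biUnion]
    · rw [Finset.sum_const_nat (m := 4) (fun l hl => by
        rw [Finset.card_erase_of_mem (show p₀ ∈ Finset.univ.filter
          (fun p : G ⧸ normalizer (V : Set G) => Inc p l) from Finset.mem_filter.2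
            ⟨Finset.mem_univ _, (Finset.mem_filter.1 hl).2⟩), hblock]), hlines]
    · intro l hl l' hl' hne
      rw [Function.onFun, Finset.disjoint_left]
      intro q hq hq'
      simp only [Finset.mem_erase, Finset.mem_filter, Finset.mem_univ, true_and] at hq hq'
      exact hne (inc_unique h hq.1.symm (Finset.mem_filter.1 hl).2 (Finset.mem_filter.1 hl').2
        hq.2 hq'.2)
  have hmemCol : ∀ q, q ∈ Col ↔ q ≠ p₀ ∧
      ∃ l : G ⧸ normalizer (A : Set G), Inc p₀ l ∧ Inc q l := by
    intro q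
    simp only [hCol, Finset.mem_biUnion, Finset.mem_erase, Finset.mem_filter, Finset.mem_univ,
      true_and]
    exact ⟨fun ⟨l, a, b, c⟩ => ⟨b, l, a, c⟩, fun ⟨b, l, a, c⟩ => ⟨l, a, b, c⟩⟩
  -- the involutions fixing the base point
  have hfix : (I.filter fun x => x • p₀ = p₀).card ≤ 75 := by
    have hsub : (I.filter fun x => x • p₀ = p₀) ⊆
        (Finset.univ.filter fun x : G => x ∈ pconj V p₀).erase 1 ∪
          (Finset.univ.filter fun l : G ⧸ normalizer (A : Set G) => Inc p₀ l).biUnion
            fun l => (Finset.univ.filter fun x : G => x ∈ pconj A l) \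
              (Finset.univ.filter fun x : G => x ∈ pconj V p₀) := by
      intro x hx
      rw [Finset.mem_filter] at hx
      by_cases hxV : x ∈ pconj V p₀
      · exact Finset.mem_union_left _ (by simp [hne1 x hx.1, hxV])
      · obtain ⟨l, hl, hxl⟩ := (invol_fix h (hsq x hx.1) hx.2).resolve_left hxV
        refine Finset.mem_union_right _ (Finset.mem_biUnion.2 ⟨l, ?_, ?_⟩) <;> simp [hl, hxl, hxV]
    refine (Finset.card_le_card hsub).trans ((Finset.card_union_le _ _).trans ?_)
    have hc : ∀ K : Subgroup G, (Finset.univ.filter fun x : G => x ∈ K).card = Nat.card ↥K :=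
      fun K => by rw [Nat.card_eq_fintype_card, ← Fintype.card_subtype]
    have h1 : ((Finset.univ.filter fun x : G => x ∈ pconj V p₀).erase 1).card = 15 := by
      rw [Finset.card_erase_of_mem (by simp), hc, card_pconj, h.card_V]
    have h3 := Finset.card_biUnion_le_card_mul
      (Finset.univ.filter fun l : G ⧸ normalizer (A : Set G) => Inc p₀ l)
      (fun l => (Finset.univ.filter fun x : G => x ∈ pconj A l) \
        (Finset.univ.filter fun x : G => x ∈ pconj V p₀)) 12 (fun l hl => ?_)
    · rw [hlines] at h3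
      omega
    · have hl' := (Finset.mem_filter.1 hl).2
      induction l using QuotientGroup.induction_on with | _ a =>
      rw [Finset.card_sdiff, hc, card_pconj, h.card_A, ← Finset.filter_and]
      have := (inc_data h hl').1
      rw [show MulAut.conj (1 : G) • V = pconj V p₀ from rfl,
        show MulAut.conj a • A = pconj A (a : G ⧸ normalizer (A : Set G)) from rfl, ← hc] at this
      simp only [Subgroup.mem_inf] at this
      rw [this]
  -- the involutions moving the base point to a collinear point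
  have hcol : ∀ q ∈ Col, (I.filter fun x => x • p₀ = q).card ≤ 12 := by
    intro q hq
    obtain ⟨hq0, l, hl0, hlq⟩ := (hmemCol q).1 hq
    set R : Finset (G ⧸ normalizer (V : Set G)) :=
      ((Finset.univ.filter fun p : G ⧸ normalizer (V : Set G) => Inc p l).erase p₀).erase q with hR
    have hRc : R.card = 3 := by
      rw [hR, Finset.card_erase_of_mem (Finset.mem_erase.2 ⟨hq0, by simp [hlq]⟩),
        Finset.card_erase_of_mem (by simp [hl0]), hblock]
    have hsub : (I.filter fun x => x • p₀ = q) ⊆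
        R.biUnion fun r => (I.filter fun x => x ∈ pconj V r ∧ x • p₀ = q) := by
      intro x hx
      rw [Finset.mem_filter] at hx
      have hxq : x • q = p₀ := by rw [← hx.2, smul_smul, hsq x hx.1, one_smul]
      have hxl : x • l = l := inc_unique h hq0 (hx.2 ▸ inc_smul x hl0) hlq
        (hxq ▸ inc_smul x hlq) hl0
      rcases invol_fix (symm h) (hsq x hx.1) hxl with hv | ⟨r, hr, hxr⟩
      · exact absurd (le_fix_point h hl0 hv) (fun e => hq0 (hx.2.symm.trans e))
      · refine Finset.mem_biUnion.2 ⟨r, ?_, Finset.mem_filter.2 ⟨hx.1, hxr, hx.2⟩⟩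
        have hxfix := pconj_fix hxr
        refine Finset.mem_erase.2 ⟨fun e => ?_, Finset.mem_erase.2 ⟨fun e => ?_, ?_⟩⟩
        · rw [e, hxq] at hxfix
          exact hq0 hxfix.symm
        · rw [e, hx.2] at hxfix
          exact hq0 hxfix
        · exact Finset.mem_filter.2 ⟨Finset.mem_univ _, inc_swap.1 hr⟩
    refine (Finset.card_le_card hsub).trans ((Finset.card_biUnion_le_card_mul _ _ 4 ?_).trans
      (by rw [hRc]))
    intro r hr
    simp only [hR, Finset.mem_erase, Finset.mem_filter, Finset.mem_univ, true_and] at hr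
    obtain ⟨hrq, hr0, hrl⟩ := hr
    rcases (I.filter fun x => x ∈ pconj V r ∧ x • p₀ = q).eq_empty_or_nonempty with e | ⟨x₀, hx₀⟩
    · simp [e]
    rw [Finset.mem_filter] at hx₀
    have hinf : Nat.card ↥(pconj V r ⊓ pconj A l) = 4 := by
      induction r using QuotientGroup.induction_on with | _ b =>
      induction l using QuotientGroup.induction_on with | _ a =>
      exact (inc_data h hrl).1
    rw [← hinf, ← Nat.card_eq_finsetCard]
    refine Nat.card_le_card_of_injective (fun x => (⟨x₀ * (x : G), ?_⟩ : ↥(pconj V r ⊓ pconj A l)))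
      (fun x y e => Subtype.ext (mul_left_cancel (congrArg Subtype.val e)))
    obtain ⟨hxI, hxr, hxq⟩ := Finset.mem_filter.1 x.2
    have hm : x₀ * (x : G) ∈ pconj V r := mul_mem hx₀.2.1 hxr
    refine ⟨hm, ?_⟩
    have hfp : (x₀ * (x : G)) • p₀ = p₀ := by
      rw [mul_smul, hxq, ← hx₀.2.2, smul_smul, hsq x₀ hx₀.1, one_smul]
    rcases mem_or_mem h (pconj_sq h r _ hm) hl0 hfp (le_fix_line h hrl hm) with hv | ha
    · rw [mem_bot.1 (pconj_inf_eq_bot h hr0 ▸ ⟨hm, hv⟩ : x₀ * (x : G) ∈ (⊥ : Subgroup G))]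
      exact one_mem _
    · exact ha
  -- the other points
  have hother : ∀ q, q ≠ p₀ → q ∉ Col → (I.filter fun x => x • p₀ = q).card ≤ 14 := by
    intro q hq0 hq
    by_contra hgt
    exact card_swapping_le h hq0.symm (fun hl => hq ((hmemCol q).2 ⟨hq0, hl⟩))
      (I.filter fun x => x • p₀ = q) (fun x hx => ⟨hsq x (Finset.mem_filter.1 hx).1,
        (Finset.mem_filter.1 hx).2⟩) (not_le.1 hgt)
  -- summing up
  have hsum : I.card = ∑ q, (I.filter fun x => x • p₀ = q).card :=
    Finset.card_eq_sum_card_fiberwise fun x _ => Finset.mem_univ _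
  have hp₀Col : p₀ ∉ Col := fun e => ((hmemCol p₀).1 e).1 rfl
  have hrest : ((Finset.univ \ insert p₀ Col)).card = Nn - 21 := by
    rw [Finset.card_sdiff_of_subset (Finset.subset_univ _), Finset.card_insert_of_notMem hp₀Col,
      hColcard, Finset.card_univ]
  have h21 : 21 ≤ Nn := by
    have := Finset.card_le_univ (insert p₀ Col)
    rw [Finset.card_insert_of_notMem hp₀Col, hColcard] at this
    exact this
  rw [← Finset.sum_sdiff (Finset.subset_univ (insert p₀ Col)),
    Finset.sum_insert hp₀Col] at hsum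
  have e1 := Finset.sum_le_card_nsmul Col (fun q => (I.filter fun x => x • p₀ = q).card) 12 hcol
  have e2 := Finset.sum_le_card_nsmul (Finset.univ \ insert p₀ Col)
    (fun q => (I.filter fun x => x • p₀ = q).card) 14 (fun q hq => by
      simp only [Finset.mem_sdiff, Finset.mem_univ, true_and, Finset.mem_insert, not_or] at hq
      exact hother q hq.1 hq.2)
  rw [hColcard, smul_eq_mul] at e1
  rw [hrest, smul_eq_mul] at e2
  rw [hIcard] at hsum
  have hN : Nn = 21 := by omega
  have hcard := (normalizer (V : Set G)).card_mul_index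
  have hi : (normalizer (V : Set G)).index = 21 := by
    rw [Subgroup.index_eq_card, Nat.card_eq_fintype_card, ← hNn, hN]
  rw [h.card_NV, hi] at hcard
  exact ⟨by omega, hi⟩

end Conf

end CfsgLib.AutL34
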