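import Cfsg.Agent.Lib.AutL34.Gens

/-!
The map from symbols is multiplicative.
-/
set_option autoImplicit false
set_option maxRecDepth 10000

namespace CfsgLib.AutL34

/-- left multiplication by a word in the generators of the extraspecial group -/
def eFold (x y : ℕ) : ℕ :=
  eMul (bitN x 4 * 16) (eMul (bitN x 0 * 1) (eMul (bitN x 1 * 2) (eMul (bitN x 2 * 4) (eMul (bitN x 3 * 8) y))))

/-- the action of a word -/
def aFold (w : List ℕ) (y : ℕ) : ℕ := w.foldr (fun i r => act (genP i) r) y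

/-- the product of a word and a lift -/
def dFold (α β : Bool) (w : List ℕ) (q : ℕ) : ℕ × ℕ :=
  w.foldr (fun i r => ((r.1 + kk α β (genP i) r.2) % 2, pMul (genP i) r.2)) (0, q)

theorem eFold_eq {x y : ℕ} (hx : x < 32) (hy : y < 32) : eFold x y = eMul x y := by
  have h : allB 32 (fun x => allB 32 fun y => eFold x y == eMul x y) = true := by decide +kernel
  exact eq_of_beq (allB_spec (allB_spec h hx) hy)

theorem aFold_eq {p y : ℕ} (hp : p < 24) (hy : y < 32) : aFold (wordOf p) y = act p y := by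
  have h : allB 24 (fun p => allB 32 fun y => aFold (wordOf p) y == act p y) = true := by decide +kernel
  exact eq_of_beq (allB_spec (allB_spec h hp) hy)

theorem dFold_eq (α β : Bool) {p q : ℕ} (hp : p < 24) (hq : q < 24) :
    dFold α β (wordOf p) q = (kk α β p q, pMul p q) := by
  have h : allB 24 (fun p => allB 24 fun q => dFold α β (wordOf p) q == (kk α β p q, pMul p q)) = true := by
    cases α <;> cases β <;> decide +kernel
  exact eq_of_beq (allB_spec (allB_spec h hp) hq)

theorem wordOf_lt {p : ℕ} (hp : p < 24) {i : ℕ} (hi : i ∈ wordOf p) : i < 3 := by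
  have h : allB 24 (fun p => (wordOf p).all fun i => decide (i < 3)) = true := by decide +kernel
  exact of_decide_eq_true (List.all_eq_true.1 (allB_spec h hp) i hi)

theorem genP_lt (i : ℕ) : genP i < 24 := by
  unfold genP
  cases i == 0 <;> cases i == 1 <;> simp

namespace EGens

variable {L : Type*} [Group L] {z : L} (X : EGens L z)

theorem elE_zero : X.elE 0 = 1 := by simp [elE, bitN]

theorem elE_sixteen : X.elE 16 = z := by simp [elE, bitN]

theorem elE_bit (g x k : ℕ) : X.elE (bitN x k * g) = X.elE g ^ bitN x k := by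
  have hlt : bitN x k < 2 := Nat.mod_lt _ (by omega)
  rcases Nat.eq_zero_or_pos (bitN x k) with h | h
  · simp [h, elE_zero]
  · rw [show bitN x k = 1 by omega]; simp

theorem bit_mul {g : ℕ} (hg : g = 1 ∨ g = 2 ∨ g = 4 ∨ g = 8 ∨ g = 16) (x k : ℕ) {y : ℕ} (hy : y < 32) :
    X.elE (bitN x k * g) * X.elE y = X.elE (eMul (bitN x k * g) y) ∧ eMul (bitN x k * g) y < 32 := by
  have hlt : bitN x k < 2 := Nat.mod_lt _ (by omega)
  rcases Nat.eq_zero_or_pos (bitN x k) with h | h
  · rw [h, zero_mul, X.elE_zero, one_mul]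
    refine ⟨congrArg X.elE ?_, eMul_lt (by omega) hy⟩
    have h0 : allB 32 (fun y => eMul 0 y == y) = true := by decide +kernel
    exact (eq_of_beq (allB_spec h0 hy)).symm
  · rw [show bitN x k = 1 by omega, one_mul]
    exact ⟨X.gen_mul hg hy, eMul_lt (by omega) hy⟩

theorem elE_gens (x : ℕ) : X.elE x = X.elE (bitN x 4 * 16) * (X.elE (bitN x 0 * 1) *
    (X.elE (bitN x 1 * 2) * (X.elE (bitN x 2 * 4) * X.elE (bitN x 3 * 8)))) := by
  have h1 : X.elE 1 = X.e1 := by simp [elE, bitN]
  have h2 : X.elE 2 = X.e2 := by simp [elE, bitN]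
  have h4 : X.elE 4 = X.e3 := by simp [elE, bitN]
  have h8 : X.elE 8 = X.e4 := by simp [elE, bitN]
  rw [X.elE_bit, X.elE_bit, X.elE_bit, X.elE_bit, X.elE_bit, h1, h2, h4, h8, X.elE_sixteen]
  rfl

theorem elE_mul {x y : ℕ} (hx : x < 32) (hy : y < 32) : X.elE x * X.elE y = X.elE (eMul x y) := by
  obtain ⟨a4, b4⟩ := X.bit_mul (g := 8) (by simp) x 3 hy
  obtain ⟨a3, b3⟩ := X.bit_mul (g := 4) (by simp) x 2 b4
  obtain ⟨a2, b2⟩ := X.bit_mul (g := 2) (by simp) x 1 b3
  obtain ⟨a1, b1⟩ := X.bit_mul (g := 1) (by simp) x 0 b2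
  obtain ⟨a0, -⟩ := X.bit_mul (g := 16) (by simp) x 4 b1
  rw [X.elE_gens x]
  simp only [mul_assoc]
  rw [a4, a3, a2, a1, a0, ← eFold_eq hx hy]
  rfl

theorem z_elE {x : ℕ} (hx : x < 32) : z * X.elE x = X.elE (x ^^^ 16) := by
  have h0 := X.elE_mul (x := 16) (by omega) hx
  rw [X.elE_sixteen] at h0
  have h : allB 32 (fun x => eMul 16 x == x ^^^ 16) = true := by decide +kernel
  rw [h0, eq_of_beq (allB_spec h hx)]

theorem zpow_elE {x : ℕ} (hx : x < 32) {k : ℕ} (hk : k < 2) : X.elE x * z ^ k = X.elE (x ^^^ (16 * k)) := by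
  interval_cases k
  · simp
  · rw [pow_one, mul_one]
    have h : allB 32 (fun x => eMul x 16 == x ^^^ 16) = true := by decide +kernel
    have h0 := X.elE_mul (y := 16) hx (by omega)
    rwa [X.elE_sixteen, eq_of_beq (allB_spec h hx)] at h0

end EGens

namespace Gens

variable {α β : Bool} {L : Type*} [Group L] {z : L} (X : Gens α β L z)

theorem elD_zero : X.elD 0 = 1 := by simp [elD, wordOf, words]

theorem sg_z (i : ℕ) : X.sg i * z = z * X.sg i := by
  unfold sg
  cases i == 0 <;> cases i == 1 <;> simp [X.s1_z, X.s2_z, X.s3_z]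

theorem word_elE : ∀ {w : List ℕ}, (∀ i ∈ w, i < 3) → ∀ {y : ℕ}, y < 32 →
    (w.map X.sg).prod * X.elE y = X.elE (aFold w y) * (w.map X.sg).prod ∧ aFold w y < 32 := by
  intro w
  induction w with
  | nil => intro _ y hy; simp [aFold, hy]
  | cons i w ih =>
    intro hw y hy
    obtain ⟨h1, h2⟩ := ih (fun j hj => hw j (List.mem_cons_of_mem _ hj)) hy
    refine ⟨?_, act_lt (genP_lt i) h2⟩
    rw [List.map_cons, List.prod_cons, mul_assoc, h1, ← mul_assoc, X.sg_elE (hw i List.mem_cons_self) h2,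
      mul_assoc]
    rfl

theorem elD_elE {p y : ℕ} (hp : p < 24) (hy : y < 32) : X.elD p * X.elE y = X.elE (act p y) * X.elD p := by
  rw [← aFold_eq hp hy]
  exact (X.word_elE (fun i hi => wordOf_lt hp hi) hy).1

include X in
theorem z_pow_mod (n : ℕ) : z ^ (n % 2) = z ^ n := by
  conv_rhs => rw [← Nat.div_add_mod n 2, pow_add, pow_mul, pow_two, X.z_sq, one_pow, one_mul]

theorem word_elD : ∀ {w : List ℕ}, (∀ i ∈ w, i < 3) → ∀ {q : ℕ}, q < 24 →
    (w.map X.sg).prod * X.elD q = z ^ (dFold α β w q).1 * X.elD (dFold α β w q).2 ∧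
      (dFold α β w q).2 < 24 := by
  intro w
  induction w with
  | nil => intro _ q hq; simp [dFold, hq]
  | cons i w ih =>
    intro hw q hq
    obtain ⟨h1, h2⟩ := ih (fun j hj => hw j (List.mem_cons_of_mem _ hj)) hq
    refine ⟨?_, pMul_lt (genP_lt i) h2⟩
    rw [List.map_cons, List.prod_cons, mul_assoc, h1, ← mul_assoc,
      (Commute.pow_right (X.sg_z i) _).eq, mul_assoc, X.sg_elD (hw i List.mem_cons_self) h2,
      ← mul_assoc, ← pow_add, ← X.z_pow_mod]
    rfl

theorem elD_mul {p q : ℕ} (hp : p < 24) (hq : q < 24) :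
    X.elD p * X.elD q = z ^ kk α β p q * X.elD (pMul p q) := by
  have h := (X.word_elD (fun i hi => wordOf_lt hp hi) hq).1
  rw [dFold_eq α β hp hq] at h
  exact h

theorem el_mul {g h : ℕ} (hg : g < 768) (hh : h < 768) : X.el g * X.el h = X.el (mulC α β g h) := by
  have hp : g / 32 < 24 := by omega
  have hq : h / 32 < 24 := by omega
  have hx : g % 32 < 32 := Nat.mod_lt _ (by omega)
  have hy : h % 32 < 32 := Nat.mod_lt _ (by omega)
  have he := eMul_lt hx (act_lt hp hy)
  have hl := xor_lt he (kk_lt α β (g / 32) (h / 32))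
  have h1 : mulC α β g h % 32 = eMul (g % 32) (act (g / 32) (h % 32)) ^^^ (16 * kk α β (g / 32) (h / 32)) := by
    unfold mulC; omega
  have h2 : mulC α β g h / 32 = pMul (g / 32) (h / 32) := by unfold mulC; omega
  unfold el
  rw [h1, h2, ← X.zpow_elE he (kk_lt α β _ _), ← X.elE_mul hx (act_lt hp hy), mul_assoc (X.elE (g % 32)),
    ← mul_assoc (X.elD _), X.elD_elE hp hy, mul_assoc (X.elE (act _ _)), X.elD_mul hp hq]
  simp [mul_assoc]

theorem el_zero : X.el 0 = 1 := by simp [el, EGens.elE_zero, elD_zero]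

theorem el_sixteen : X.el 16 = z := by simp [el, EGens.elE_sixteen, elD_zero]

theorem el_of_lt {x : ℕ} (hx : x < 32) : X.el x = X.elE x := by
  simp [el, Nat.mod_eq_of_lt hx, Nat.div_eq_of_lt hx, elD_zero]

end Gens

end CfsgLib.AutL34
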