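import Cfsg.Agent.Lib.AutL34.Facts
import Cfsg.Agent.Lib.AutL34.Full
import Cfsg.Agent.Lib.HJOrder.Extra
import Cfsg.Prelude.Def_Transfer
import Mathlib.GroupTheory.Commutator.Basic

/-!
An extraspecial group of order 32 without elementary abelian subgroups of order 8, inside a group in
which its centre is central: four pairwise anticommuting involutions and their symbols.
-/
set_option autoImplicit false
set_option maxRecDepth 10000

namespace CfsgLib.AutL34

/-- the five singular symbols -/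
def ptSym (j : ℕ) : ℕ := bif j == 4 then 15 else 2 ^ j

/-- the hypotheses on the normal extraspecial subgroup in elementwise form -/
structure EHyp (L : Type*) [Group L] (z : L) where
  /-- the subgroup -/
  E : Subgroup L
  z_ne : z ≠ 1
  z_sq : z * z = 1
  z_mem : z ∈ E
  central : ∀ g : L, g * z = z * g
  card_E : Nat.card E = 32
  normal : ∀ g : L, ∀ x ∈ E, g * x * g⁻¹ ∈ E
  comm : ∀ x ∈ E, ∀ y ∈ E, x * y = y * x ∨ x * y = z * (y * x)
  sq : ∀ x ∈ E, x * x = 1 ∨ x * x = z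
  centre : ∀ x ∈ E, (∀ y ∈ E, x * y = y * x) → x = 1 ∨ x = z
  pair : ∀ x ∈ E, ∀ y ∈ E, x * x = 1 → y * y = 1 → x * y = y * x → x ≠ 1 → x ≠ z → y ≠ 1 → y ≠ z →
    y = x ∨ y = z * x
  cent : ∀ g : L, (∀ x ∈ E, g * x = x * g) → g ∈ E

theorem exists_eHyp {L : Type*} [Group L] [Finite L] {z : L} (hz1 : z ≠ 1) (hz2 : z * z = 1)
    (hzc : ∀ g : L, g * z = z * g) (E : Subgroup L) [E.Normal] (hE : Cfsg.IsExtraspecial 2 ↥E)
    (hE32 : Nat.card ↥E = 32)
    (hEminus : ∀ A : Subgroup ↥E, Cfsg.IsElementaryAbelian 2 A → Nat.card ↥A ≠ 8)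
    (hCE : Subgroup.centralizer (E : Set L) ≤ E) : ∃ H : EHyp L z, H.E = E := by
  have hzE : z ∈ E := hCE (Subgroup.mem_centralizer_iff.2 fun x _ => hzc x)
  have hzC : (⟨z, hzE⟩ : E) ∈ Subgroup.center E :=
    Subgroup.mem_center_iff.2 fun g => Subtype.ext (hzc g)
  have hcen : ∀ x : E, x ∈ Subgroup.center E → (x : L) = 1 ∨ (x : L) = z := by
    intro x hx
    by_contra hne
    push Not at hne
    haveI : Fintype (Subgroup.center E) := Fintype.ofFinite _
    have h3 : 2 < Nat.card (Subgroup.center E) := by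
      rw [Nat.card_eq_fintype_card, Fintype.two_lt_card_iff]
      refine ⟨1, ⟨_, hzC⟩, ⟨x, hx⟩, fun h => ?_, fun h => ?_, fun h => ?_⟩ <;>
        have h' := congrArg (fun w : Subgroup.center E => ((w : E) : L)) h
      · exact hz1 h'.symm
      · exact hne.1 h'.symm
      · exact hne.2 h'.symm
    have := hE.2
    omega
  have hcomm : ∀ x ∈ E, ∀ y ∈ E, x * y = y * x ∨ x * y = z * (y * x) := by
    intro x hx y hy
    have h : (⟨x, hx⟩ : E) * ⟨y, hy⟩ * (⟨x, hx⟩ : E)⁻¹ * (⟨y, hy⟩ : E)⁻¹ ∈ Subgroup.center E := by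
      rw [← hE.1.2.2, commutator_def]
      exact Subgroup.commutator_mem_commutator trivial trivial
    rcases hcen _ h with h1 | h1
    · left
      have : x * y * x⁻¹ * y⁻¹ = 1 := h1
      rwa [mul_inv_eq_one, mul_inv_eq_iff_eq_mul] at this
    · right
      have : x * y * x⁻¹ * y⁻¹ = z := h1
      rwa [mul_inv_eq_iff_eq_mul, mul_inv_eq_iff_eq_mul, mul_assoc] at this
  have hsq : ∀ x ∈ E, x * x = 1 ∨ x * x = z := by
    intro x hx
    refine hcen ⟨x * x, mul_mem hx hx⟩ (Subgroup.mem_center_iff.2 fun r => Subtype.ext ?_)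
    show (r : L) * (x * x) = x * x * r
    rcases hcomm _ r.2 x hx with h | h
    · rw [← mul_assoc, h, mul_assoc, h, mul_assoc]
    · rw [← mul_assoc, h, mul_assoc, mul_assoc, h, ← mul_assoc x z, hzc x, mul_assoc z x,
        ← mul_assoc z z, hz2, one_mul, mul_assoc]
  refine ⟨⟨E, hz1, hz2, hzE, hzc, hE32, fun g x hx => (inferInstance : E.Normal).conj_mem x hx g,
    hcomm, hsq, fun x hx h => hcen ⟨x, hx⟩ (Subgroup.mem_center_iff.2 fun r => Subtype.ext (h r r.2).symm),
    ?_, fun g hg => hCE (Subgroup.mem_centralizer_iff.2 fun x hx => (hg x hx).symm)⟩, rfl⟩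
  intro x hx y hy hx2 hy2 hxy hx1 hxz hy1 hyz
  by_contra hne
  push Not at hne
  classical
  let f : Bool × Bool × Bool → E := fun b =>
    (⟨z, hzE⟩ : E) ^ b.1.toNat * ((⟨x, hx⟩ : E) ^ b.2.1.toNat * (⟨y, hy⟩ : E) ^ b.2.2.toNat)
  have cx : x * z = z * x := hzc x
  have cy : y * z = z * y := hzc y
  have hval : ∀ b, ((f b : E) : L) = z ^ b.1.toNat * (x ^ b.2.1.toNat * y ^ b.2.2.toNat) := fun b => rfl
  have hmul : ∀ b c, f b * f c = f (xor b.1 c.1, xor b.2.1 c.2.1, xor b.2.2 c.2.2) := by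
    rintro ⟨b1, b2, b3⟩ ⟨c1, c2, c3⟩
    apply Subtype.ext
    rw [Subgroup.coe_mul, hval, hval, hval]
    cases b1 <;> cases b2 <;> cases b3 <;> cases c1 <;> cases c2 <;> cases c3 <;>
      simp [mul_assoc, hz2, hx2, hy2, cx, cy, hxy.symm, lm hz2, lm hx2, lm hy2, lm cx, lm cy, lm hxy.symm]
  have hker : ∀ b, f b = 1 → b = (false, false, false) := by
    rintro ⟨b1, b2, b3⟩ h
    have h' : z ^ b1.toNat * (x ^ b2.toNat * y ^ b3.toNat) = 1 := congrArg Subtype.val h
    have iz : ∀ w : L, z * w = 1 → w = z := fun w hw => by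
      rw [← one_mul w, ← hz2, mul_assoc, hw, mul_one]
    have ix : ∀ w : L, x * w = 1 → w = x := fun w hw => by
      rw [← one_mul w, ← hx2, mul_assoc, hw, mul_one]
    cases b1 <;> cases b2 <;> cases b3 <;> simp at h' ⊢
    · exact hy1 h'
    · exact hx1 h'
    · exact hne.1 (ix _ h')
    · exact hz1 h'
    · exact hyz (iz _ h')
    · exact hxz (iz _ h')
    · refine hne.2 ?_
      have := iz _ h'
      calc y = x * x * y := by rw [hx2, one_mul]
        _ = z * x := by rw [mul_assoc, this, cx]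
  have hf : Function.Injective f := by
    intro b c h
    have h2 : f (xor b.1 c.1, xor b.2.1 c.2.1, xor b.2.2 c.2.2) = 1 := by
      rw [← hmul, h, hmul]; simp [f]
    have := hker _ h2
    simp only [Prod.mk.injEq] at this
    obtain ⟨b1, b2, b3⟩ := b
    obtain ⟨c1, c2, c3⟩ := c
    revert this
    cases b1 <;> cases b2 <;> cases b3 <;> cases c1 <;> cases c2 <;> cases c3 <;> simp
  let A : Subgroup E :=
    { carrier := Set.range f
      one_mem' := ⟨(false, false, false), by simp [f]⟩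
      mul_mem' := by rintro _ _ ⟨b, rfl⟩ ⟨c, rfl⟩; exact ⟨_, (hmul b c).symm⟩
      inv_mem' := by
        rintro _ ⟨b, rfl⟩
        exact ⟨b, eq_inv_of_mul_eq_one_left (by rw [hmul]; simp [f])⟩ }
  refine hEminus A ⟨⟨⟨?_⟩⟩, ?_⟩ ?_
  · rintro ⟨_, b, rfl⟩ ⟨_, c, rfl⟩
    refine Subtype.ext ?_
    show f b * f c = f c * f b
    rw [hmul, hmul, Bool.xor_comm b.1, Bool.xor_comm b.2.1, Bool.xor_comm b.2.2]
  · rintro _ ⟨b, rfl⟩
    rw [pow_two, hmul]; simp [f]
  · show Nat.card (Set.range f) = 8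
    rw [Nat.card_range_of_injective hf, Nat.card_eq_fintype_card]
    rfl

namespace EHyp

variable {L : Type*} [Group L] [Finite L] {z : L} (H : EHyp L z)

theorem many_involutions : 12 ≤ Nat.card {x : H.E // (x : L) * x = 1} := by
  classical
  haveI : Fintype H.E := Fintype.ofFinite _
  let zE : H.E := ⟨z, H.z_mem⟩
  have h := CfsgLib.HJOrder.card_sq_one zE (Subtype.ext H.z_sq) (fun e => H.z_ne (congrArg Subtype.val e))
    (fun x => Subtype.ext (H.central x))
    (fun x => (H.sq x x.2).imp (fun h => Subtype.ext h) fun h => Subtype.ext h)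
    (fun x d => (H.comm d d.2 x x.2).imp (fun h => Subtype.ext h) fun h => Subtype.ext h)
    (fun d hd => (H.centre d d.2 fun y hy => (congrArg Subtype.val (hd ⟨y, hy⟩)).symm).imp
      (fun h => Subtype.ext h) fun h => Subtype.ext h)
    (by rw [← Nat.card_eq_fintype_card]; exact H.card_E)
  have hc : Nat.card {x : H.E // (x : L) * x = 1} =
      (Finset.univ.filter (fun x : H.E => x * x = 1)).card := by
    rw [Nat.card_eq_fintype_card, Fintype.card_subtype]
    congr 1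
    ext x
    simp [Subtype.ext_iff]
  rw [hc]
  rcases h with h | h <;> (refine le_trans ?_ (le_of_eq h.symm |>.trans (le_of_eq (by congr!))); norm_num)

/-- a new involution outside the lines of the given ones -/
theorem exists_other (l : List L) (hl : l.length ≤ 3) :
    ∃ x ∈ H.E, x * x = 1 ∧ x ≠ 1 ∧ x ≠ z ∧ ∀ y ∈ l, x ≠ y ∧ x ≠ z * y := by
  classical
  haveI : Fintype {x : H.E // (x : L) * x = 1} := Fintype.ofFinite _
  let bad : List L := 1 :: z :: (l ++ l.map (z * ·))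
  by_contra hno
  push Not at hno
  have hsub : (Finset.univ : Finset {x : H.E // (x : L) * x = 1}).image (fun x => x.1.1) ⊆
      bad.toFinset := by
    intro w hw
    obtain ⟨⟨⟨x, hxE⟩, hx⟩, -, rfl⟩ := Finset.mem_image.1 hw
    rw [List.mem_toFinset]
    by_cases h1 : x = 1
    · simp [bad, h1]
    by_cases h2 : x = z
    · simp [bad, h2]
    obtain ⟨y, hy, h3⟩ := hno x hxE hx h1 h2
    by_cases h4 : x = y
    · simp [bad, h4, hy]
    · simp [bad, h3 h4, hy]
  have h1 := Finset.card_le_card hsub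
  rw [Finset.card_image_of_injective _ (fun a b e => Subtype.ext (Subtype.ext e)), Finset.card_univ,
    ← Nat.card_eq_fintype_card] at h1
  have h2 := bad.toFinset_card_le
  have h3 : bad.length = 2 + (l.length + l.length) := by simp [bad]; omega
  have := H.many_involutions
  omega

theorem anti {x y : L} (hx : x ∈ H.E) (hy : y ∈ H.E) (hx2 : x * x = 1) (hy2 : y * y = 1)
    (hx1 : x ≠ 1) (hxz : x ≠ z) (hy1 : y ≠ 1) (hyz : y ≠ z) (h1 : y ≠ x) (h2 : y ≠ z * x) :
    y * x = z * (x * y) := by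
  refine (H.comm y hy x hx).resolve_left fun hc => ?_
  rcases H.pair x hx y hy hx2 hy2 hc.symm hx1 hxz hy1 hyz with e | e
  · exact h1 e
  · exact h2 e

theorem exists_eGens : ∃ X : EGens L z, X.e1 ∈ H.E ∧ X.e2 ∈ H.E ∧ X.e3 ∈ H.E ∧ X.e4 ∈ H.E := by
  obtain ⟨x1, m1, q1, a1, b1, -⟩ := H.exists_other [] (by simp)
  obtain ⟨x2, m2, q2, a2, b2, n2⟩ := H.exists_other [x1] (by simp)
  obtain ⟨x3, m3, q3, a3, b3, n3⟩ := H.exists_other [x1, x2] (by simp)
  obtain ⟨x4, m4, q4, a4, b4, n4⟩ := H.exists_other [x1, x2, x3] (by simp)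
  simp only [List.mem_cons, List.not_mem_nil, or_false, forall_eq_or_imp, forall_eq] at n2 n3 n4
  exact ⟨{ e1 := x1, e2 := x2, e3 := x3, e4 := x4, z_sq := H.z_sq,
           e1_sq := q1, e2_sq := q2, e3_sq := q3, e4_sq := q4,
           e1_z := H.central _, e2_z := H.central _, e3_z := H.central _, e4_z := H.central _,
           e21 := H.anti m1 m2 q1 q2 a1 b1 a2 b2 n2.1 n2.2,
           e31 := H.anti m1 m3 q1 q3 a1 b1 a3 b3 n3.1.1 n3.1.2,
           e41 := H.anti m1 m4 q1 q4 a1 b1 a4 b4 n4.1.1 n4.1.2,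
           e32 := H.anti m2 m3 q2 q3 a2 b2 a3 b3 n3.2.1 n3.2.2,
           e42 := H.anti m2 m4 q2 q4 a2 b2 a4 b4 n4.2.1.1 n4.2.1.2,
           e43 := H.anti m3 m4 q3 q4 a3 b3 a4 b4 n4.2.2.1 n4.2.2.2 }, m1, m2, m3, m4⟩

variable (X : EGens L z) (hX : X.e1 ∈ H.E ∧ X.e2 ∈ H.E ∧ X.e3 ∈ H.E ∧ X.e4 ∈ H.E)
include hX

theorem elE_mem (m : ℕ) : X.elE m ∈ H.E :=
  mul_mem (pow_mem H.z_mem _) (mul_mem (pow_mem hX.1 _) (mul_mem (pow_mem hX.2.1 _)
    (mul_mem (pow_mem hX.2.2.1 _) (pow_mem hX.2.2.2 _))))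

omit [Finite L] hX in
include H in
theorem elE_ne_one {m : ℕ} (hm : m < 32) (h0 : m ≠ 0) : X.elE m ≠ 1 := by
  intro h
  by_cases h16 : m = 16
  · subst h16; rw [X.elE_sixteen] at h; exact H.z_ne h
  have h1 := allB_spec noncentral_check hm
  simp only [Bool.or_eq_true, beq_iff_eq] at h1
  obtain ⟨y, hy, h2⟩ := anyB_spec (h1.resolve_left (by simp [h0, h16]))
  rw [beq_iff_eq] at h2
  have h3 := congrArg X.elE h2
  rw [← X.elE_mul hm hy, ← X.z_elE (eMul_lt hy hm), ← X.elE_mul hy hm, h, one_mul, mul_one] at h3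
  exact H.z_ne (mul_eq_right.1 h3.symm)

omit [Finite L] hX in
include H in
theorem elE_inj {m n : ℕ} (hm : m < 32) (hn : n < 32) (h : X.elE m = X.elE n) : m = n := by
  have hd : allB 32 (fun n => anyB 32 fun r => eMul n r == 0 &&
      allB 32 fun m => eMul m r != 0 || m == n) = true := by decide +kernel
  obtain ⟨r, hr, h'⟩ := anyB_spec (allB_spec hd hn)
  rw [Bool.and_eq_true, beq_iff_eq] at h'
  have h2 := allB_spec h'.2 hm
  simp only [Bool.or_eq_true, bne_iff_ne, beq_iff_eq] at h2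
  refine h2.resolve_left fun hne => H.elE_ne_one X (eMul_lt hm hr) hne ?_
  rw [← X.elE_mul hm hr, h, X.elE_mul hn hr, h'.1, X.elE_zero]

theorem elE_surj {x : L} (hx : x ∈ H.E) : ∃ m < 32, X.elE m = x := by
  let f : Fin 32 → H.E := fun m => ⟨X.elE m, H.elE_mem X hX m⟩
  have hf : Function.Injective f := fun a b e =>
    Fin.ext (H.elE_inj X a.2 b.2 (congrArg Subtype.val e))
  have hb := hf.bijective_of_nat_card_le (by rw [H.card_E, Nat.card_eq_fintype_card, Fintype.card_fin])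
  obtain ⟨m, hm⟩ := hb.2 ⟨x, hx⟩
  exact ⟨m, m.2, congrArg Subtype.val hm⟩

theorem exists_pt {x : L} (hx : x ∈ H.E) (hx2 : x * x = 1) (hx1 : x ≠ 1) (hxz : x ≠ z) :
    ∃ j < 5, x = X.elE (ptSym j) ∨ x = z * X.elE (ptSym j) := by
  obtain ⟨m, hm, rfl⟩ := H.elE_surj X hX hx
  have hd : allB 32 (fun m => eMul m m != 0 || m == 0 || m == 16 ||
      anyB 5 fun j => m == ptSym j || m == ptSym j ^^^ 16) = true := by decide +kernel
  have h1 := allB_spec hd hm
  simp only [Bool.or_eq_true, bne_iff_ne, beq_iff_eq] at h1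
  rw [X.elE_mul hm hm] at hx2
  have he : eMul m m = 0 := H.elE_inj X (eMul_lt hm hm) (by omega) (by rw [hx2, X.elE_zero])
  rcases h1 with ((h1 | h1) | h1) | h1
  · exact absurd he h1
  · exact absurd (by rw [h1, X.elE_zero]) hx1
  · exact absurd (by rw [h1, X.elE_sixteen]) hxz
  · obtain ⟨j, hj, h2⟩ := anyB_spec h1
    simp only [Bool.or_eq_true, beq_iff_eq] at h2
    have hp : ptSym j < 32 := by interval_cases j <;> simp [ptSym]
    exact ⟨j, hj, h2.imp (fun e => by rw [e]) fun e => by rw [e, X.z_elE hp]⟩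

end EHyp

end CfsgLib.AutL34
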