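import Cfsg.Agent.Lib.AutL34.Tables

/-!
Checked facts about the symbols.
-/
set_option autoImplicit false
set_option maxRecDepth 10000

namespace CfsgLib.AutL34

/-- the inverse of a permutation symbol -/
def pInv (p : ℕ) : ℕ := (978321207349091352592539713606387744 >>> (5 * p)) % 32

/-- the inverse of a symbol -/
def invC (α β : Bool) (g : ℕ) : ℕ :=
  mulC α β (32 * pInv (g / 32) + 16 * kk α β (pInv (g / 32)) (g / 32))
    ((g % 32) ^^^ (16 * (eMul (g % 32) (g % 32) / 16)))

/-- the conjugate of `x` by `c` -/
def conjC (α β : Bool) (c x : ℕ) : ℕ := mulC α β (mulC α β c x) (invC α β c)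

/-- the square -/
def sqC (α β : Bool) (g : ℕ) : ℕ := mulC α β g g

/-- two symbols commute -/
def commC (α β : Bool) (g h : ℕ) : Bool := mulC α β g h == mulC α β h g

/-- involution symbols -/
def isInv (α β : Bool) (g : ℕ) : Bool := g != 0 && sqC α β g == 0

theorem invC_spec (α β : Bool) : allB 768 (fun g => decide (invC α β g < 768) && mulC α β g (invC α β g) == 0) = true := by
  cases α <;> cases β <;> decide +kernel

theorem parE_check : allB 32 (fun x => parE x < 2 && (allB 24 fun p => parE (act p x) == parE x) &&
    (allB 32 fun y => parE (eMul x y) == parE x ^^^ parE y) && parE (x ^^^ 16) == parE x) = true := by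
  decide +kernel

theorem sgnP_check : allB 24 (fun p => sgnP p < 2 && allB 24 fun q => sgnP (pMul p q) == sgnP p ^^^ sgnP q) = true := by
  decide +kernel

theorem root_check (α β : Bool) : allB 768 (fun g => !isInv α β g ||
    anyB 768 fun r => sqC α β r == 16 && commC α β g r) = true := by
  cases α <;> cases β <;> decide +kernel

theorem sq_check (α β : Bool) : allB 768 (fun g => !isInv α β (sqC α β g) ||
    isA (sqC α β g) || (!β && isU (sqC α β g))) = true := by
  cases α <;> cases β <;> decide +kernel

theorem noU_check (α : Bool) : allB 768 (fun g => !isU g || !isInv α true g) = true := by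
  cases α <;> decide +kernel

theorem normalA_check (α β : Bool) : allB 768 (fun c => conjC α β c 15 == 15 || conjC α β c 15 == 31) = true := by
  cases α <;> cases β <;> decide +kernel

theorem swapA_check (α β : Bool) : (conjC α β 1 15 == 31) = true := by
  cases α <;> cases β <;> decide +kernel

theorem classU_check (α : Bool) :
    allB 768 (fun u => !isU u || anyB 768 fun c => conjC α false c 224 == u) = true := by
  cases α <;> decide +kernel

theorem side_check (α : Bool) : (lstA1.all fun u => lstA2.all fun v =>
    isA u || isA v || !commC α false u v) = true := by
  cases α <;> decide +kernel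

theorem group_check (α : Bool) : ((lstA1.all fun x => sqC α false x == 0 && lstA1.all fun y =>
      commC α false x y && inA1 (mulC α false x y)) &&
    (lstA2.all fun x => sqC α false x == 0 && lstA2.all fun y =>
      commC α false x y && inA2 (mulC α false x y))) = true := by
  cases α <;> decide +kernel

theorem genU_check (α : Bool) : ((lstA1.all fun x => lstA1.any fun u => isU u &&
      lstA1.any fun v => isU v && mulC α false u v == x) &&
    (lstA2.all fun x => lstA2.any fun u => isU u &&
      lstA2.any fun v => isU v && mulC α false u v == x)) = true := by
  cases α <;> decide +kernel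

theorem conjU_check (α : Bool) : allB 768 (fun c =>
    (lstA1.all fun x => bif chi c % 2 == 0 then inA1 (conjC α false c x) else inA2 (conjC α false c x)) &&
    (lstA2.all fun x => bif chi c % 2 == 0 then inA2 (conjC α false c x) else inA1 (conjC α false c x))) = true := by
  cases α <;> decide +kernel

theorem centA_check (α : Bool) : allB 768 (fun c =>
    (!(lstA1.all fun x => commC α false c x) || inA1 c) &&
    (!(lstA2.all fun x => commC α false c x) || inA2 c) &&
    (!(inA1 c && lstA2.all fun x => commC α false c x) || isA c)) = true := by
  cases α <;> decide +kernel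

theorem outer_check (α β : Bool) : allB 768 (fun i => !isInv α β i || chi i == 0 ||
    allB 768 fun r => !(commC α β i r) || sqC α β (sqC α β r) != 0 || sqC α β r == 0 || sqC α β r == 16) = true := by
  cases α <;> cases β <;> decide +kernel

theorem inner_check (α β : Bool) : allB 768 (fun i => !isInv α β i || chi i != 0 || isA i || isU i) = true := by
  cases α <;> cases β <;> decide +kernel

theorem prodS_check (α : Bool) : (allB 768 (fun g => !inS g ||
      lstA1.any fun a => lstA2.any fun b => mulC α false a b == g) &&
    (lstA1.all fun a => lstA2.all fun b => inS (mulC α false a b))) = true := by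
  cases α <;> decide +kernel

theorem cube_check (α β : Bool) : allB 768 (fun g => chi g != 0 || inS (mulC α β g (sqC α β g))) = true := by
  cases α <;> cases β <;> decide +kernel

theorem three_check (α β : Bool) : allB 768 (fun y => y == 0 || chi y != 0 || mulC α β y (sqC α β y) != 0 ||
    (commC α β 15 y && !inS y && allB 768 fun c => chi c != 0 ||
      (mulC α β c y != mulC α β (sqC α β y) c && (!inS c || !commC α β c y || isA c)))) = true := by
  cases α <;> cases β <;> decide +kernel

theorem sylow_check (α β : Bool) : allB 768 (fun g => !inT g || g == 0 || g == 16 ||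
    anyB 768 fun h => inT h && !commC α β g h) = true := by
  cases α <;> cases β <;> decide +kernel

theorem inT_mul : allB 24 (fun p => !(inT (32 * p)) || allB 24 fun q => !(inT (32 * q)) || inT (32 * pMul p q)) = true := by
  decide +kernel

theorem inS_mul : allB 24 (fun p => !([0, 7, 16, 23].contains p) || allB 24 fun q =>
    !([0, 7, 16, 23].contains q) || [0, 7, 16, 23].contains (pMul p q)) = true := by
  decide +kernel

theorem noncentral_check : allB 32 (fun x => x == 0 || x == 16 ||
    anyB 32 fun y => eMul x y == eMul y x ^^^ 16) = true := by
  decide +kernel

theorem outer_exists (α β : Bool) : ((isInv α β 1 && chi 1 == 1) &&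
    anyB 768 fun t => isInv α β t && chi t == 2) = true := by
  cases α <;> cases β <;> decide +kernel

theorem counts : ((List.range 768).filter (fun g => chi g == 0)).length = 192 ∧
    ((List.range 768).filter inS).length = 64 ∧ ((List.range 768).filter inT).length = 256 ∧
    ((List.range 768).filter (fun g => chi g % 2 == 0)).length = 384 := by
  decide +kernel

end CfsgLib.AutL34
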