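import Cfsg.Agent.Lib.AutL34.Coord
import Mathlib.GroupTheory.Index
import Mathlib.Data.ZMod.Basic

/-!
Coordinates on the centraliser of an involution, and the basic subgroups and facts in group language.
-/
set_option autoImplicit false
set_option maxRecDepth 10000

namespace CfsgLib.AutL34

universe u

/-- coordinates on the centraliser of `z` -/
structure Frame (G : Type u) [Group G] (z : G) where
  /-- first parameter -/
  α : Bool
  /-- second parameter -/
  β : Bool
  /-- the element of a symbol -/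
  el : ℕ → G
  el_mul : ∀ {g h : ℕ}, g < 768 → h < 768 → el g * el h = el (mulC α β g h)
  el_zero : el 0 = 1
  el_sixteen : el 16 = z
  el_comm : ∀ g, el g * z = z * el g
  surj : ∀ {x : G}, x * z = z * x → ∃ g < 768, el g = x
  inj : ∀ {g h : ℕ}, g < 768 → h < 768 → el g = el h → g = h
  z_sq : z * z = 1
  z_ne : z ≠ 1

theorem exists_frame {G : Type u} [Group G] [Finite G] (z : G) (hz : orderOf z = 2)
    (E : Subgroup ↥(Subgroup.centralizer ({z} : Set G))) [E.Normal] (hE : Cfsg.IsExtraspecial 2 ↥E)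
    (hE32 : Nat.card ↥E = 32)
    (hEminus : ∀ A : Subgroup ↥E, Cfsg.IsElementaryAbelian 2 A → Nat.card ↥A ≠ 8)
    (hCE : Subgroup.centralizer (E : Set ↥(Subgroup.centralizer ({z} : Set G))) ≤ E)
    (hq : Nat.card (↥(Subgroup.centralizer ({z} : Set G)) ⧸ E) = 24) : Nonempty (Frame G z) := by
  have hzz : z * z = 1 := by rw [← pow_two, ← hz, pow_orderOf_eq_one]
  have hz1 : z ≠ 1 := fun h => by rw [h, orderOf_one] at hz; omega
  let zL : Subgroup.centralizer ({z} : Set G) := ⟨z, Subgroup.mem_centralizer_singleton_iff.2 rfl⟩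
  have hc : ∀ g : Subgroup.centralizer ({z} : Set G), (g : G) * z = z * g := fun g =>
    Subgroup.mem_centralizer_singleton_iff.1 g.2
  obtain ⟨H, rfl⟩ := exists_eHyp (z := zL) (fun h => hz1 (congrArg Subtype.val h)) (Subtype.ext hzz)
    (fun g => Subtype.ext (hc g)) E hE hE32 hEminus hCE
  obtain ⟨α, β, Y, hinj, hsurj⟩ := exists_gens H hq
  exact ⟨{ α := α, β := β, el := fun n => (Y.el n : G)
           el_mul := fun hg hh => by rw [← Subgroup.coe_mul, Y.el_mul hg hh]
           el_zero := by rw [Y.el_zero]; rfl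
           el_sixteen := by rw [Y.el_sixteen]
           el_comm := fun g => hc _
           surj := fun {x} hx => by
             obtain ⟨n, hn, h⟩ := hsurj ⟨x, Subgroup.mem_centralizer_singleton_iff.2 hx⟩
             exact ⟨n, hn, congrArg Subtype.val h⟩
           inj := fun hg hh h => hinj _ _ hg hh (Subtype.ext h)
           z_sq := hzz, z_ne := hz1 }⟩

theorem mem_lt {g : ℕ} : (g ∈ lstA1 ∨ g ∈ lstA2 → g < 768) ∧ (isA g = true → g < 768) := by
  refine ⟨?_, fun h => ?_⟩
  · simp only [lstA1, lstA2, List.mem_cons, List.not_mem_nil, or_false]; omega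
  · simp only [isA, Bool.or_eq_true, beq_iff_eq] at h; omega

theorem isA_inA {g : ℕ} (h : isA g = true) : inA1 g = true ∧ inA2 g = true := by
  simp only [isA, Bool.or_eq_true, beq_iff_eq] at h
  rcases h with ((h | h) | h) | h <;> subst h <;> decide

theorem inA_lt {g : ℕ} (h : inA1 g = true ∨ inA2 g = true) : g < 768 :=
  mem_lt.1 (h.imp List.contains_iff_mem.1 List.contains_iff_mem.1)

theorem isU_iff {g : ℕ} : isU g = true ↔ (inA1 g = true ∨ inA2 g = true) ∧ isA g = false := by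
  simp [isU]

theorem isU_lt {g : ℕ} (h : isU g = true) : g < 768 := inA_lt (isU_iff.1 h).1

namespace Frame

variable {G : Type u} [Group G] {z : G} (F : Frame G z)

/-- the involution `a` -/
def a : G := F.el 15

theorem lt_conjC {c x : ℕ} (hc : c < 768) (hx : x < 768) : conjC F.α F.β c x < 768 := by
  have h := allB_spec (invC_spec F.α F.β) hc
  rw [Bool.and_eq_true, decide_eq_true_eq] at h
  exact mulC_lt _ _ (mulC_lt _ _ hc hx) h.1

theorem el_inv {g : ℕ} (hg : g < 768) : (F.el g)⁻¹ = F.el (invC F.α F.β g) := by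
  have h := allB_spec (invC_spec F.α F.β) hg
  rw [Bool.and_eq_true, decide_eq_true_eq, beq_iff_eq] at h
  refine inv_eq_of_mul_eq_one_right ?_
  rw [F.el_mul hg h.1, h.2, F.el_zero]

theorem el_conj {c x : ℕ} (hc : c < 768) (hx : x < 768) :
    F.el c * F.el x * (F.el c)⁻¹ = F.el (conjC F.α F.β c x) := by
  have h := allB_spec (invC_spec F.α F.β) hc
  rw [Bool.and_eq_true, decide_eq_true_eq] at h
  rw [F.el_inv hc, F.el_mul hc hx, F.el_mul (mulC_lt _ _ hc hx) h.1]
  rfl

theorem commC_iff {g h : ℕ} (hg : g < 768) (hh : h < 768) :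
    commC F.α F.β g h = true ↔ F.el g * F.el h = F.el h * F.el g := by
  rw [commC, beq_iff_eq, F.el_mul hg hh, F.el_mul hh hg]
  exact ⟨congrArg F.el, F.inj (mulC_lt _ _ hg hh) (mulC_lt _ _ hh hg)⟩

theorem el_eq_one {g : ℕ} (hg : g < 768) : F.el g = 1 ↔ g = 0 :=
  ⟨fun h => F.inj hg (by omega) (by rw [h, F.el_zero]), fun h => by rw [h, F.el_zero]⟩

theorem sqC_iff {g : ℕ} (hg : g < 768) : sqC F.α F.β g = 0 ↔ F.el g * F.el g = 1 := by
  rw [F.el_mul hg hg, F.el_eq_one (mulC_lt _ _ hg hg)]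
  rfl

theorem isInv_iff {g : ℕ} (hg : g < 768) :
    isInv F.α F.β g = true ↔ F.el g ≠ 1 ∧ F.el g * F.el g = 1 := by
  rw [isInv, Bool.and_eq_true, bne_iff_ne, beq_iff_eq, F.sqC_iff hg, ne_eq, ne_eq, F.el_eq_one hg]

/-- membership in `{z, a, za}` -/
def InA (x : G) : Prop := ∃ g, isA g = true ∧ g ≠ 0 ∧ F.el g = x

/-- membership in the class of involutions of `A₁ ∪ A₂` outside the four-group -/
def InU (x : G) : Prop := F.β = false ∧ ∃ g, isU g = true ∧ F.el g = x

theorem inA_cases {x : G} (h : F.InA x) : x = z ∨ x = F.a ∨ x = F.el 31 := by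
  obtain ⟨g, hg, h0, rfl⟩ := h
  simp only [isA, Bool.or_eq_true, beq_iff_eq] at hg
  rcases hg with ((h | h) | h) | h <;> subst h
  · exact absurd rfl h0
  · exact Or.inr (Or.inl rfl)
  · exact Or.inl F.el_sixteen
  · exact Or.inr (Or.inr rfl)

theorem conj_one_a : F.el 1 * F.a * (F.el 1)⁻¹ = F.el 31 := by
  rw [a, F.el_conj (by omega) (by omega), eq_of_beq (swapA_check F.α F.β)]

include F in
theorem exists_root {w : G} (hw : w * z = z * w) (hw1 : w ≠ 1) (hw2 : w * w = 1) :
    ∃ r, r * z = z * r ∧ r * w = w * r ∧ r * r = z := by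
  obtain ⟨g, hg, rfl⟩ := F.surj hw
  have h := allB_spec (root_check F.α F.β) hg
  rw [Bool.or_eq_true, Bool.not_eq_true'] at h
  rcases h with h | h
  · rw [(F.isInv_iff hg).2 ⟨hw1, hw2⟩] at h; exact absurd h (by simp)
  obtain ⟨r, hr, h⟩ := anyB_spec h
  rw [Bool.and_eq_true, beq_iff_eq, F.commC_iff hg hr] at h
  exact ⟨F.el r, F.el_comm r, h.2.symm, by rw [F.el_mul hr hr, show mulC F.α F.β r r = 16 from h.1, F.el_sixteen]⟩

theorem square_cases {r : G} (hr : r * z = z * r) (h1 : r * r ≠ 1) (h2 : r * r * (r * r) = 1) :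
    F.InA (r * r) ∨ F.InU (r * r) := by
  obtain ⟨g, hg, rfl⟩ := F.surj hr
  have hs : F.el g * F.el g = F.el (sqC F.α F.β g) := F.el_mul hg hg
  have hs' : sqC F.α F.β g < 768 := mulC_lt _ _ hg hg
  rw [hs] at h1 h2 ⊢
  have h := allB_spec (sq_check F.α F.β) hg
  simp only [Bool.or_eq_true, Bool.not_eq_true', Bool.and_eq_true] at h
  rcases h with (h | h) | ⟨hb, h⟩
  · rw [(F.isInv_iff hs').2 ⟨h1, h2⟩] at h; exact absurd h (by simp)
  · exact Or.inl ⟨_, h, fun h0 => h1 ((F.el_eq_one hs').2 h0), rfl⟩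
  · exact Or.inr ⟨hb, _, h, rfl⟩

theorem inU_spec {x : G} (h : F.InU x) : x ≠ 1 ∧ x ≠ z ∧ x * z = z * x ∧ x * x = 1 := by
  obtain ⟨hb, g, hg, rfl⟩ := h
  obtain ⟨hs, hA⟩ := isU_iff.1 hg
  have hlt := isU_lt hg
  refine ⟨fun h => ?_, fun h => ?_, F.el_comm g, ?_⟩
  · rw [(F.el_eq_one hlt).1 h] at hA; exact absurd hA (by decide)
  · rw [F.inj hlt (show 16 < 768 by omega) (h.trans F.el_sixteen.symm)] at hA; exact absurd hA (by decide)
  · refine (F.sqC_iff hlt).1 ?_
    have hgr := group_check F.α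
    rw [← hb, Bool.and_eq_true] at hgr
    rcases hs with hs | hs
    · have := List.all_eq_true.1 hgr.1 g (List.contains_iff_mem.1 hs)
      rw [Bool.and_eq_true, beq_iff_eq] at this
      exact this.1
    · have := List.all_eq_true.1 hgr.2 g (List.contains_iff_mem.1 hs)
      rw [Bool.and_eq_true, beq_iff_eq] at this
      exact this.1

theorem beta_eq_false {g : ℕ} (hU : isU g = true) (hsq : F.el g * F.el g = 1) : F.β = false := by
  by_contra hb
  rw [Bool.not_eq_false] at hb
  have hlt := isU_lt hU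
  have h := allB_spec (noU_check F.α) hlt
  rw [Bool.or_eq_true, Bool.not_eq_true', Bool.not_eq_true', ← hb] at h
  rcases h with h | h
  · rw [hU] at h; exact absurd h (by simp)
  · have hne : F.el g ≠ 1 := fun e => by
      rw [(F.el_eq_one hlt).1 e] at hU; exact absurd hU (by decide)
    rw [(F.isInv_iff hlt).2 ⟨hne, hsq⟩] at h; exact absurd h (by simp)

theorem a_spec : F.a ≠ 1 ∧ F.a * F.a = 1 ∧ F.a * z = z * F.a ∧ F.a ≠ z ∧ z * F.a = F.el 31 := by
  have h1 : F.a * F.a = F.el (mulC F.α F.β 15 15) := F.el_mul (by omega) (by omega)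
  have h2 : z * F.a = F.el (mulC F.α F.β 16 15) := by
    rw [← F.el_mul (by omega) (by omega), F.el_sixteen]; rfl
  have h : mulC F.α F.β 15 15 = 0 ∧ mulC F.α F.β 16 15 = 31 := by
    cases F.α <;> cases F.β <;> decide +kernel
  rw [h.1, F.el_zero] at h1
  rw [h.2] at h2
  refine ⟨fun e => ?_, h1, F.el_comm 15, fun e => ?_, h2⟩
  · exact absurd ((F.el_eq_one (by omega)).1 e) (by omega)
  · exact absurd (F.inj (show 15 < 768 by omega) (show 16 < 768 by omega) (by rw [F.el_sixteen]; exact e))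
      (by omega)

/-- conjugation in the centraliser respects the class of `InU` -/
theorem inU_conj {x : G} (h : F.InU x) : ∃ c, c * z = z * c ∧ c * F.el 224 * c⁻¹ = x := by
  obtain ⟨hb, g, hg, rfl⟩ := h
  have h := allB_spec (classU_check F.α) (isU_lt hg)
  rw [hg, Bool.not_true, Bool.false_or] at h
  obtain ⟨c, hc, h⟩ := anyB_spec h
  rw [beq_iff_eq, ← hb] at h
  exact ⟨F.el c, F.el_comm c, by rw [F.el_conj hc (by omega), h]⟩

/-- the subgroup with the given symbols -/
def subOf [Finite G] (P : ℕ → Bool) (h0 : P 0 = true)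
    (hP : ∀ g h, g < 768 → h < 768 → P g = true → P h = true → P (mulC F.α F.β g h) = true) :
    Subgroup G where
  carrier := {x | ∃ g < 768, P g = true ∧ F.el g = x}
  one_mem' := ⟨0, by omega, h0, F.el_zero⟩
  mul_mem' := by
    rintro _ _ ⟨g, hg, pg, rfl⟩ ⟨h, hh, ph, rfl⟩
    exact ⟨_, mulC_lt _ _ hg hh, hP g h hg hh pg ph, (F.el_mul hg hh).symm⟩
  inv_mem' := by
    rintro x ⟨g, hg, pg, rfl⟩
    have hmem : ∀ n : ℕ, ∃ k < 768, P k = true ∧ F.el k = F.el g ^ n := by
      intro n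
      induction n with
      | zero => exact ⟨0, by omega, h0, by rw [F.el_zero, pow_zero]⟩
      | succ n ih =>
        obtain ⟨k, hk, pk, e⟩ := ih
        exact ⟨_, mulC_lt _ _ hk hg, hP k g hk hg pk pg, by rw [← F.el_mul hk hg, e, pow_succ]⟩
    obtain ⟨k, hk, pk, e⟩ := hmem (orderOf (F.el g) - 1)
    refine ⟨k, hk, pk, e.trans (eq_inv_of_mul_eq_one_left ?_)⟩
    rw [← pow_succ, Nat.sub_add_cancel (orderOf_pos _), pow_orderOf_eq_one]

theorem mem_subOf [Finite G] {P : ℕ → Bool} {h0 : P 0 = true}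
    {hP : ∀ g h, g < 768 → h < 768 → P g = true → P h = true → P (mulC F.α F.β g h) = true} {x : G} :
    x ∈ F.subOf P h0 hP ↔ ∃ g < 768, P g = true ∧ F.el g = x := Iff.rfl

theorem card_subOf [Finite G] {P : ℕ → Bool} {h0 : P 0 = true}
    {hP : ∀ g h, g < 768 → h < 768 → P g = true → P h = true → P (mulC F.α F.β g h) = true} :
    Nat.card (F.subOf P h0 hP) = ((List.range 768).filter P).length := by
  classical
  have hnd : ((List.range 768).filter P).Nodup := List.nodup_range.filter _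
  rw [← List.toFinset_card_of_nodup hnd, ← Nat.card_eq_finsetCard]
  refine (Nat.card_congr (Equiv.ofBijective (fun g => (⟨F.el g.1, g.1, ?_, ?_, rfl⟩ : F.subOf P h0 hP))
    ⟨?_, ?_⟩)).symm
  · have := g.2; simp at this; exact this.1
  · have := g.2; simp at this; exact this.2
  · intro g h e
    have hg := g.2; have hh := h.2
    simp at hg hh
    exact Subtype.ext (F.inj hg.1 hh.1 (congrArg Subtype.val e))
  · rintro ⟨x, g, hg, pg, rfl⟩
    exact ⟨⟨g, by simp [hg, pg]⟩, rfl⟩

theorem chi_mul {g h : ℕ} (hg : g < 768) (hh : h < 768) :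
    parE (mulC F.α F.β g h) = parE g ^^^ parE h ∧
      sgnP (mulC F.α F.β g h / 32) = sgnP (g / 32) ^^^ sgnP (h / 32) := by
  have hm : ∀ x, parE x = parE (x % 32) := fun x => by simp [parE, Nat.mod_mod_of_dvd]
  have hp : g / 32 < 24 := by omega
  have hq : h / 32 < 24 := by omega
  have hx : g % 32 < 32 := Nat.mod_lt _ (by omega)
  have hy : h % 32 < 32 := Nat.mod_lt _ (by omega)
  have hay := act_lt hp hy
  have he := eMul_lt hx hay
  have hk := kk_lt F.α F.β (g / 32) (h / 32)
  have hl := xor_lt he hk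
  have h1 : mulC F.α F.β g h % 32 =
      eMul (g % 32) (act (g / 32) (h % 32)) ^^^ (16 * kk F.α F.β (g / 32) (h / 32)) := by
    unfold mulC; omega
  have h2 : mulC F.α F.β g h / 32 = pMul (g / 32) (h / 32) := by unfold mulC; omega
  refine ⟨?_, ?_⟩
  · rw [hm, hm g, hm h, h1]
    have c1 := allB_spec parE_check he
    have c2 := allB_spec parE_check hx
    have c3 := allB_spec parE_check hy
    simp only [Bool.and_eq_true, beq_iff_eq, decide_eq_true_eq] at c1 c2 c3
    have d1 := eq_of_beq (allB_spec c2.1.2 hay)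
    have d2 := eq_of_beq (allB_spec c3.1.1.2 hp)
    rw [← d2, ← d1]
    rcases (show kk F.α F.β (g / 32) (h / 32) = 0 ∨ kk F.α F.β (g / 32) (h / 32) = 1 by omega) with e | e <;>
      rw [e] <;> simp [c1.2]
  · rw [h2]
    have c := allB_spec sgnP_check hp
    simp only [Bool.and_eq_true, decide_eq_true_eq] at c
    exact eq_of_beq (allB_spec c.2 hq)

theorem chi_bits {g : ℕ} (hg : g < 768) : parE g < 2 ∧ sgnP (g / 32) < 2 ∧
    chi g % 2 = parE g ∧ (chi g = 0 ↔ parE g = 0 ∧ sgnP (g / 32) = 0) := by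
  have h1 : parE g < 2 := Nat.mod_lt _ (by omega)
  have h2 : sgnP (g / 32) < 2 := Nat.mod_lt _ (by omega)
  have _ := hg
  refine ⟨h1, h2, ?_, ?_⟩ <;> unfold chi <;> omega

end Frame

end CfsgLib.AutL34
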