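import Cfsg.Agent.Lib.AutL34.Core

/-!
The fusion of `z`.
-/
set_option autoImplicit false
set_option maxRecDepth 10000

namespace CfsgLib.AutL34

universe u

theorem a1a2_mul (α : Bool) :
    (∀ g h, g < 768 → h < 768 → inA1 g = true → inA1 h = true → inA1 (mulC α false g h) = true) ∧
    (∀ g h, g < 768 → h < 768 → inA2 g = true → inA2 h = true → inA2 (mulC α false g h) = true) := by
  have hg := group_check α
  rw [Bool.and_eq_true] at hg
  constructor <;> intro g h _ _ hg' hh'
  · have := List.all_eq_true.1 hg.1 g (List.contains_iff_mem.1 hg')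
    rw [Bool.and_eq_true] at this
    have := List.all_eq_true.1 this.2 h (List.contains_iff_mem.1 hh')
    rw [Bool.and_eq_true] at this
    exact this.2
  · have := List.all_eq_true.1 hg.2 g (List.contains_iff_mem.1 hg')
    rw [Bool.and_eq_true] at this
    have := List.all_eq_true.1 this.2 h (List.contains_iff_mem.1 hh')
    rw [Bool.and_eq_true] at this
    exact this.2

theorem a1a2_comm (α : Bool) {g h : ℕ}
    (hgh : (inA1 g = true ∧ inA1 h = true) ∨ (inA2 g = true ∧ inA2 h = true)) :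
    commC α false g h = true ∧ sqC α false g = 0 := by
  have hg := group_check α
  rw [Bool.and_eq_true] at hg
  rcases hgh with ⟨a, b⟩ | ⟨a, b⟩
  · have := List.all_eq_true.1 hg.1 g (List.contains_iff_mem.1 a)
    rw [Bool.and_eq_true, beq_iff_eq] at this
    have h2 := List.all_eq_true.1 this.2 h (List.contains_iff_mem.1 b)
    rw [Bool.and_eq_true] at h2
    exact ⟨h2.1, this.1⟩
  · have := List.all_eq_true.1 hg.2 g (List.contains_iff_mem.1 a)
    rw [Bool.and_eq_true, beq_iff_eq] at this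
    have h2 := List.all_eq_true.1 this.2 h (List.contains_iff_mem.1 b)
    rw [Bool.and_eq_true] at h2
    exact ⟨h2.1, this.1⟩

theorem card_lists : ((List.range 768).filter inA1).length = 16 ∧
    ((List.range 768).filter inA2).length = 16 ∧
    ((List.range 768).filter fun g => inA1 g && isU g).length = 12 ∧
    ((List.range 768).filter isA).length = 4 := by
  decide +kernel

namespace Frame

variable {G : Type u} [Group G] [Finite G] {z : G} (F : Frame G z) (hb : F.β = false)

/-- the first elementary abelian subgroup of order sixteen -/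
def A1 : Subgroup G :=
  F.subOf inA1 (by decide) (by rw [hb]; exact (a1a2_mul F.α).1)

/-- the second one -/
def A2 : Subgroup G :=
  F.subOf inA2 (by decide) (by rw [hb]; exact (a1a2_mul F.α).2)

theorem mem_A1 {x : G} : x ∈ F.A1 hb ↔ ∃ g < 768, inA1 g = true ∧ F.el g = x := Iff.rfl

theorem mem_A2 {x : G} : x ∈ F.A2 hb ↔ ∃ g < 768, inA2 g = true ∧ F.el g = x := Iff.rfl

theorem card_A1 : Nat.card (F.A1 hb) = 16 := by
  rw [A1, F.card_subOf]; exact card_lists.1

theorem card_A2 : Nat.card (F.A2 hb) = 16 := by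
  rw [A2, F.card_subOf]; exact card_lists.2.1

include hb in
theorem comm_side {g h : ℕ} (hgh : (inA1 g = true ∧ inA1 h = true) ∨ (inA2 g = true ∧ inA2 h = true)) :
    F.el g * F.el h = F.el h * F.el g := by
  have hg : g < 768 := hgh.elim (fun p => inA_lt (Or.inl p.1)) fun p => inA_lt (Or.inr p.1)
  have hh : h < 768 := hgh.elim (fun p => inA_lt (Or.inl p.2)) fun p => inA_lt (Or.inr p.2)
  refine (F.commC_iff hg hh).1 ?_
  rw [hb]
  exact (a1a2_comm F.α hgh).1

theorem A1_comm {x y : G} (hx : x ∈ F.A1 hb) (hy : y ∈ F.A1 hb) : x * y = y * x := by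
  obtain ⟨g, -, hg, rfl⟩ := hx
  obtain ⟨h, -, hh, rfl⟩ := hy
  exact F.comm_side hb (Or.inl ⟨hg, hh⟩)

include hb in
theorem el_sq {g : ℕ} (h : inA1 g = true ∨ inA2 g = true) : F.el g * F.el g = 1 := by
  refine (F.sqC_iff (inA_lt h)).1 ?_
  rw [hb]
  exact (a1a2_comm F.α (g := g) (h := g) (h.imp (fun p => ⟨p, p⟩) fun p => ⟨p, p⟩)).2

theorem A1_sq {x : G} (hx : x ∈ F.A1 hb) : x * x = 1 := by
  obtain ⟨g, -, hg, rfl⟩ := hx
  exact F.el_sq hb (Or.inl hg)

theorem A2_sq {x : G} (hx : x ∈ F.A2 hb) : x * x = 1 := by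
  obtain ⟨g, -, hg, rfl⟩ := hx
  exact F.el_sq hb (Or.inr hg)

theorem z_mem_A1 : z ∈ F.A1 hb := ⟨16, by omega, by decide, F.el_sixteen⟩

theorem a_mem_A1 : F.a ∈ F.A1 hb := ⟨15, by omega, by decide, rfl⟩

include F in
/-- conjugates of `z` in the centraliser -/
theorem members_sub {w : G} (hw : IsConj z w) (hwz : w * z = z * w) (hne : w ≠ z) : F.InA w ∨ F.InU w := by
  obtain ⟨g, rfl⟩ := isConj_iff.1 hw
  set z' := g⁻¹ * z * g with hz'
  have hz'1 : z' ≠ 1 := fun e => F.z_ne (by
    calc z = g * z' * g⁻¹ := by rw [hz']; group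
      _ = 1 := by rw [e]; group)
  have hz'2 : z' * z' = 1 := by
    calc z' * z' = g⁻¹ * (z * z) * g := by rw [hz']; group
      _ = 1 := by rw [F.z_sq]; group
  have hz'z : z' * z = z * z' := by
    calc z' * z = g⁻¹ * (z * (g * z * g⁻¹)) * g := by rw [hz']; group
      _ = g⁻¹ * (g * z * g⁻¹ * z) * g := by rw [hwz]
      _ = z * z' := by rw [hz']; group
  obtain ⟨r, hr, hrz', hr2⟩ := F.exists_root hz'z hz'1 hz'2
  have hc : g * r * g⁻¹ * z = z * (g * r * g⁻¹) := by
    calc g * r * g⁻¹ * z = g * (r * z') * g⁻¹ := by rw [hz']; group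
      _ = g * (z' * r) * g⁻¹ := by rw [hrz']
      _ = z * (g * r * g⁻¹) := by rw [hz']; group
  have hsq : g * r * g⁻¹ * (g * r * g⁻¹) = g * z * g⁻¹ := by
    rw [← hr2]; group
  have h := F.square_cases hc (by rw [hsq]; exact fun e => F.z_ne (conj_eq_one_iff.1 e))
    (by
      rw [hsq]
      calc g * z * g⁻¹ * (g * z * g⁻¹) = g * (z * z) * g⁻¹ := by group
        _ = 1 := by rw [F.z_sq]; group)
  rwa [hsq] at h

theorem inA_mem_both {x : G} (h : x = z ∨ F.InA x) : x ∈ F.A1 hb ∧ x ∈ F.A2 hb := by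
  have key : ∀ g, isA g = true → F.el g ∈ F.A1 hb ∧ F.el g ∈ F.A2 hb := fun g hg =>
    ⟨⟨g, mem_lt.2 hg, (isA_inA hg).1, rfl⟩, ⟨g, mem_lt.2 hg, (isA_inA hg).2, rfl⟩⟩
  rcases h with rfl | ⟨g, hg, -, rfl⟩
  · have := key 16 (by decide)
    rwa [F.el_sixteen] at this
  · exact key g hg

/-- An element sending a member of `A₁` to `z` and the members of `A₁ ∖ A` to members can be adjusted
in the centraliser to normalise `A₁`. -/
theorem exists_normalizing (h : G) {x₀ : G} (hx₀ : x₀ ∈ F.A1 hb) (h0 : h * x₀ * h⁻¹ = z)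
    (hU : ∀ g, inA1 g = true → isU g = true → IsConj z (F.el g)) :
    ∃ n, n * x₀ * n⁻¹ = z ∧ ∀ x ∈ F.A1 hb, n * x * n⁻¹ ∈ F.A1 hb := by
  classical
  let T : List ℕ := (List.range 768).filter fun g => inA1 g && isU g
  have hT : ∀ g ∈ T, g < 768 ∧ inA1 g = true ∧ isU g = true := fun g hg => by
    simpa [T, and_assoc] using hg
  have himg : ∀ g, inA1 g = true → isU g = true →
      h * F.el g * h⁻¹ = z ∨ F.InA (h * F.el g * h⁻¹) ∨ F.InU (h * F.el g * h⁻¹) := by
    intro g hg hgU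
    by_cases he : h * F.el g * h⁻¹ = z
    · exact Or.inl he
    refine Or.inr (F.members_sub ((hU g hg hgU).trans (isConj_iff.2 ⟨h, rfl⟩)) ?_ he)
    calc h * F.el g * h⁻¹ * z = h * F.el g * h⁻¹ * (h * x₀ * h⁻¹) := by rw [h0]
      _ = h * (F.el g * x₀) * h⁻¹ := by group
      _ = h * (x₀ * F.el g) * h⁻¹ := by rw [F.A1_comm hb ⟨g, inA_lt (Or.inl hg), hg, rfl⟩ hx₀]
      _ = h * x₀ * h⁻¹ * (h * F.el g * h⁻¹) := by group
      _ = z * (h * F.el g * h⁻¹) := by rw [h0]
  -- one of the images lies outside the four-group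
  obtain ⟨g₁, hg₁, k₁, hk₁, hk₁'⟩ : ∃ g₁ ∈ T, ∃ k, isU k = true ∧ h * F.el g₁ * h⁻¹ = F.el k := by
    by_contra hno
    push Not at hno
    have hsub : T.toFinset.image (fun g => h * F.el g * h⁻¹) ⊆
        ([16, 15, 31].toFinset).image F.el := by
      intro y hy
      obtain ⟨g, hg, rfl⟩ := Finset.mem_image.1 hy
      rw [List.mem_toFinset] at hg
      obtain ⟨-, g1, g2⟩ := hT g hg
      rcases himg g g1 g2 with e | e | ⟨-, k, hk, e⟩
      · exact Finset.mem_image.2 ⟨16, by simp, by rw [F.el_sixteen, e]⟩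
      · rcases F.inA_cases e with e | e | e
        · exact Finset.mem_image.2 ⟨16, by simp, by rw [F.el_sixteen, e]⟩
        · exact Finset.mem_image.2 ⟨15, by simp, e.symm⟩
        · exact Finset.mem_image.2 ⟨31, by simp, e.symm⟩
      · exact absurd e.symm (hno g hg k hk)
    have h1 := (Finset.card_le_card hsub).trans Finset.card_image_le
    rw [Finset.card_image_of_injOn, List.toFinset_card_of_nodup (List.nodup_range.filter _),
      card_lists.2.2.1] at h1
    · exact absurd (h1.trans (List.toFinset_card_le _)) (by simp)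
    · intro g hg g' hg' e
      simp only [Finset.mem_coe, List.mem_toFinset] at hg hg'
      exact F.inj (hT g hg).1 (hT g' hg').1 (conj_injective e)
  obtain ⟨-, g11, -⟩ := hT g₁ hg₁
  -- all images lie on one side
  obtain ⟨c, hcz, hc⟩ : ∃ c, c * z * c⁻¹ = z ∧
      ∀ g, inA1 g = true → isU g = true → c * (h * F.el g * h⁻¹) * c⁻¹ ∈ F.A1 hb := by
    have side : ∀ g, inA1 g = true → isU g = true →
        (inA1 k₁ = true → h * F.el g * h⁻¹ ∈ F.A1 hb) ∧ (inA1 k₁ = false → h * F.el g * h⁻¹ ∈ F.A2 hb) := by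
      intro g g1 g2
      rcases himg g g1 g2 with e | e | ⟨-, k, hk, e⟩
      · exact ⟨fun _ => (F.inA_mem_both hb (Or.inl e)).1, fun _ => (F.inA_mem_both hb (Or.inl e)).2⟩
      · exact ⟨fun _ => (F.inA_mem_both hb (Or.inr e)).1, fun _ => (F.inA_mem_both hb (Or.inr e)).2⟩
      have hcomm : commC F.α F.β k₁ k = true := by
        rw [F.commC_iff (isU_lt hk₁) (isU_lt hk), ← hk₁', e]
        calc h * F.el g₁ * h⁻¹ * (h * F.el g * h⁻¹) = h * (F.el g₁ * F.el g) * h⁻¹ := by group
          _ = h * (F.el g * F.el g₁) * h⁻¹ := by rw [F.comm_side hb (Or.inl ⟨g11, g1⟩)]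
          _ = _ := by group
      obtain ⟨hs, hA⟩ := isU_iff.1 hk
      obtain ⟨hs₁, hA₁⟩ := isU_iff.1 hk₁
      rw [hb] at hcomm
      have hno : ∀ u v, inA1 u = true → inA2 v = true → isA u = false → isA v = false →
          commC F.α false u v = false := fun u v hu hv hu' hv' => by
        have := List.all_eq_true.1 (List.all_eq_true.1 (side_check F.α) u (List.contains_iff_mem.1 hu)) v
          (List.contains_iff_mem.1 hv)
        simpa [hu', hv'] using this
      refine ⟨fun h1 => ?_, fun h1 => ?_⟩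
      · refine ⟨k, isU_lt hk, ?_, e⟩
        rcases hs with hs | hs
        · exact hs
        · exact absurd hcomm (by rw [hno k₁ k h1 hs hA₁ hA]; simp)
      · refine ⟨k, isU_lt hk, ?_, e⟩
        rcases hs with hs | hs
        · have hcomm' : commC F.α false k k₁ = true := by rw [commC, beq_iff_eq] at hcomm ⊢; exact hcomm.symm
          exact absurd hcomm' (by
            rw [hno k k₁ hs (hs₁.resolve_left (by simp [h1])) hA hA₁]; simp)
        · exact hs
    by_cases hk1 : inA1 k₁ = true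
    · refine ⟨1, by group, fun g g1 g2 => ?_⟩
      simpa using (side g g1 g2).1 hk1
    · refine ⟨F.el 1, by rw [F.el_comm 1]; group, fun g g1 g2 => ?_⟩
      obtain ⟨k, hk, hk2, e⟩ := (side g g1 g2).2 (Bool.eq_false_iff.2 hk1)
      rw [← e, F.el_conj (by omega) hk]
      refine ⟨_, F.lt_conjC (by omega) hk, ?_, rfl⟩
      have h1 := allB_spec (conjU_check F.α) (i := 1) (by omega)
      rw [Bool.and_eq_true] at h1
      have h2 := List.all_eq_true.1 h1.2 k (List.contains_iff_mem.1 hk2)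
      rw [hb]
      simpa [show chi 1 % 2 = 1 by decide] using h2
  refine ⟨c * h, by rw [show c * h * x₀ * (c * h)⁻¹ = c * (h * x₀ * h⁻¹) * c⁻¹ by group, h0, hcz], ?_⟩
  rintro _ ⟨g, -, hg, rfl⟩
  have hgen := genU_check F.α
  rw [Bool.and_eq_true] at hgen
  obtain ⟨u, hu, h2⟩ := List.any_eq_true.1 (List.all_eq_true.1 hgen.1 g (List.contains_iff_mem.1 hg))
  rw [Bool.and_eq_true] at h2
  obtain ⟨v, hv, h3⟩ := List.any_eq_true.1 h2.2
  rw [Bool.and_eq_true, beq_iff_eq] at h3
  have hu' : inA1 u = true := List.contains_iff_mem.2 hu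
  have hv' : inA1 v = true := List.contains_iff_mem.2 hv
  rw [← h3.2, ← hb, ← F.el_mul (inA_lt (Or.inl hu')) (inA_lt (Or.inl hv')),
    show c * h * (F.el u * F.el v) * (c * h)⁻¹ =
      c * (h * F.el u * h⁻¹) * c⁻¹ * (c * (h * F.el v * h⁻¹) * c⁻¹) by group]
  exact mul_mem (hc u hu' h2.1) (hc v hv' h3.1)

include F in
/-- every conjugate of `z` in the centraliser is `z` unless `z` is conjugate to `a` -/
theorem isolated_of_not_conj (ha : ¬ IsConj z F.a) {w : G} (hw : IsConj z w) (hwz : w * z = z * w) :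
    w = z := by
  by_contra hne
  have hza : ¬ IsConj z (F.el 31) := fun h => ha (h.trans (isConj_iff.2 ⟨F.el 1, F.conj_one_a⟩).symm)
  rcases F.members_sub hw hwz hne with h | h
  · rcases F.inA_cases h with e | e | e
    · exact hne e
    · exact ha (e ▸ hw)
    · exact hza (e ▸ hw)
  obtain ⟨hb, -⟩ := id h
  obtain ⟨c, -, hc⟩ := F.inU_conj h
  have h224 : IsConj z (F.el 224) := hw.trans (isConj_iff.2 ⟨c, hc⟩).symm
  have hU : ∀ g, inA1 g = true → isU g = true → IsConj z (F.el g) := fun g _ hgU => by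
    obtain ⟨d, -, hd⟩ := F.inU_conj (x := F.el g) ⟨hb, g, hgU, rfl⟩
    exact h224.trans (isConj_iff.2 ⟨d, hd⟩)
  obtain ⟨g, hg⟩ := isConj_iff.1 h224
  obtain ⟨n, hn0, hn⟩ := F.exists_normalizing hb g⁻¹ (x₀ := F.el 224) ⟨224, by omega, by decide, rfl⟩
    (by rw [← hg]; group) hU
  -- the only elements of `A₁` not conjugate to `z` are `a` and `za`
  have key : ∀ y, ¬ IsConj z y → y ≠ 1 → y ∈ F.A1 hb → y = F.a ∨ y = F.el 31 := by
    rintro _ hy hy1 ⟨k, hk, hk1, rfl⟩
    by_cases hkA : isA k = true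
    · rcases F.inA_cases ⟨k, hkA, fun e => hy1 (by rw [e, F.el_zero]), rfl⟩ with e | e | e
      · exact absurd (e.symm ▸ IsConj.refl z) hy
      · exact Or.inl e
      · exact Or.inr e
    · exact absurd (hU k hk1 (isU_iff.2 ⟨Or.inl hk1, by simpa using hkA⟩)) hy
  have hconj : ∀ y, ¬ IsConj z y → y ≠ 1 → y ∈ F.A1 hb → n * y * n⁻¹ = F.a ∨ n * y * n⁻¹ = F.el 31 :=
    fun y hy hy1 hyA => key _ (fun h => hy (h.trans (isConj_iff.2 ⟨n, rfl⟩).symm))
      (fun e => hy1 (conj_eq_one_iff.1 e)) (hn y hyA)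
  obtain ⟨a1, a2, a3, a4, a5⟩ := F.a_spec
  have h31 : F.el 31 ∈ F.A1 hb := ⟨31, by omega, by decide, rfl⟩
  have h311 : F.el 31 ≠ 1 := fun e => absurd ((F.el_eq_one (by omega)).1 e) (by omega)
  have ne : n * F.a * n⁻¹ ≠ n * F.el 31 * n⁻¹ := fun e => by
    have := conj_injective e
    rw [← a5] at this
    exact F.z_ne (mul_eq_right.1 this.symm)
  have hz31 : F.a * F.el 31 = z := by rw [← a5, ← mul_assoc, a3, mul_assoc, a2, mul_one]
  have h31a : F.el 31 * F.a = z := by rw [← a5, mul_assoc, a2, mul_one]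
  have hfix : n * z * n⁻¹ = z := by
    conv_lhs => rw [← hz31, show n * (F.a * F.el 31) * n⁻¹ = n * F.a * n⁻¹ * (n * F.el 31 * n⁻¹) by group]
    rcases hconj _ ha a1 (F.a_mem_A1 hb) with e | e <;> rcases hconj _ hza h311 h31 with e' | e' <;>
      rw [e, e'] at ne ⊢
    · exact absurd rfl ne
    · exact hz31
    · exact h31a
    · exact absurd rfl ne
  exact (F.inU_spec ⟨hb, 224, by decide, rfl⟩).2.1 (conj_injective (hn0.trans hfix.symm))

end Frame

end CfsgLib.AutL34
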