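import Cfsg.Agent.Lib.AutL34.Tables
import Mathlib.Algebra.Group.Basic
import Mathlib.Algebra.BigOperators.Group.List.Basic
import Mathlib.Tactic.IntervalCases

/-!
Elements satisfying the relations of `2^{1+4}_-.Sym(4)`, and the homomorphism from symbols they define.
-/
set_option autoImplicit false
set_option maxRecDepth 10000
set_option linter.unusedSimpArgs false

namespace CfsgLib.AutL34

theorem lm {L : Type*} [Group L] {a b c : L} (h : a * b = c) (w : L) : a * (b * w) = c * w := by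
  rw [← mul_assoc, h]

theorem lm3 {L : Type*} [Group L] {a b c d : L} (h : a * (b * c) = d) (w : L) :
    a * (b * (c * w)) = d * w := by rw [← h]; simp [mul_assoc]

theorem lm4 {L : Type*} [Group L] {a b c d r : L} (h : a * (b * (c * d)) = r) (w : L) :
    a * (b * (c * (d * w))) = r * w := by rw [← h]; simp [mul_assoc]

/-- generators of the extraspecial group with their relations -/
structure EGens (L : Type*) [Group L] (z : L) where
  /-- generator -/
  e1 : L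
  /-- generator -/
  e2 : L
  /-- generator -/
  e3 : L
  /-- generator -/
  e4 : L
  z_sq : z * z = 1
  e1_sq : e1 * e1 = 1
  e2_sq : e2 * e2 = 1
  e3_sq : e3 * e3 = 1
  e4_sq : e4 * e4 = 1
  e1_z : e1 * z = z * e1
  e2_z : e2 * z = z * e2
  e3_z : e3 * z = z * e3
  e4_z : e4 * z = z * e4
  e21 : e2 * e1 = z * (e1 * e2)
  e31 : e3 * e1 = z * (e1 * e3)
  e41 : e4 * e1 = z * (e1 * e4)
  e32 : e3 * e2 = z * (e2 * e3)
  e42 : e4 * e2 = z * (e2 * e4)
  e43 : e4 * e3 = z * (e3 * e4)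

/-- generators and relations -/
structure Gens (α β : Bool) (L : Type*) [Group L] (z : L) extends EGens L z where
  /-- lift of a transposition -/
  s1 : L
  /-- lift of a transposition -/
  s2 : L
  /-- lift of a transposition -/
  s3 : L
  s1_z : s1 * z = z * s1
  s2_z : s2 * z = z * s2
  s3_z : s3 * z = z * s3
  s1_e1 : s1 * e1 = e2 * s1
  s1_e2 : s1 * e2 = e1 * s1
  s1_e3 : s1 * e3 = e3 * s1
  s1_e4 : s1 * e4 = e4 * s1
  s2_e1 : s2 * e1 = e1 * s2
  s2_e2 : s2 * e2 = e3 * s2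
  s2_e3 : s2 * e3 = e2 * s2
  s2_e4 : s2 * e4 = e4 * s2
  s3_e1 : s3 * e1 = e1 * s3
  s3_e2 : s3 * e2 = e2 * s3
  s3_e3 : s3 * e3 = e4 * s3
  s3_e4 : s3 * e4 = e3 * s3
  s1_sq : s1 * s1 = z ^ α.toNat
  s2_sq : s2 * s2 = z ^ α.toNat
  s3_sq : s3 * s3 = z ^ α.toNat
  s31 : s3 * s1 = z ^ β.toNat * (s1 * s3)
  s212 : s2 * (s1 * s2) = z ^ α.toNat * (s1 * (s2 * s1))
  s323 : s3 * (s2 * s3) = z ^ α.toNat * (s2 * (s3 * s2))

namespace EGens

variable {L : Type*} [Group L] {z : L} (X : EGens L z)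

/-- the element of an extraspecial symbol -/
def elE (x : ℕ) : L :=
  z ^ bitN x 4 * (X.e1 ^ bitN x 0 * (X.e2 ^ bitN x 1 * (X.e3 ^ bitN x 2 * X.e4 ^ bitN x 3)))

theorem gen_mul {g : ℕ} (hg : g = 1 ∨ g = 2 ∨ g = 4 ∨ g = 8 ∨ g = 16) {y : ℕ} (hy : y < 32) :
    X.elE g * X.elE y = X.elE (eMul g y) := by
  rcases hg with rfl | rfl | rfl | rfl | rfl <;> interval_cases y <;>
    simp [elE, eMul, bitN, mul_assoc, X.z_sq, X.e1_sq, X.e2_sq, X.e3_sq, X.e4_sq, X.e1_z, X.e2_z, X.e3_z,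
      X.e4_z, X.e21, X.e31, X.e41, X.e32, X.e42, X.e43, lm X.z_sq, lm X.e1_sq, lm X.e2_sq, lm X.e3_sq,
      lm X.e4_sq, lm X.e1_z, lm X.e2_z, lm X.e3_z, lm X.e4_z, lm X.e21, lm X.e31, lm X.e41, lm X.e32,
      lm X.e42, lm X.e43]

end EGens

namespace Gens

variable {α β : Bool} {L : Type*} [Group L] {z : L} (X : Gens α β L z)

/-- the lift of an adjacent transposition -/
def sg (i : ℕ) : L := bif i == 0 then X.s1 else bif i == 1 then X.s2 else X.s3

/-- the element of a permutation symbol -/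
def elD (p : ℕ) : L := ((wordOf p).map X.sg).prod

/-- the element of a symbol -/
def el (g : ℕ) : L := X.toEGens.elE (g % 32) * X.elD (g / 32)

theorem s3213 : X.s3 * (X.s2 * (X.s1 * X.s3)) =
    z ^ α.toNat * (z ^ β.toNat * (X.s2 * (X.s3 * (X.s2 * X.s1)))) := by
  have h : X.s1 * X.s3 = z ^ β.toNat * (X.s3 * X.s1) := by
    cases β
    · have h0 := X.s31; simp only [Bool.toNat_false, pow_zero, one_mul] at h0 ⊢; exact h0.symm
    · have h0 := X.s31; simp only [Bool.toNat_true, pow_one] at h0 ⊢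
      rw [h0, ← mul_assoc, X.z_sq, one_mul]
  have c2 : X.s2 * z ^ β.toNat = z ^ β.toNat * X.s2 := (Commute.pow_right X.s2_z _).eq
  have c3 : X.s3 * z ^ β.toNat = z ^ β.toNat * X.s3 := (Commute.pow_right X.s3_z _).eq
  rw [h, lm c2, mul_assoc, lm c3, mul_assoc, lm3 X.s323]
  simp only [mul_assoc]
  rw [lm (pow_mul_comm z β.toNat α.toNat), mul_assoc]

theorem sg_elE {i : ℕ} (hi : i < 3) {y : ℕ} (hy : y < 32) :
    X.sg i * X.elE y = X.elE (act (genP i) y) * X.sg i := by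
  interval_cases i <;> interval_cases y <;>
    simp [EGens.elE, sg, genP, act, bitN, mul_assoc, X.z_sq, X.e1_z, X.e2_z, X.e3_z, X.e4_z, X.s1_z, X.s2_z,
      X.s3_z, X.e21, X.e31, X.e41, X.e32, X.e42, X.e43, X.s1_e1, X.s1_e2, X.s1_e3, X.s1_e4, X.s2_e1,
      X.s2_e2, X.s2_e3, X.s2_e4, X.s3_e1, X.s3_e2, X.s3_e3, X.s3_e4, lm X.z_sq, lm X.e1_z, lm X.e2_z,
      lm X.e3_z, lm X.e4_z, lm X.s1_z, lm X.s2_z, lm X.s3_z, lm X.e21, lm X.e31, lm X.e41, lm X.e32,
      lm X.e42, lm X.e43, lm X.s1_e1, lm X.s1_e2, lm X.s1_e3, lm X.s1_e4, lm X.s2_e1, lm X.s2_e2,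
      lm X.s2_e3, lm X.s2_e4, lm X.s3_e1, lm X.s3_e2, lm X.s3_e3, lm X.s3_e4]

theorem sg_elD {i : ℕ} (hi : i < 3) {p : ℕ} (hp : p < 24) :
    X.sg i * X.elD p = z ^ kk α β (genP i) p * X.elD (pMul (genP i) p) := by
  have q1 := X.s1_sq
  have q2 := X.s2_sq
  have q3 := X.s3_sq
  have q31 := X.s31
  have q212 := X.s212
  have q323 := X.s323
  have q3213 := X.s3213
  cases α <;> cases β <;>
    simp only [Bool.toNat_false, Bool.toNat_true, pow_zero, pow_one, one_mul] at q1 q2 q3 q31 q212 q323 q3213 <;>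
    interval_cases i <;> interval_cases p <;>
    simp [elD, sg, genP, pMul, kk, bitN, wordOf, words, mul_assoc, X.z_sq, X.s1_z, X.s2_z, X.s3_z,
      q1, q2, q3, q31, q212, q323, q3213, lm X.z_sq, lm X.s1_z, lm X.s2_z, lm X.s3_z, lm q1, lm q2, lm q3,
      lm q31, lm3 q212, lm3 q323, lm4 q3213]

end Gens

end CfsgLib.AutL34
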