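import Cfsg.Agent.Lib.AutL34.Fusion
import Cfsg.Agent.Lib.StrongCrit.SecOdd
import Cfsg.Agent.Lib.InvChar.SmallSolvable

/-!
The isolated case, and the setting of the criterion for strong embedding when the conjugates of `z` in the
centraliser form a four-group.
-/
set_option autoImplicit false
set_option maxRecDepth 10000

namespace CfsgLib.AutL34

universe u

open MulAction

namespace Frame

variable {G : Type u} [Group G] [Finite G] {z : G} (F : Frame G z)

include F in
theorem orderOf_z : orderOf z = 2 :=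
  orderOf_eq_prime (by rw [pow_two]; exact F.z_sq) F.z_ne

include F in
theorem card_centralizer : Nat.card (Subgroup.centralizer ({z} : Set G)) = 768 := by
  rw [← Nat.card_fin 768]
  refine (Nat.card_eq_of_bijective (fun g : Fin 768 => (⟨F.el g,
    Subgroup.mem_centralizer_singleton_iff.2 (F.el_comm g)⟩ : Subgroup.centralizer ({z} : Set G))) ⟨?_, ?_⟩).symm
  · exact fun g h e => Fin.ext (F.inj g.2 h.2 (congrArg Subtype.val e))
  · rintro ⟨x, hx⟩
    obtain ⟨g, hg, e⟩ := F.surj (Subgroup.mem_centralizer_singleton_iff.1 hx)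
    exact ⟨⟨g, hg⟩, Subtype.ext e⟩

include F in
/-- a normal subgroup meeting the centraliser contains `z` -/
theorem z_mem_of_normal {N : Subgroup G} [hN : N.Normal] {x : G} (hx : x ∈ N) (hxz : x * z = z * x)
    (hx1 : x ≠ 1) : z ∈ N := by
  have hcom : ∀ y, y ∈ N → ∀ w : G, y * w * y⁻¹ * w⁻¹ ∈ N := fun y hy w => by
    simpa [mul_assoc] using mul_mem hy (hN.conj_mem _ (inv_mem hy) w)
  have small : ∀ g < 32, F.el g ∈ N → F.el g ≠ 1 → z ∈ N := by
    intro g hg hgN hg1
    by_cases h16 : g = 16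
    · rw [h16, F.el_sixteen] at hgN; exact hgN
    have h0 : g ≠ 0 := fun e => hg1 (by rw [e, F.el_zero])
    have h1 := allB_spec noncentral_check hg
    simp only [Bool.or_eq_true, beq_iff_eq] at h1
    obtain ⟨y, hy, h2⟩ := anyB_spec (h1.resolve_left (by simp [h0, h16]))
    rw [beq_iff_eq] at h2
    have he : allB 32 (fun p => allB 32 fun q => mulC F.α F.β p q == eMul p q) = true := by
      cases F.α <;> cases F.β <;> decide +kernel
    have he' : allB 32 (fun p => p ^^^ 16 == mulC F.α F.β 16 p) = true := by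
      cases F.α <;> cases F.β <;> decide +kernel
    have hl := eMul_lt hy hg
    have e2 : F.el g * F.el y = z * (F.el y * F.el g) := by
      rw [F.el_mul (by omega) (by omega), F.el_mul (by omega) (by omega),
        eq_of_beq (allB_spec (allB_spec he hg) hy), eq_of_beq (allB_spec (allB_spec he hy) hg), h2,
        eq_of_beq (allB_spec he' hl), ← F.el_mul (by omega) (by omega), F.el_sixteen]
    have e3 : F.el g * F.el y * (F.el g)⁻¹ * (F.el y)⁻¹ = z := by rw [e2]; group
    rw [← e3]
    exact hcom _ hgN _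
  obtain ⟨c, hc, rfl⟩ := F.surj hxz
  have h := allB_spec (normE_check F.α F.β) hc
  simp only [Bool.and_eq_true, Bool.or_eq_true, Bool.not_eq_true', decide_eq_true_eq] at h
  rcases h.2 with h2 | h2
  swap
  · exact small c h2 hx hx1
  obtain ⟨i, hi, hni⟩ : ∃ i < 4, commC F.α F.β c (2 ^ i) = false := by
    by_contra hno
    push Not at hno
    have : allB 4 (fun i => commC F.α F.β c (2 ^ i)) = true := List.all_eq_true.2 fun i hi => by
      simpa using hno i (List.mem_range.1 hi)
    rw [this] at h2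
    exact absurd h2 (by simp)
  have h2i : 2 ^ i < 32 :=
    lt_of_le_of_lt (Nat.pow_le_pow_right (by omega) (by omega : i ≤ 3)) (by norm_num)
  have hcj := of_decide_eq_true (allB_spec h.1 hi)
  have hi' : invC F.α F.β (2 ^ i) < 32 := by
    have : allB 32 (fun g => decide (invC F.α F.β g < 32)) = true := by
      cases F.α <;> cases F.β <;> decide +kernel
    exact of_decide_eq_true (allB_spec this h2i)
  have hm := of_decide_eq_true (allB_spec (allB_spec (mulE_check F.α F.β) hcj) hi')
  have e : F.el c * F.el (2 ^ i) * (F.el c)⁻¹ * (F.el (2 ^ i))⁻¹ =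
      F.el (mulC F.α F.β (conjC F.α F.β c (2 ^ i)) (invC F.α F.β (2 ^ i))) := by
    rw [F.el_conj hc (by omega), F.el_inv (by omega : 2 ^ i < 768), F.el_mul (by omega) (by omega)]
  refine small _ hm (e ▸ hcom _ hx _) ?_
  rw [← e]
  intro h0
  rw [mul_inv_eq_one, mul_inv_eq_iff_eq_mul] at h0
  rw [(F.commC_iff hc (by omega)).2 h0] at hni
  exact absurd hni (by simp)

include F in
theorem isSolvable_of_not_conj (hC : Group.IsSolvable (Subgroup.centralizer ({z} : Set G)))
    (ha : ¬ IsConj z F.a) : Group.IsSolvable G := by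
  haveI : (Cfsg.oddCore G).Normal := Cfsg.pPrimeCore_normal 2 G
  have hz := F.orderOf_z
  have hiso : Cfsg.IsIsolatedInvolution z := ⟨hz, fun g hg =>
    F.isolated_of_not_conj ha (isConj_iff.2 ⟨g, rfl⟩) hg.eq.symm⟩
  have hst := CfsgLib.Involutions.zstar G z hiso
  haveI : Group.IsSolvable (Cfsg.oddCore G) :=
    Group.isSolvable_of_comm fun a b => F.isMulCommutative_oddCore.is_comm.comm a b
  have hsurj : Function.Surjective
      ((QuotientGroup.mk' (Cfsg.oddCore G)).comp (Subgroup.centralizer ({z} : Set G)).subtype) := by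
    intro q
    obtain ⟨g, rfl⟩ := QuotientGroup.mk'_surjective _ q
    set o := g * z * g⁻¹ * z⁻¹ with ho
    have hoO : o ∈ Cfsg.oddCore G := hst g
    obtain ⟨m, hm⟩ : Odd (orderOf o) := by
      rw [← Nat.not_even_iff_odd, even_iff_two_dvd]
      exact fun h => not_dvd_oddCore (h.trans (Subgroup.orderOf_dvd_natCard _ hoO))
    set y := o ^ (m + 1) with hy
    have hyO : y ∈ Cfsg.oddCore G := pow_mem hoO _
    have hyy : y * y = o := by
      rw [hy, ← pow_add, show m + 1 + (m + 1) = orderOf o + 1 by omega, pow_succ, pow_orderOf_eq_one,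
        one_mul]
    have hzy : z * y⁻¹ * z⁻¹ = y := by rw [F.inverts_oddCore (inv_mem hyO), inv_inv]
    have hmem : y⁻¹ * g ∈ Subgroup.centralizer ({z} : Set G) := by
      refine Subgroup.mem_centralizer_singleton_iff.2 ?_
      calc y⁻¹ * g * z = y⁻¹ * o * z * g := by rw [ho]; group
        _ = y⁻¹ * (y * y) * z * g := by rw [hyy]
        _ = y * z * g := by group
        _ = z * y⁻¹ * z⁻¹ * z * g := by rw [hzy]
        _ = z * (y⁻¹ * g) := by group
    refine ⟨⟨_, hmem⟩, ?_⟩
    show QuotientGroup.mk' (Cfsg.oddCore G) (y⁻¹ * g) = _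
    rw [map_mul, map_inv, QuotientGroup.mk'_apply, (QuotientGroup.eq_one_iff y).2 hyO, inv_one, one_mul]
  haveI : Group.IsSolvable (G ⧸ Cfsg.oddCore G) := Group.isSolvable_of_surjective hsurj
  exact Group.isSolvable_of_ker_le_range (Cfsg.oddCore G).subtype (QuotientGroup.mk' (Cfsg.oddCore G))
    (by rw [QuotientGroup.ker_mk', Subgroup.range_subtype])

/-! ### the four-group case -/

theorem inA_mul (α β : Bool) : ∀ g h, g < 768 → h < 768 → isA g = true → isA h = true →
    isA (mulC α β g h) = true := by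
  intro g h _ _ hg hh
  simp only [isA, Bool.or_eq_true, beq_iff_eq] at hg hh
  rcases hg with ((e | e) | e) | e <;> rcases hh with ((e' | e') | e') | e' <;> subst e e' <;>
    cases α <;> cases β <;> decide +kernel

/-- the normal four-group -/
def four : Subgroup G := F.subOf isA (by decide) (inA_mul F.α F.β)

theorem card_four : Nat.card F.four = 4 := by
  rw [four, F.card_subOf]; exact card_lists.2.2.2

theorem mem_four {x : G} : x ∈ F.four ↔ x = 1 ∨ F.InA x := by
  constructor
  · rintro ⟨g, -, hg, rfl⟩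
    rcases eq_or_ne g 0 with rfl | h0
    · exact Or.inl F.el_zero
    · exact Or.inr ⟨g, hg, h0, rfl⟩
  · rintro (rfl | ⟨g, hg, -, rfl⟩)
    · exact one_mem _
    · exact ⟨g, mem_lt.2 hg, hg, rfl⟩

theorem inA_spec {x : G} (h : F.InA x) : x * z = z * x ∧ x * x = 1 ∧ x ≠ 1 := by
  obtain ⟨a1, a2, a3, a4, a5⟩ := F.a_spec
  rcases F.inA_cases h with rfl | rfl | rfl
  · exact ⟨rfl, F.z_sq, F.z_ne⟩
  · exact ⟨a3, a2, a1⟩
  · refine ⟨F.el_comm 31, ?_, fun e => absurd ((F.el_eq_one (by omega)).1 e) (by omega)⟩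
    rw [← a5, show z * F.a * (z * F.a) = z * (F.a * z) * F.a by group, a3, ← mul_assoc z z, F.z_sq, one_mul,
      a2]

theorem centralizer_le_normalizer {c : G} (hc : c * z = z * c) :
    c ∈ Subgroup.normalizer (F.four : Set G) := by
  obtain ⟨k, hk, rfl⟩ := F.surj hc
  have hgen : ∀ x, F.InA x → F.el k * x * (F.el k)⁻¹ ∈ F.four := by
    have hz : F.el k * z * (F.el k)⁻¹ = z := by rw [F.el_comm k]; group
    have ha : F.el k * F.a * (F.el k)⁻¹ ∈ F.four := by
      have h := allB_spec (normalA_check F.α F.β) hk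
      rw [Bool.or_eq_true, beq_iff_eq, beq_iff_eq] at h
      rw [a, F.el_conj hk (by omega)]
      rcases h with h | h <;> rw [h]
      · exact ⟨15, by omega, by decide, rfl⟩
      · exact ⟨31, by omega, by decide, rfl⟩
    have hzm : z ∈ F.four := ⟨16, by omega, by decide, F.el_sixteen⟩
    intro x hx
    rcases F.inA_cases hx with rfl | rfl | rfl
    · rw [hz]; exact hzm
    · exact ha
    · rw [← F.a_spec.2.2.2.2, show F.el k * (z * F.a) * (F.el k)⁻¹ =
        F.el k * z * (F.el k)⁻¹ * (F.el k * F.a * (F.el k)⁻¹) by group, hz]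
      exact mul_mem hzm ha
  refine Subgroup.mem_normalizer_fintype fun x hx => ?_
  rcases F.mem_four.1 hx with rfl | h
  · simp
  · exact hgen x h

/-- the case that the conjugates of `z` in the centraliser are the involutions of the four-group -/
def SmallCase : Prop := IsConj z F.a ∧ ∀ w, F.InU w → ¬ IsConj z w

variable (hS : F.SmallCase)
include hS

theorem isConj_of_inA {x : G} (h : F.InA x) : IsConj z x := by
  rcases F.inA_cases h with rfl | rfl | rfl
  · exact IsConj.refl _
  · exact hS.1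
  · exact hS.1.trans (isConj_iff.2 ⟨F.el 1, F.conj_one_a⟩)

theorem inA_of_member {w : G} (hw : IsConj z w) (hwz : w * z = z * w) : F.InA w := by
  by_cases h : w = z
  · exact ⟨16, by decide, by omega, by rw [h]; exact F.el_sixteen⟩
  · exact (F.members_sub hw hwz h).resolve_right fun hu => hS.2 w hu hw

theorem four_comm {x y : G} (hx : x ∈ F.four) (hy : y ∈ F.four) : x * y = y * x := by
  have hsq : ∀ w ∈ F.four, w * w = 1 := fun w hw => by
    rcases F.mem_four.1 hw with rfl | h
    · exact one_mul 1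
    · exact (F.inA_spec h).2.1
  have hi : ∀ w ∈ F.four, w⁻¹ = w := fun w hw => inv_eq_of_mul_eq_one_right (hsq w hw)
  calc x * y = (x * y)⁻¹ := (hi _ (mul_mem hx hy)).symm
    _ = y * x := by rw [mul_inv_rev, hi x hx, hi y hy]

theorem mem_normalizer_of_inA {k : G} (h : F.InA (k * z * k⁻¹)) :
    k ∈ Subgroup.normalizer (F.four : Set G) := by
  have hxz := h
  have key : ∀ y ∈ F.four, k⁻¹ * y * k ∈ F.four := by
    intro y hy
    rcases F.mem_four.1 hy with rfl | hy'
    · simp
    refine F.mem_four.2 (Or.inr (F.inA_of_member hS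
      ((F.isConj_of_inA hS hy').trans (isConj_iff.2 ⟨k⁻¹, by group⟩)) ?_))
    have hc := F.four_comm hS hy (F.mem_four.2 (Or.inr hxz))
    calc k⁻¹ * y * k * z = k⁻¹ * (y * (k * z * k⁻¹)) * k := by group
      _ = k⁻¹ * (k * z * k⁻¹ * y) * k := by rw [hc]
      _ = z * (k⁻¹ * y * k) := by group
  have : k⁻¹ ∈ Subgroup.normalizer (F.four : Set G) :=
    Subgroup.mem_normalizer_fintype fun y hy => by
      rw [inv_inv]; exact key y hy
  exact inv_mem_iff.1 this

theorem exists_commute_four {T : Subgroup G} (hT : IsPGroup 2 T)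
    (hTN : T ≤ Subgroup.normalizer (F.four : Set G)) :
    ∃ x, F.InA x ∧ ∀ g ∈ T, g * x = x * g := by
  classical
  haveI : Fact (Nat.Prime 2) := ⟨Nat.prime_two⟩
  letI : MulAction T F.four :=
    { smul := fun g x => ⟨(g : G) * x * (g : G)⁻¹, (Subgroup.mem_normalizer_iff.1 (hTN g.2) _).1 x.2⟩
      one_smul := fun x => Subtype.ext (show (1 : G) * x * (1 : G)⁻¹ = x by group)
      mul_smul := fun g h x => Subtype.ext (show ((g : G) * h) * x * ((g : G) * h)⁻¹ =
        (g : G) * ((h : G) * x * (h : G)⁻¹) * (g : G)⁻¹ by group) }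
  have h1 : (1 : F.four) ∈ fixedPoints T F.four := fun g => Subtype.ext (show (g : G) * 1 * (g : G)⁻¹ = 1 by group)
  obtain ⟨y, hy, hne⟩ := hT.exists_fixed_point_of_prime_dvd_card_of_fixed_point F.four
    (by rw [F.card_four]; norm_num) h1
  refine ⟨y, (F.mem_four.1 y.2).resolve_left fun e => hne (Subtype.ext e.symm), fun g hg => ?_⟩
  have h2 : g * (y : G) * g⁻¹ = y := congrArg Subtype.val (hy ⟨g, hg⟩)
  exact mul_inv_eq_iff_eq_mul.1 h2

theorem inA_of_mem_normalizer {w : G} (hw : IsConj z w) (hwN : w ∈ Subgroup.normalizer (F.four : Set G)) :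
    F.InA w := by
  obtain ⟨g, rfl⟩ := isConj_iff.1 hw
  have hord : orderOf (g * z * g⁻¹) = 2 := by
    rw [show g * z * g⁻¹ = MulAut.conj g z from rfl, MulEquiv.orderOf_eq]
    exact F.orderOf_z
  obtain ⟨x, hx, hxc⟩ := F.exists_commute_four hS (T := Subgroup.zpowers (g * z * g⁻¹))
    (IsPGroup.of_card (n := 1) (by rw [Nat.card_zpowers, hord, pow_one])) (Subgroup.zpowers_le.2 hwN)
  have hc := hxc _ (Subgroup.mem_zpowers _)
  obtain ⟨k, hk⟩ := isConj_iff.1 (F.isConj_of_inA hS hx)
  have hkN : k ∈ Subgroup.normalizer (F.four : Set G) := F.mem_normalizer_of_inA hS (hk.symm ▸ hx)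
  have hmem : F.InA (k⁻¹ * (g * z * g⁻¹) * k) := by
    refine F.inA_of_member hS (hw.trans (isConj_iff.2 ⟨k⁻¹, by group⟩)) ?_
    rw [← hk] at hc
    calc k⁻¹ * (g * z * g⁻¹) * k * z = k⁻¹ * (g * z * g⁻¹ * (k * z * k⁻¹)) * k := by group
      _ = k⁻¹ * (k * z * k⁻¹ * (g * z * g⁻¹)) * k := by rw [hc]
      _ = z * (k⁻¹ * (g * z * g⁻¹) * k) := by group
  have := (Subgroup.mem_normalizer_iff.1 hkN _).1 (F.mem_four.2 (Or.inr hmem))
  rw [show k * (k⁻¹ * (g * z * g⁻¹) * k) * k⁻¹ = g * z * g⁻¹ by group] at this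
  exact (F.mem_four.1 this).resolve_left fun e => F.z_ne (conj_eq_one_iff.1 e)

theorem smul_eq_iff (g a : G) : g • (a : G ⧸ Subgroup.normalizer (F.four : Set G)) = a ↔
    a⁻¹ * g * a ∈ Subgroup.normalizer (F.four : Set G) := by
  rw [MulAction.Quotient.smul_coe, smul_eq_mul, QuotientGroup.eq,
    show (g * a)⁻¹ * a = (a⁻¹ * g * a)⁻¹ by group, inv_mem_iff]

theorem setting (hN : Subgroup.normalizer (F.four : Set G) ≠ ⊤) :
    CfsgLib.StrongCrit.Setting (G ⧸ Subgroup.normalizer (F.four : Set G)) {t : G | IsConj z t} := by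
  set N := Subgroup.normalizer (F.four : Set G)
  have hsm := F.smul_eq_iff hS
  have huniq : ∀ t, IsConj z t → ∀ x y : G ⧸ N, t • x = x → t • y = y → x = y := by
    intro t ht x y
    induction x using QuotientGroup.induction_on with | _ a =>
    induction y using QuotientGroup.induction_on with | _ b =>
    intro hx hy
    obtain ⟨g, rfl⟩ := isConj_iff.1 ht
    have key : ∀ c : G, c⁻¹ * (g * z * g⁻¹) * c ∈ N → c⁻¹ * g ∈ N := by
      intro c hc
      have h1 := F.inA_of_mem_normalizer hS (isConj_iff.2 ⟨c⁻¹ * g, by group⟩) hc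
      exact F.mem_normalizer_of_inA hS (k := c⁻¹ * g)
        (by rw [show c⁻¹ * g * z * (c⁻¹ * g)⁻¹ = c⁻¹ * (g * z * g⁻¹) * c by group]; exact h1)
    refine QuotientGroup.eq.2 ?_
    have := mul_mem (key a ((hsm _ a).1 hx)) (inv_mem (key b ((hsm _ b).1 hy)))
    rw [show a⁻¹ * g * (b⁻¹ * g)⁻¹ = a⁻¹ * b by group] at this
    exact this
  refine ⟨fun t ht => ?_, fun g t ht => ht.trans (isConj_iff.2 ⟨g, rfl⟩), fun x y => ?_, fun x => ?_,
    fun t ht => ?_, huniq, ?_, ?_⟩
  · obtain ⟨g, rfl⟩ := isConj_iff.1 ht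
    rw [show g * z * g⁻¹ = MulAut.conj g z from rfl, MulEquiv.orderOf_eq]
    exact F.orderOf_z
  · induction x using QuotientGroup.induction_on with | _ a =>
    induction y using QuotientGroup.induction_on with | _ b =>
    exact ⟨b * a⁻¹, by rw [MulAction.Quotient.smul_coe, smul_eq_mul, inv_mul_cancel_right]⟩
  · induction x using QuotientGroup.induction_on with | _ a =>
    obtain ⟨g, hg⟩ : ∃ g, g ∉ N := by
      by_contra h
      push Not at h
      exact hN (top_le_iff.1 fun g _ => h g)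
    exact ⟨((a * g : G) : G ⧸ N), fun e => hg (by
      have := inv_mem (QuotientGroup.eq.1 e)
      simpa using this)⟩
  · obtain ⟨g, rfl⟩ := isConj_iff.1 ht
    refine ⟨(g : G ⧸ N), (hsm _ g).2 ?_⟩
    rw [show g⁻¹ * (g * z * g⁻¹) * g = z by group]
    exact F.centralizer_le_normalizer rfl
  · intro s hs t ht hst hne x y hx hy
    obtain ⟨g, rfl⟩ := isConj_iff.1 hs
    refine huniq _ ?_ x y hx hy
    set t' := g⁻¹ * t * g with ht'
    have hc : t' * z = z * t' := by
      calc t' * z = g⁻¹ * (t * (g * z * g⁻¹)) * g := by rw [ht']; group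
        _ = g⁻¹ * (g * z * g⁻¹ * t) * g := by rw [hst.eq]
        _ = z * t' := by rw [ht']; group
    have hA := F.inA_of_member hS (ht.trans (isConj_iff.2 ⟨g⁻¹, by rw [ht']; group⟩)) hc
    have hmem : z * t' ∈ F.four :=
      mul_mem ⟨16, by omega, by decide, F.el_sixteen⟩ (F.mem_four.2 (Or.inr hA))
    rw [show g * z * g⁻¹ * t = g * (z * t') * g⁻¹ by rw [ht']; group]
    refine (F.isConj_of_inA hS ((F.mem_four.1 hmem).resolve_left fun e => hne ?_)).trans
      (isConj_iff.2 ⟨g, rfl⟩)
    have e' : t' = z := by rw [← one_mul t', ← F.z_sq, mul_assoc, e, mul_one]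
    rw [← e', ht']; group
  · intro x T hT hTx
    induction x using QuotientGroup.induction_on with | _ a =>
    haveI : Fact (Nat.Prime 2) := ⟨Nat.prime_two⟩
    let T' : Subgroup G := T.map (MulAut.conj a⁻¹).toMonoidHom
    obtain ⟨y, hy, hyc⟩ := F.exists_commute_four hS (T := T') (hT.map _) (by
      rintro _ ⟨w, hw, rfl⟩
      simpa using (hsm w a).1 (hTx hw))
    refine ⟨a * y * a⁻¹, (F.isConj_of_inA hS hy).trans (isConj_iff.2 ⟨a, rfl⟩), (hsm _ a).2 ?_, ?_⟩
    · rw [show a⁻¹ * (a * y * a⁻¹) * a = y by group]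
      exact Subgroup.le_normalizer (F.mem_four.2 (Or.inr hy))
    · intro g hg
      have hw : a⁻¹ * g * a ∈ T' := ⟨g, hg, by simp⟩
      show g * (a * y * a⁻¹) = a * y * a⁻¹ * g
      calc g * (a * y * a⁻¹) = a * (a⁻¹ * g * a * y) * a⁻¹ := by group
        _ = a * (y * (a⁻¹ * g * a)) * a⁻¹ := by rw [hyc _ hw]
        _ = a * y * a⁻¹ * g := by group

theorem mulClosed : CfsgLib.StrongCrit.MulClosed {t : G | IsConj z t} := by
  intro s hs t ht hst hne
  obtain ⟨g, rfl⟩ := isConj_iff.1 hs
  set t' := g⁻¹ * t * g with ht'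
  have hc : t' * z = z * t' := by
    calc t' * z = g⁻¹ * (t * (g * z * g⁻¹)) * g := by rw [ht']; group
      _ = g⁻¹ * (g * z * g⁻¹ * t) * g := by rw [hst.eq]
      _ = z * t' := by rw [ht']; group
  have hA := F.inA_of_member hS (ht.trans (isConj_iff.2 ⟨g⁻¹, by rw [ht']; group⟩)) hc
  have hmem : z * t' ∈ F.four :=
    mul_mem ⟨16, by omega, by decide, F.el_sixteen⟩ (F.mem_four.2 (Or.inr hA))
  show IsConj z (g * z * g⁻¹ * t)
  rw [show g * z * g⁻¹ * t = g * (z * t') * g⁻¹ by rw [ht']; group]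
  refine (F.isConj_of_inA hS ((F.mem_four.1 hmem).resolve_left fun e => hne ?_)).trans
    (isConj_iff.2 ⟨g, rfl⟩)
  have e' : t' = z := by rw [← one_mul t', ← F.z_sq, mul_assoc, e, mul_one]
  rw [← e', ht']; group

theorem isSolvable_of_normalizer_eq_top (hC : Group.IsSolvable (Subgroup.centralizer ({z} : Set G)))
    (hN : Subgroup.normalizer (F.four : Set G) = ⊤) : Group.IsSolvable G := by
  classical
  haveI := hC
  haveI : F.four.Normal := Subgroup.normalizer_eq_top_iff.1 hN
  haveI := CfsgLib.InvCharSmall.isSolvable_perm_four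
  let φ : G →* Equiv.Perm F.four := ((MulAut.toPerm F.four)).comp (MulAut.conjNormal)
  let e : F.four ≃ Fin 4 := (Nat.equivFinOfCardPos (by rw [F.card_four]; norm_num)).trans
    (finCongr F.card_four)
  let ψ : G →* Equiv.Perm (Fin 4) := e.permCongrHom.toMonoidHom.comp φ
  have hker : ψ.ker ≤ Subgroup.centralizer ({z} : Set G) := by
    intro g hg
    refine Subgroup.mem_centralizer_singleton_iff.2 ?_
    have h1 : φ g = 1 := e.permCongrHom.injective (by rw [map_one]; exact hg)
    have h2 := congrArg Subtype.val (Equiv.congr_fun h1 ⟨z, ⟨16, by omega, by decide, F.el_sixteen⟩⟩)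
    change (MulAut.conjNormal g ⟨z, _⟩ : F.four).val = z at h2
    exact mul_inv_eq_iff_eq_mul.1 (by rwa [MulAut.conjNormal_apply] at h2)
  exact Group.isSolvable_of_ker_le_range (Subgroup.centralizer ({z} : Set G)).subtype ψ
    (by rwa [Subgroup.range_subtype])

end Frame

end CfsgLib.AutL34
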