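import Cfsg.Agent.Lib.AutL34.Transfer
import Cfsg.Agent.Lib.AutL34.Setting
import Cfsg.Agent.Lib.AutL34.Conf

/-!
The subgroup of index four satisfies the configuration of `PGL₃(4)`.
-/
set_option autoImplicit false
set_option maxRecDepth 10000
set_option linter.unusedSectionVars false

namespace CfsgLib.AutL34

universe u

open Subgroup
open scoped Pointwise

/-- Orbit and stabiliser for the conjugation action on an invariant set. -/
theorem orbit_card {G : Type u} [Group G] [Finite G] (N : Subgroup G) (X : Set G) {t : G} (ht : t ∈ X)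
    (hX : ∀ n ∈ N, ∀ x ∈ X, n * x * n⁻¹ ∈ X) :
    Nat.card N ≤ Nat.card X * Nat.card ↥(N ⊓ centralizer ({t} : Set G)) ∧
    (Nat.card N = Nat.card X * Nat.card ↥(N ⊓ centralizer ({t} : Set G)) ↔
      ∀ t' ∈ X, ∃ n ∈ N, n * t * n⁻¹ = t') := by
  letI : MulAction N X :=
    { smul := fun g x => ⟨(g : G) * x * (g : G)⁻¹, hX g g.2 x x.2⟩
      one_smul := fun x => Subtype.ext (show (1 : G) * x * (1 : G)⁻¹ = x by group)
      mul_smul := fun g g' x => Subtype.ext (show ((g : G) * g') * x * ((g : G) * g')⁻¹ =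
        (g : G) * ((g' : G) * x * (g' : G)⁻¹) * (g : G)⁻¹ by group) }
  set t₀ : X := ⟨t, ht⟩
  have hst : Nat.card (MulAction.stabilizer N t₀) = Nat.card ↥(N ⊓ centralizer ({t} : Set G)) := by
    refine Nat.card_congr ⟨fun g => ⟨g.1.1, g.1.2, mem_centralizer_singleton_iff.2 ?_⟩,
      fun g => ⟨⟨g.1, g.2.1⟩, Subtype.ext ?_⟩, fun _ => rfl, fun _ => rfl⟩
    · exact mul_inv_eq_iff_eq_mul.1 (congrArg Subtype.val g.2)
    · exact mul_inv_eq_iff_eq_mul.2 (mem_centralizer_singleton_iff.1 g.2.2)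
  have h := Nat.card_congr (MulAction.orbitProdStabilizerEquivGroup N t₀)
  rw [Nat.card_prod, hst] at h
  have hpos : 0 < Nat.card ↥(N ⊓ centralizer ({t} : Set G)) := Nat.card_pos
  have hle : Nat.card (MulAction.orbit N t₀) ≤ Nat.card X :=
    Nat.card_le_card_of_injective _ Subtype.val_injective
  refine ⟨h ▸ Nat.mul_le_mul_right _ hle, ?_, ?_⟩
  · intro he t' ht'
    have hc : Nat.card (MulAction.orbit N t₀) = Nat.card X :=
      Nat.eq_of_mul_eq_mul_right hpos (h.trans he)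
    obtain ⟨⟨w, hw⟩, hwe⟩ := ((Subtype.val_injective :
      Function.Injective (Subtype.val : MulAction.orbit N t₀ → X)).bijective_of_nat_card_le hc.ge).2 ⟨t', ht'⟩
    obtain ⟨g, rfl⟩ := hw
    exact ⟨g.1, g.2, congrArg Subtype.val hwe⟩
  · intro hall
    rw [← h]
    congr 1
    refine Nat.card_eq_of_bijective Subtype.val ⟨Subtype.val_injective, fun x => ?_⟩
    obtain ⟨n, hn, e⟩ := hall x x.2
    exact ⟨⟨x, ⟨n, hn⟩, Subtype.ext e⟩, rfl⟩

theorem card_chiEven : ((List.range 768).filter fun g => chi g % 2 == 0).length = 384 := counts.2.2.2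

namespace Frame

variable {G : Type u} [Group G] [Finite G] {z : G} (F : Frame G z) (hB : F.BigCase)
  (χ : G →* Sign) (hχ : ∀ x : centralizer ({z} : Set G), χ x = F.chiHom x) (hs : Function.Surjective χ)

include hχ in
theorem mem_ker_iff {x : G} (hx : x * z = z * x) : χ x = 1 ↔ x ∈ F.ker192 := by
  rw [hχ ⟨x, mem_centralizer_singleton_iff.2 hx⟩, F.chiHom_eq_one_iff]

include hχ in
theorem ker_inf_centralizer : χ.ker ⊓ centralizer ({z} : Set G) = F.ker192 := by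
  ext x
  constructor
  · rintro ⟨h1, h2⟩
    exact (F.mem_ker_iff χ hχ (mem_centralizer_singleton_iff.1 h2)).1 h1
  · intro h
    obtain ⟨g, -, -, rfl⟩ := id h
    exact ⟨(F.mem_ker_iff χ hχ (F.el_comm g)).2 h, mem_centralizer_singleton_iff.2 (F.el_comm g)⟩

theorem chiHom_surjective : Function.Surjective F.chiHom := by
  rw [← MonoidHom.range_eq_top]
  refine Subgroup.eq_top_of_card_eq _ ?_
  have h := F.chiHom.ker.card_mul_index
  rw [Subgroup.index_ker, F.card_centralizer] at h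
  have hk : Nat.card F.chiHom.ker = 192 := by
    rw [← F.card_ker192]
    refine Nat.card_congr ⟨fun x => ⟨x.1.1, (F.chiHom_eq_one_iff x.1).1 x.2⟩,
      fun x => ⟨⟨x.1, ?_⟩, (F.chiHom_eq_one_iff _).2 x.2⟩, fun _ => rfl, fun _ => rfl⟩
    obtain ⟨g, -, -, e⟩ := x.2
    exact e ▸ mem_centralizer_singleton_iff.2 (F.el_comm g)
  rw [hk] at h
  have h4 : Nat.card Sign = 4 := by simp
  rw [h4]
  omega

include hχ in
theorem conj_ker {x : G} (hx : IsConj z x) : ∃ g, χ g = 1 ∧ g * z * g⁻¹ = x := by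
  obtain ⟨g, rfl⟩ := isConj_iff.1 hx
  obtain ⟨c, hc⟩ := F.chiHom_surjective (χ g)
  refine ⟨g * (c : G)⁻¹, by rw [map_mul, map_inv, hχ c, hc, mul_inv_cancel], ?_⟩
  calc g * (c : G)⁻¹ * z * (g * (c : G)⁻¹)⁻¹ = g * ((c : G)⁻¹ * (z * c)) * g⁻¹ := by group
    _ = g * ((c : G)⁻¹ * (c * z)) * g⁻¹ := by rw [mem_centralizer_singleton_iff.1 c.2]
    _ = g * z * g⁻¹ := by group

include hχ hB in
theorem invol_conj {x : G} (hx : χ x = 1) (hx1 : x ≠ 1) (hx2 : x * x = 1) : IsConj z x := by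
  obtain ⟨g, hg⟩ := F.exists_conj_mem_syl hx2
  have hcz := F.syl_le _ hg
  have hk : g⁻¹ * x * g ∈ F.ker192 :=
    (F.mem_ker_iff χ hχ hcz).1 (by rw [map_mul, map_mul, map_inv, hx, mul_one, inv_mul_cancel])
  refine ((F.inner_invol hB hk (fun e => hx1 ?_) ?_).1).trans (isConj_iff.2 ⟨g, by group⟩)
  · calc x = g * (g⁻¹ * x * g) * g⁻¹ := by group
      _ = 1 := by rw [e]; group
  · calc g⁻¹ * x * g * (g⁻¹ * x * g) = g⁻¹ * (x * x) * g := by group
      _ = 1 := by rw [hx2]; group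

include hχ in
theorem conj_centralizer {g t : G} (hg : χ g = 1) (ht : g * z * g⁻¹ = t) {x : G} (hx : χ x = 1)
    (hxt : x * t = t * x) : g⁻¹ * x * g ∈ F.ker192 := by
  refine (F.mem_ker_iff χ hχ ?_).1 (by rw [map_mul, map_mul, map_inv, hx, hg, mul_one, inv_one, one_mul])
  rw [← ht] at hxt
  calc g⁻¹ * x * g * z = g⁻¹ * (x * (g * z * g⁻¹)) * g := by group
    _ = g⁻¹ * (g * z * g⁻¹ * x) * g := by rw [hxt]
    _ = z * (g⁻¹ * x * g) := by group

/-! ### The two elementary subgroups -/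

variable (hb : F.β = false)
include hb

theorem chi_mem {g : ℕ} (h : inA1 g = true ∨ inA2 g = true) : chi g = 0 := by
  have h0 := allB_spec chi_zero_of_member (inA_lt h)
  simp only [Bool.or_eq_true, Bool.not_eq_true', Bool.or_eq_false_iff, beq_iff_eq] at h0
  rcases h0 with ⟨hA, hU⟩ | h0
  · exact absurd (isU_iff.2 ⟨h, hA⟩) (by simp [hU])
  · exact h0

theorem A1_le_ker192 : F.A1 hb ≤ F.ker192 := by
  rintro _ ⟨g, hg, hg1, rfl⟩
  exact ⟨g, hg, by simp [F.chi_mem hb (Or.inl hg1)], rfl⟩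

theorem A2_le_ker192 : F.A2 hb ≤ F.ker192 := by
  rintro _ ⟨g, hg, hg1, rfl⟩
  exact ⟨g, hg, by simp [F.chi_mem hb (Or.inr hg1)], rfl⟩

theorem z_mem_A2 : z ∈ F.A2 hb := ⟨16, by omega, by decide, F.el_sixteen⟩

theorem A2_comm {x y : G} (hx : x ∈ F.A2 hb) (hy : y ∈ F.A2 hb) : x * y = y * x := by
  obtain ⟨g, -, hg, rfl⟩ := hx
  obtain ⟨h, -, hh, rfl⟩ := hy
  exact F.comm_side hb (Or.inr ⟨hg, hh⟩)

theorem inf_eq_four : F.A1 hb ⊓ F.A2 hb = F.four := by
  ext x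
  constructor
  · rintro ⟨⟨g, hg, hg1, rfl⟩, ⟨h, hh, hh2, e⟩⟩
    rw [F.inj hh hg e] at hh2
    have h1 := allB_spec (centA_check F.α) hg
    simp only [Bool.and_eq_true, Bool.or_eq_true, Bool.not_eq_true'] at h1
    refine ⟨g, hg, h1.2.resolve_left fun hf => ?_, rfl⟩
    have hall : lstA2.all (fun y => commC F.α false g y) = true := List.all_eq_true.2 fun y hy =>
      (a1a2_comm F.α (Or.inr ⟨hh2, List.contains_iff_mem.2 hy⟩)).1
    rw [hg1, hall] at hf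
    exact absurd hf (by simp)
  · rintro ⟨g, hg, hgA, rfl⟩
    exact ⟨⟨g, hg, (isA_inA hgA).1, rfl⟩, ⟨g, hg, (isA_inA hgA).2, rfl⟩⟩

theorem sup_eq_S64 : F.A1 hb ⊔ F.A2 hb = F.S64 := by
  have h := prodS_check F.α
  rw [Bool.and_eq_true] at h
  refine le_antisymm (sup_le ?_ ?_) ?_
  · rintro _ ⟨g, hg, hg1, rfl⟩
    have := List.all_eq_true.1 (List.all_eq_true.1 h.2 g (List.contains_iff_mem.1 hg1)) 0 (by decide)
    refine ⟨_, mulC_lt _ _ hg (by omega), this, ?_⟩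
    rw [← hb, ← F.el_mul hg (by omega), F.el_zero, mul_one]
  · rintro _ ⟨g, hg, hg2, rfl⟩
    have := List.all_eq_true.1 (List.all_eq_true.1 h.2 0 (by decide)) g (List.contains_iff_mem.1 hg2)
    refine ⟨_, mulC_lt _ _ (by omega) hg, this, ?_⟩
    rw [← hb, ← F.el_mul (by omega) hg, F.el_zero, one_mul]
  · rintro _ ⟨g, hg, pg, rfl⟩
    have h1 := allB_spec h.1 hg
    rw [pg, Bool.not_true, Bool.false_or] at h1
    obtain ⟨p, hp, h2⟩ := List.any_eq_true.1 h1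
    obtain ⟨q, hq, h3⟩ := List.any_eq_true.1 h2
    rw [beq_iff_eq] at h3
    have hp' : inA1 p = true := List.contains_iff_mem.2 hp
    have hq' : inA2 q = true := List.contains_iff_mem.2 hq
    rw [← h3, ← hb, ← F.el_mul (inA_lt (Or.inl hp')) (inA_lt (Or.inr hq'))]
    exact mul_mem (mem_sup_left ⟨p, inA_lt (Or.inl hp'), hp', rfl⟩)
      (mem_sup_right ⟨q, inA_lt (Or.inr hq'), hq', rfl⟩)

theorem centralizer_A1 : centralizer (F.A1 hb : Set G) = F.A1 hb := by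
  refine le_antisymm (fun x hx => ?_) fun x hx => mem_centralizer_iff.2 fun y hy => F.A1_comm hb hy hx
  obtain ⟨g, hg, rfl⟩ := F.surj (mem_centralizer_iff.1 hx z (F.z_mem_A1 hb)).symm
  have h1 := allB_spec (centA_check F.α) hg
  simp only [Bool.and_eq_true, Bool.or_eq_true, Bool.not_eq_true'] at h1
  refine ⟨g, hg, h1.1.1.resolve_left fun hf => ?_, rfl⟩
  have : lstA1.all (fun y => commC F.α false g y) = true := List.all_eq_true.2 fun y hy => by
    have hy' : inA1 y = true := List.contains_iff_mem.2 hy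
    rw [← hb, F.commC_iff hg (inA_lt (Or.inl hy'))]
    exact (mem_centralizer_iff.1 hx _ ⟨y, inA_lt (Or.inl hy'), hy', rfl⟩).symm
  rw [this] at hf
  exact absurd hf (by simp)

theorem centralizer_A2 : centralizer (F.A2 hb : Set G) = F.A2 hb := by
  refine le_antisymm (fun x hx => ?_) fun x hx => mem_centralizer_iff.2 fun y hy => F.A2_comm hb hy hx
  obtain ⟨g, hg, rfl⟩ := F.surj (mem_centralizer_iff.1 hx z (F.z_mem_A2 hb)).symm
  have h1 := allB_spec (centA_check F.α) hg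
  simp only [Bool.and_eq_true, Bool.or_eq_true, Bool.not_eq_true'] at h1
  refine ⟨g, hg, h1.1.2.resolve_left fun hf => ?_, rfl⟩
  have : lstA2.all (fun y => commC F.α false g y) = true := List.all_eq_true.2 fun y hy => by
    have hy' : inA2 y = true := List.contains_iff_mem.2 hy
    rw [← hb, F.commC_iff hg (inA_lt (Or.inr hy'))]
    exact (mem_centralizer_iff.1 hx _ ⟨y, inA_lt (Or.inr hy'), hy', rfl⟩).symm
  rw [this] at hf
  exact absurd hf (by simp)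

theorem conj_members {c : ℕ} (hc : c < 768) :
    (chi c % 2 = 0 → (∀ x ∈ F.A1 hb, F.el c * x * (F.el c)⁻¹ ∈ F.A1 hb) ∧
      ∀ x ∈ F.A2 hb, F.el c * x * (F.el c)⁻¹ ∈ F.A2 hb) ∧
    (chi c % 2 = 1 → ∀ x ∈ F.A1 hb, F.el c * x * (F.el c)⁻¹ ∈ F.A2 hb) := by
  have h := allB_spec (conjU_check F.α) hc
  rw [Bool.and_eq_true] at h
  refine ⟨fun h0 => ⟨?_, ?_⟩, fun h0 => ?_⟩ <;> rintro _ ⟨g, hg, hgm, rfl⟩ <;>
    rw [F.el_conj hc hg] <;> refine ⟨_, F.lt_conjC hc hg, ?_, rfl⟩ <;> rw [hb]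
  · simpa [h0] using List.all_eq_true.1 h.1 g (List.contains_iff_mem.1 hgm)
  · simpa [h0] using List.all_eq_true.1 h.2 g (List.contains_iff_mem.1 hgm)
  · simpa [h0] using List.all_eq_true.1 h.1 g (List.contains_iff_mem.1 hgm)

theorem A1_ne_A2 : F.A1 hb ≠ F.A2 hb := by
  intro e
  have h : F.el 224 ∈ F.A2 hb := e ▸ (⟨224, by omega, by decide, rfl⟩ : F.el 224 ∈ F.A1 hb)
  obtain ⟨g, hg, hg2, e'⟩ := h
  rw [F.inj hg (by omega) e'] at hg2
  exact absurd hg2 (by decide)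

theorem ker192_le_normalizer :
    F.ker192 ≤ normalizer (F.A1 hb : Set G) ⊓ normalizer (F.A2 hb : Set G) := by
  rintro _ ⟨c, hc, pc, rfl⟩
  rw [beq_iff_eq] at pc
  have h := (F.conj_members hb hc).1 (by rw [pc])
  exact ⟨mem_normalizer_fintype h.1, mem_normalizer_fintype h.2⟩

theorem conj_one_A1 : MulAut.conj (F.el 1) • F.A1 hb = F.A2 hb := by
  refine Subgroup.eq_of_le_of_card_ge (fun x hx => ?_) ?_
  · have h := (F.conj_members hb (show 1 < 768 by omega)).2 (by decide) _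
      (CfsgLib.CIT.FourRecog.mem_conj.1 hx)
    simpa [mul_assoc] using h
  · rw [CfsgLib.CIT.FourRecog.card_conj, F.card_A1 hb, F.card_A2 hb]

omit hb in
theorem le_or_le {X A B : Subgroup G} (h : ∀ x ∈ X, x ∈ A ∨ x ∈ B) : X ≤ A ∨ X ≤ B := by
  by_contra hcon
  push Not at hcon
  obtain ⟨⟨x, hx, hxA⟩, y, hy, hyB⟩ := And.imp SetLike.not_le_iff_exists.1
    SetLike.not_le_iff_exists.1 hcon
  have hxB := (h x hx).resolve_left hxA
  have hyA := (h y hy).resolve_right hyB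
  rcases h _ (mul_mem hx hy) with hv | hv
  · exact hxA ((mul_mem_cancel_right hyA).1 hv)
  · exact hyB ((mul_mem_cancel_left hxB).1 hv)

include hB in
theorem trans_normalizer_A1 : ∀ t ∈ F.A1 hb, t ≠ 1 →
    ∃ n ∈ normalizer (F.A1 hb : Set G), n * z * n⁻¹ = t := by
  intro t ht ht1
  obtain ⟨g, hg, hg1, rfl⟩ := id ht
  have hU : ∀ g, inA1 g = true → isU g = true → IsConj z (F.el g) := fun g _ hg' => F.big_isConj hB hg'
  obtain ⟨h, hh⟩ := isConj_iff.1 (F.big_isConj_sym hB (Or.inl hg1) (fun e => ht1 (by rw [e, F.el_zero])))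
  obtain ⟨n, hn0, hn⟩ := F.exists_normalizing hb h⁻¹ (x₀ := F.el g) ht (by rw [← hh]; group) hU
  refine ⟨n⁻¹, inv_mem (mem_normalizer_fintype hn), ?_⟩
  calc n⁻¹ * z * n⁻¹⁻¹ = n⁻¹ * (n * F.el g * n⁻¹) * n⁻¹⁻¹ := by rw [hn0]
    _ = F.el g := by group

theorem card_nonone (H : Subgroup G) (n : ℕ) (h : Nat.card H = n + 1) :
    Nat.card {x : G | x ∈ H ∧ x ≠ 1} = n := by
  classical
  have e : Nat.card {x : G | x ∈ H ∧ x ≠ 1} = Nat.card {x : H // x ≠ 1} :=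
    Nat.card_congr ⟨fun x => ⟨⟨x.1, x.2.1⟩, fun e => x.2.2 (congrArg Subtype.val e)⟩,
      fun x => ⟨x.1.1, x.1.2, fun e => x.2 (Subtype.ext e)⟩, fun _ => rfl, fun _ => rfl⟩
  haveI := Fintype.ofFinite H
  rw [e, Nat.card_eq_fintype_card, Fintype.card_subtype_compl, Fintype.card_subtype_eq,
    ← Nat.card_eq_fintype_card, h]
  rfl

omit hb in
theorem conj_nonone {H : Subgroup G} {n : G} (hn : n ∈ normalizer (H : Set G)) :
    ∀ x ∈ {x : G | x ∈ H ∧ x ≠ 1}, n * x * n⁻¹ ∈ {x : G | x ∈ H ∧ x ≠ 1} := fun x hx =>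
  ⟨(mem_normalizer_iff.1 hn x).1 hx.1, fun e => hx.2 (conj_eq_one_iff.1 e)⟩

include hB in
theorem card_normalizer_A1 : Nat.card (normalizer (F.A1 hb : Set G)) = 5760 := by
  have hz : z ∈ {x : G | x ∈ F.A1 hb ∧ x ≠ 1} := ⟨F.z_mem_A1 hb, F.z_ne⟩
  rw [(orbit_card _ _ hz (fun n hn => conj_nonone hn)).2.2
    (fun t ht => F.trans_normalizer_A1 hB hb t ht.1 ht.2), F.card_nonone hb _ 15 (F.card_A1 hb)]
  suffices h : Nat.card ↥(normalizer (F.A1 hb : Set G) ⊓ centralizer ({z} : Set G)) = 384 by omega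
  rw [← card_chiEven]
  rw [← List.toFinset_card_of_nodup (List.nodup_range.filter _), ← Nat.card_eq_finsetCard]
  refine (Nat.card_eq_of_bijective (fun g => (⟨F.el g.1, ?_, mem_centralizer_singleton_iff.2 (F.el_comm g.1)⟩ :
    ↥(normalizer (F.A1 hb : Set G) ⊓ centralizer ({z} : Set G)))) ⟨?_, ?_⟩).symm
  · have := g.2
    simp at this
    exact mem_normalizer_fintype ((F.conj_members hb this.1).1 this.2).1
  · intro g g' e
    have h1 := g.2; have h2 := g'.2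
    simp at h1 h2
    exact Subtype.ext (F.inj h1.1 h2.1 (congrArg Subtype.val e))
  · rintro ⟨x, hxN, hxC⟩
    obtain ⟨g, hg, rfl⟩ := F.surj (mem_centralizer_singleton_iff.1 hxC)
    refine ⟨⟨g, ?_⟩, rfl⟩
    simp only [List.mem_toFinset, List.mem_filter, List.mem_range, beq_iff_eq]
    refine ⟨hg, ?_⟩
    by_contra hne
    have h2 := (F.conj_members hb hg).2 (by omega)
    refine F.A1_ne_A2 hb (Subgroup.eq_of_le_of_card_ge (fun y hy => ?_) (by rw [F.card_A1 hb, F.card_A2 hb]))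
    have := h2 _ ((mem_normalizer_iff.1 (inv_mem hxN) y).1 hy)
    simpa [mul_assoc] using this

include hB hχ hs in
theorem card_normalizer_ker :
    Nat.card ↥(normalizer (F.A1 hb : Set G) ⊓ χ.ker) = 2880 ∧
    Nat.card ↥((normalizer (F.A1 hb : Set G) ⊓ χ.ker) ⊓ centralizer ({z} : Set G)) = 192 := by
  have _ := hs
  set N := normalizer (F.A1 hb : Set G)
  have hst : (N ⊓ χ.ker) ⊓ centralizer ({z} : Set G) = F.ker192 := by
    rw [inf_assoc, F.ker_inf_centralizer χ hχ]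
    exact inf_eq_right.2 ((F.ker192_le_normalizer hb).trans inf_le_left)
  have h192 : Nat.card ↥((N ⊓ χ.ker) ⊓ centralizer ({z} : Set G)) = 192 := by rw [hst, F.card_ker192]
  refine ⟨?_, h192⟩
  set ψ : N →* Sign := χ.comp N.subtype
  have hk : Nat.card ψ.ker = Nat.card ↥(N ⊓ χ.ker) :=
    Nat.card_congr ⟨fun x => ⟨x.1.1, x.1.2, x.2⟩, fun x => ⟨⟨x.1, x.2.1⟩, x.2.2⟩, fun _ => rfl, fun _ => rfl⟩
  have h1 := ψ.ker.card_mul_index
  rw [Subgroup.index_ker, hk, F.card_normalizer_A1 hB hb] at h1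
  have hr : Nat.card ψ.range ∣ 4 := by
    have := Subgroup.card_subgroup_dvd_card ψ.range
    simpa using this
  have hdvd : 192 ∣ Nat.card ↥(N ⊓ χ.ker) := h192 ▸ Subgroup.card_dvd_of_le inf_le_left
  have hle : Nat.card ↥(N ⊓ χ.ker) ≤ 15 * 192 := by
    have h := (orbit_card (N ⊓ χ.ker) {x : G | x ∈ F.A1 hb ∧ x ≠ 1} ⟨F.z_mem_A1 hb, F.z_ne⟩
      (fun n hn => conj_nonone hn.1)).1
    rwa [F.card_nonone hb _ 15 (F.card_A1 hb), h192] at h
  have hr4 := Nat.le_of_dvd (by norm_num) hr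
  interval_cases hk4 : Nat.card ψ.range <;> omega

include hB hχ hs in
theorem trans_ker_A1 : ∀ t ∈ F.A1 hb, t ≠ 1 → ∀ t' ∈ F.A1 hb, t' ≠ 1 →
    ∃ n ∈ normalizer (F.A1 hb : Set G), χ n = 1 ∧ n * t * n⁻¹ = t' := by
  obtain ⟨h1, h2⟩ := F.card_normalizer_ker hB χ hχ hs hb
  have hall := (orbit_card (normalizer (F.A1 hb : Set G) ⊓ χ.ker) {x : G | x ∈ F.A1 hb ∧ x ≠ 1}
    ⟨F.z_mem_A1 hb, F.z_ne⟩ (fun n hn => conj_nonone hn.1)).2.1
    (by rw [h1, h2, F.card_nonone hb _ 15 (F.card_A1 hb)])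
  intro t ht ht1 t' ht' ht1'
  obtain ⟨n, hn, rfl⟩ := hall t ⟨ht, ht1⟩
  obtain ⟨m, hm, rfl⟩ := hall t' ⟨ht', ht1'⟩
  exact ⟨m * n⁻¹, mul_mem hm.1 (inv_mem hn.1),
    by rw [map_mul, map_inv, MonoidHom.mem_ker.1 hm.2, MonoidHom.mem_ker.1 hn.2]; simp, by group⟩

theorem mem_normalizer_A2_iff {n : G} :
    n ∈ normalizer (F.A2 hb : Set G) ↔ (F.el 1)⁻¹ * n * F.el 1 ∈ normalizer (F.A1 hb : Set G) := by
  rw [← CfsgLib.CIT.FourRecog.conj_eq_self_iff, ← CfsgLib.CIT.FourRecog.conj_eq_self_iff,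
    CfsgLib.CIT.FourRecog.conj_mul, CfsgLib.CIT.FourRecog.conj_mul, F.conj_one_A1 hb]
  constructor
  · intro h
    rw [h, map_inv, inv_smul_eq_iff, F.conj_one_A1 hb]
  · intro h
    rw [map_inv, inv_smul_eq_iff, F.conj_one_A1 hb] at h
    exact h

include hB hχ hs in
theorem trans_ker_A2 : ∀ t ∈ F.A2 hb, t ≠ 1 → ∀ t' ∈ F.A2 hb, t' ≠ 1 →
    ∃ n ∈ normalizer (F.A2 hb : Set G), χ n = 1 ∧ n * t * n⁻¹ = t' := by
  intro t ht ht1 t' ht' ht1'
  have hmem : ∀ x ∈ F.A2 hb, (F.el 1)⁻¹ * x * F.el 1 ∈ F.A1 hb := fun x hx => by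
    rw [← F.conj_one_A1 hb] at hx
    exact CfsgLib.CIT.FourRecog.mem_conj.1 hx
  have hne : ∀ x, x ≠ 1 → (F.el 1)⁻¹ * x * F.el 1 ≠ 1 := fun x hx e => hx (by
    calc x = F.el 1 * ((F.el 1)⁻¹ * x * F.el 1) * (F.el 1)⁻¹ := by group
      _ = 1 := by rw [e]; group)
  obtain ⟨n, hn, hn1, e⟩ := F.trans_ker_A1 hB χ hχ hs hb _ (hmem t ht) (hne t ht1) _ (hmem t' ht') (hne t' ht1')
  refine ⟨F.el 1 * n * (F.el 1)⁻¹, (F.mem_normalizer_A2_iff hb).2 (by simpa [mul_assoc] using hn),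
    by rw [map_mul, map_mul, map_inv, hn1, mul_one, mul_inv_cancel], ?_⟩
  calc F.el 1 * n * (F.el 1)⁻¹ * t * (F.el 1 * n * (F.el 1)⁻¹)⁻¹
      = F.el 1 * (n * ((F.el 1)⁻¹ * t * F.el 1) * n⁻¹) * (F.el 1)⁻¹ := by group
    _ = t' := by rw [e]; group

include hB hχ hs in
theorem card_normalizer_ker_A2 : Nat.card ↥(normalizer (F.A2 hb : Set G) ⊓ χ.ker) = 2880 := by
  rw [← (F.card_normalizer_ker hB χ hχ hs hb).1]
  refine Nat.card_congr ⟨fun x => ⟨(F.el 1)⁻¹ * x * F.el 1, (F.mem_normalizer_A2_iff hb).1 x.2.1, ?_⟩,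
    fun x => ⟨F.el 1 * x * (F.el 1)⁻¹, (F.mem_normalizer_A2_iff hb).2 (by simpa [mul_assoc] using x.2.1), ?_⟩,
    fun x => Subtype.ext (by group), fun x => Subtype.ext (by group)⟩
  · show χ _ = 1
    rw [map_mul, map_mul, map_inv, MonoidHom.mem_ker.1 x.2.2, mul_one, inv_mul_cancel]
  · show χ _ = 1
    rw [map_mul, map_mul, map_inv, MonoidHom.mem_ker.1 x.2.2, mul_one, mul_inv_cancel]

include hB hχ hs in
/-- the joint normaliser is transitive on the four-group -/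
theorem trans_four {t : G} (ht : t ∈ F.four) (ht1 : t ≠ 1) :
    ∃ n ∈ normalizer (F.A1 hb : Set G) ⊓ normalizer (F.A2 hb : Set G), χ n = 1 ∧ n * z * n⁻¹ = t := by
  rw [← F.inf_eq_four hb] at ht
  obtain ⟨n, hn, hn1, e⟩ := F.trans_ker_A1 hB χ hχ hs hb z (F.z_mem_A1 hb) F.z_ne t ht.1 ht1
  refine ⟨n, ⟨hn, ?_⟩, hn1, e⟩
  have hsub : ∀ x ∈ MulAut.conj n⁻¹ • F.A2 hb, x ∈ F.A1 hb ∨ x ∈ F.A2 hb := by
    intro x hx
    rw [CfsgLib.CIT.FourRecog.mem_conj, inv_inv] at hx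
    by_cases hx1 : x = 1
    · exact Or.inl (hx1 ▸ one_mem _)
    have hxz : x * z = z * x := by
      have hc := F.A2_comm hb hx ht.2
      rw [← e] at hc
      calc x * z = n⁻¹ * (n * x * n⁻¹ * (n * z * n⁻¹)) * n := by group
        _ = n⁻¹ * (n * z * n⁻¹ * (n * x * n⁻¹)) * n := by rw [hc]
        _ = z * x := by group
    have hk : χ (n * x * n⁻¹) = 1 :=
      ((F.ker_inf_centralizer χ hχ).ge (F.A2_le_ker192 hb hx)).1
    rw [map_mul, map_mul, map_inv, hn1, one_mul, inv_one, mul_one] at hk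
    have hx2 : x * x = 1 := by
      calc x * x = n⁻¹ * (n * x * n⁻¹ * (n * x * n⁻¹)) * n := by group
        _ = 1 := by rw [F.A2_sq hb hx]; group
    obtain ⟨-, g, hg, rfl⟩ := F.inner_invol hB ((F.mem_ker_iff χ hχ hxz).1 hk) hx1 hx2
    exact hg.imp (fun h => ⟨g, inA_lt (Or.inl h), h, rfl⟩) (fun h => ⟨g, inA_lt (Or.inr h), h, rfl⟩)
  have hc16 : Nat.card ↥(MulAut.conj n⁻¹ • F.A2 hb) = 16 := by
    rw [CfsgLib.CIT.FourRecog.card_conj, F.card_A2 hb]
  rcases le_or_le hsub with h | h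
  · have e1 : MulAut.conj n⁻¹ • F.A2 hb = F.A1 hb :=
      Subgroup.eq_of_le_of_card_ge h (by rw [hc16, F.card_A1 hb])
    rw [map_inv, inv_smul_eq_iff, CfsgLib.CIT.FourRecog.conj_eq_self_iff.2 hn] at e1
    exact absurd e1.symm (F.A1_ne_A2 hb)
  · have e1 : MulAut.conj n⁻¹ • F.A2 hb = F.A2 hb :=
      Subgroup.eq_of_le_of_card_ge h (by rw [hc16, F.card_A2 hb])
    show n ∈ normalizer (F.A2 hb : Set G)
    have hinv := inv_mem (CfsgLib.CIT.FourRecog.conj_eq_self_iff.1 e1)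
    rwa [inv_inv] at hinv

include hB hχ hs in
theorem card_joint :
    Nat.card ↥((normalizer (F.A1 hb : Set G) ⊓ normalizer (F.A2 hb : Set G)) ⊓ χ.ker) = 576 := by
  set K := (normalizer (F.A1 hb : Set G) ⊓ normalizer (F.A2 hb : Set G)) ⊓ χ.ker
  have hst : K ⊓ centralizer ({z} : Set G) = F.ker192 := by
    rw [inf_assoc, F.ker_inf_centralizer χ hχ]
    exact inf_eq_right.2 (F.ker192_le_normalizer hb)
  have hz : z ∈ {x : G | x ∈ F.four ∧ x ≠ 1} := ⟨⟨16, by omega, by decide, F.el_sixteen⟩, F.z_ne⟩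
  have hconj : ∀ n ∈ K, ∀ x ∈ {x : G | x ∈ F.four ∧ x ≠ 1},
      n * x * n⁻¹ ∈ {x : G | x ∈ F.four ∧ x ≠ 1} := by
    intro n hn x hx
    refine ⟨?_, fun e => hx.2 (conj_eq_one_iff.1 e)⟩
    have h := hx.1
    rw [← F.inf_eq_four hb] at h ⊢
    exact ⟨(mem_normalizer_iff.1 hn.1.1 x).1 h.1, (mem_normalizer_iff.1 hn.1.2 x).1 h.2⟩
  rw [(orbit_card K _ hz hconj).2.2 (fun t ht => by
    obtain ⟨n, hn, hn1, e⟩ := F.trans_four hB χ hχ hs hb ht.1 ht.2
    exact ⟨n, ⟨hn, hn1⟩, e⟩), F.card_nonone hb _ 3 F.card_four, hst, F.card_ker192]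

theorem four_normalised_fixed {T : Subgroup G} (hT : IsPGroup 2 T)
    (hTN : T ≤ normalizer (F.four : Set G)) : ∃ u ∈ F.four, u ≠ 1 ∧ ∀ g ∈ T, g * u = u * g := by
  classical
  haveI : Fact (Nat.Prime 2) := ⟨Nat.prime_two⟩
  letI : MulAction T F.four :=
    { smul := fun g x => ⟨(g : G) * x * (g : G)⁻¹, (mem_normalizer_iff.1 (hTN g.2) _).1 x.2⟩
      one_smul := fun x => Subtype.ext (show (1 : G) * x * (1 : G)⁻¹ = x by group)
      mul_smul := fun g h x => Subtype.ext (show ((g : G) * h) * x * ((g : G) * h)⁻¹ =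
        (g : G) * ((h : G) * x * (h : G)⁻¹) * (g : G)⁻¹ by group) }
  have h1 : (1 : F.four) ∈ MulAction.fixedPoints T F.four := fun g =>
    Subtype.ext (show (g : G) * 1 * (g : G)⁻¹ = 1 by group)
  obtain ⟨y, hy, hne⟩ := hT.exists_fixed_point_of_prime_dvd_card_of_fixed_point F.four
    (by rw [F.card_four]; norm_num) h1
  exact ⟨y, y.2, fun e => hne (Subtype.ext e.symm), fun g hg =>
    mul_inv_eq_iff_eq_mul.1 (congrArg Subtype.val (hy ⟨g, hg⟩))⟩

theorem three_facts {y : G} (hy : y ∈ F.ker192) (hy1 : y ≠ 1) (hy3 : y ^ 3 = 1) :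
    F.a * y = y * F.a ∧ (∀ c ∈ F.ker192, c * y * c⁻¹ ≠ y⁻¹) ∧
    ∀ s ∈ F.S64, s * y = y * s → s ∈ F.four := by
  obtain ⟨k, hk, pk, rfl⟩ := hy
  have hkl : sqC F.α F.β k < 768 := mulC_lt _ _ hk hk
  have hsq : F.el k * F.el k = F.el (sqC F.α F.β k) := F.el_mul hk hk
  have h := allB_spec (three_check F.α F.β) hk
  simp only [Bool.or_eq_true, beq_iff_eq, bne_iff_ne, Bool.and_eq_true, Bool.not_eq_true'] at h
  have h3 : mulC F.α F.β k (sqC F.α F.β k) = 0 :=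
    F.inj (mulC_lt _ _ hk hkl) (show 0 < 768 by omega)
      (by rw [← F.el_mul hk hkl, ← hsq, F.el_zero, ← hy3, pow_succ', pow_two])
  rcases h with ((h | h) | h) | ⟨⟨h15, -⟩, hall⟩
  · exact absurd (by rw [h, F.el_zero]) hy1
  · exact absurd (beq_iff_eq.1 pk) h
  · exact absurd h3 h
  refine ⟨(F.commC_iff (by omega) hk).1 h15, ?_, ?_⟩
  · rintro _ ⟨c, hc, pc, rfl⟩ e
    have h' := allB_spec hall hc
    simp only [Bool.or_eq_true, bne_iff_ne, Bool.and_eq_true] at h'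
    rcases h' with h' | h'
    · exact h' (beq_iff_eq.1 pc)
    refine h'.1 (F.inj (mulC_lt _ _ hc hk) (mulC_lt _ _ hkl hc) ?_)
    rw [← F.el_mul hc hk, ← F.el_mul hkl hc, ← hsq]
    rw [mul_inv_eq_iff_eq_mul] at e
    rw [e]
    congr 1
    exact inv_eq_of_mul_eq_one_right (by rw [← hy3, pow_succ', pow_two])
  · rintro _ ⟨s, hs, ps, rfl⟩ e
    have h' := allB_spec hall hs
    simp only [Bool.or_eq_true, bne_iff_ne, Bool.and_eq_true, Bool.not_eq_true'] at h'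
    rcases h' with h' | ⟨-, h'⟩
    · unfold inS at ps
      rw [Bool.and_eq_true, beq_iff_eq] at ps
      exact absurd ps.1 h'
    rw [ps, (F.commC_iff hs hk).2 e] at h'
    simp at h'
    exact ⟨s, hs, h', rfl⟩

theorem two_elt_mem_S64 {w : G} (hw : w ∈ F.ker192) {n : ℕ} (hn : w ^ (2 ^ n) = 1) : w ∈ F.S64 := by
  obtain ⟨g, hg, pg, rfl⟩ := hw
  have h3 := allB_spec (cube_check F.α F.β) hg
  rw [Bool.or_eq_true, bne_iff_ne] at h3
  have hsl : sqC F.α F.β g < 768 := mulC_lt _ _ hg hg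
  have h4 : F.el g ^ 3 ∈ F.S64 := ⟨_, mulC_lt _ _ hg hsl, h3.resolve_left (by simpa using pg), by
    rw [← F.el_mul hg hsl, show F.el (sqC F.α F.β g) = F.el g * F.el g from (F.el_mul hg hg).symm,
      pow_succ', pow_two]⟩
  have hc : Nat.Coprime 3 (2 ^ n) := Nat.Coprime.pow_right n (by norm_num)
  obtain ⟨i, j, hij⟩ : ∃ i j : ℤ, (1 : ℤ) = 3 * i + (2 ^ n : ℕ) * j :=
    ⟨_, _, (by simpa [hc.gcd_eq_one] using Nat.gcd_eq_gcd_ab 3 (2 ^ n))⟩
  rw [show F.el g = (F.el g ^ 3) ^ i by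
    conv_lhs => rw [← zpow_one (F.el g), hij, zpow_add, zpow_mul, zpow_mul, zpow_natCast (F.el g) (2 ^ n), hn,
      one_zpow, mul_one]
    norm_cast]
  exact zpow_mem h4 i

include hB hχ hs in
theorem no_inversion {y g t : G} (hy1 : y ≠ 1) (hy3 : y ^ 3 = 1) (hyk : χ y = 1) (hgk : χ g = 1)
    (htk : χ t = 1) (ht1 : t ≠ 1) (ht2 : t * t = 1) (hty : t * y = y * t) : g * y * g⁻¹ ≠ y⁻¹ := by
  haveI : Fact (Nat.Prime 2) := ⟨Nat.prime_two⟩
  intro hg
  obtain ⟨h, hh, hht⟩ := F.conj_ker χ hχ (F.invol_conj hB χ hχ htk ht1 ht2)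
  -- move the involution to `z`
  set y' := h⁻¹ * y * h with hy'
  set g' := h⁻¹ * g * h with hg'
  have hy'k : y' ∈ F.ker192 := F.conj_centralizer χ hχ hh hht hyk hty.symm
  have hy'1 : y' ≠ 1 := fun e => hy1 (by
    calc y = h * y' * h⁻¹ := by rw [hy']; group
      _ = 1 := by rw [e]; group)
  have hy'3 : y' ^ 3 = 1 := by
    have e := conj_pow (a := h⁻¹) (b := y) (i := 3)
    rw [inv_inv, hy3, mul_one, inv_mul_cancel] at e
    exact e
  have hg'k : χ g' = 1 := by rw [hg', map_mul, map_mul, map_inv, hgk, mul_one, inv_mul_cancel]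
  have hinv : g' * y' * g'⁻¹ = y'⁻¹ := by
    calc g' * y' * g'⁻¹ = h⁻¹ * (g * y * g⁻¹) * h := by rw [hg', hy']; group
      _ = y'⁻¹ := by rw [hg, hy']; group
  clear_value y' g'
  obtain ⟨hay, -, -⟩ := F.three_facts hb hy'k hy'1 hy'3
  have hzy : z * y' = y' * z := by
    obtain ⟨k, -, -, e⟩ := id hy'k
    rw [← e, F.el_comm]
  set D : Subgroup G := centralizer ({y'} : Set G) ⊓ χ.ker with hD
  have hfour : F.four ≤ D := by
    intro x hx
    refine ⟨mem_centralizer_singleton_iff.2 ?_, ?_⟩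
    · rcases F.mem_four.1 hx with rfl | hx'
      · rw [one_mul, mul_one]
      · rcases F.inA_cases hx' with rfl | rfl | rfl
        · exact hzy
        · exact hay
        · rw [← F.a_spec.2.2.2.2, mul_assoc, hay, ← mul_assoc, hzy, mul_assoc]
    · rw [← F.inf_eq_four hb] at hx
      exact ((F.ker_inf_centralizer χ hχ).ge (F.A1_le_ker192 hb hx.1)).1
  -- conjugating an element of the four-group to `z`
  have move : ∀ u ∈ F.four, u ≠ 1 → ∃ n ∈ normalizer (F.four : Set G), χ n = 1 ∧ n * z * n⁻¹ = u ∧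
      n⁻¹ * y' * n ∈ F.ker192 := by
    intro u hu hu1
    obtain ⟨n, hn, hn1, e⟩ := F.trans_four hB χ hχ hs hb hu hu1
    refine ⟨n, ?_, hn1, e, F.conj_centralizer χ hχ hn1 e ((F.ker_inf_centralizer χ hχ).ge hy'k).1
      (mem_centralizer_singleton_iff.1 (hfour hu).1).symm⟩
    rw [← F.inf_eq_four hb]
    exact Subgroup.mem_normalizer_fintype fun x hx =>
      ⟨(mem_normalizer_iff.1 hn.1 x).1 hx.1, (mem_normalizer_iff.1 hn.2 x).1 hx.2⟩
  have hp4 : IsPGroup 2 (F.four.subgroupOf D) :=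
    (IsPGroup.of_card (n := 2) (by rw [F.card_four]; norm_num) : IsPGroup 2 F.four).comap_subtype
  -- the four-group is a Sylow subgroup of `D`
  let P : Sylow 2 D := ⟨F.four.subgroupOf D, hp4, fun {Q} hQ hle => by
    by_contra hne
    haveI : Group.IsNilpotent Q := hQ.isNilpotent
    have hlt : (F.four.subgroupOf D).subgroupOf Q < ⊤ := lt_top_iff_ne_top.2 fun e =>
      hne (le_antisymm (Subgroup.subgroupOf_eq_top.1 e) hle)
    obtain ⟨⟨⟨w, hwD⟩, hwQ⟩, hwN, hwF⟩ :=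
      SetLike.exists_of_lt ((normalizerCondition_of_isNilpotent (G := Q)) _ hlt)
    have hwN' : w ∈ normalizer (F.four : Set G) := mem_normalizer_fintype fun x hx =>
      (mem_normalizer_iff.1 hwN ⟨⟨x, hfour hx⟩, hle hx⟩).1 hx
    obtain ⟨n, hn⟩ := hQ ⟨_, hwQ⟩
    have hn' : w ^ (2 ^ n) = 1 := congrArg (fun q : Q => ((q : D) : G)) hn
    have hz2 : IsPGroup 2 (zpowers w) := by
      obtain ⟨i, -, hi⟩ := (Nat.dvd_prime_pow Nat.prime_two).1 (orderOf_dvd_of_pow_eq_one hn')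
      exact IsPGroup.of_card (n := i) (by rw [Nat.card_zpowers, hi])
    obtain ⟨u, hu, hu1, hfix⟩ := F.four_normalised_fixed hb hz2 (zpowers_le.2 hwN')
    obtain ⟨m, hmN, hm1, e, hmy⟩ := move u hu hu1
    have hwk : m⁻¹ * w * m ∈ F.ker192 :=
      F.conj_centralizer χ hχ hm1 e hwD.2 (hfix w (mem_zpowers w))
    have hws : m⁻¹ * w * m ∈ F.S64 := F.two_elt_mem_S64 hb hwk (n := n) (by
      have e2 := conj_pow (a := m⁻¹) (b := w) (i := 2 ^ n)
      rw [inv_inv, hn', mul_one, inv_mul_cancel] at e2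
      exact e2)
    have hy'' : m⁻¹ * y' * m ≠ 1 := fun e' => hy'1 (by
      calc y' = m * (m⁻¹ * y' * m) * m⁻¹ := by group
        _ = 1 := by rw [e']; group)
    have hy3' : (m⁻¹ * y' * m) ^ 3 = 1 := by
      have e2 := conj_pow (a := m⁻¹) (b := y') (i := 3)
      rw [inv_inv, hy'3, mul_one, inv_mul_cancel] at e2
      exact e2
    have hmem := (F.three_facts hb hmy hy'' hy3').2.2 _ hws (by
      have hc := mem_centralizer_singleton_iff.1 hwD.1
      calc m⁻¹ * w * m * (m⁻¹ * y' * m) = m⁻¹ * (w * y') * m := by group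
        _ = m⁻¹ * (y' * w) * m := by rw [hc]
        _ = m⁻¹ * y' * m * (m⁻¹ * w * m) := by group)
    apply hwF
    have := (mem_normalizer_iff.1 hmN _).1 hmem
    rwa [show m * (m⁻¹ * w * m) * m⁻¹ = w by group] at this⟩
  -- adjust the inverting element
  have hgD : ∀ x ∈ D, g' * x * g'⁻¹ ∈ D := by
    intro x hx
    refine ⟨mem_centralizer_singleton_iff.2 ?_, by
      show χ _ = 1
      rw [map_mul, map_mul, map_inv, hg'k, MonoidHom.mem_ker.1 hx.2]; simp⟩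
    have hx1 := mem_centralizer_singleton_iff.1 hx.1
    have hy'e : y' = g' * y'⁻¹ * g'⁻¹ := by
      calc y' = (g' * y' * g'⁻¹)⁻¹ := by rw [hinv, inv_inv]
        _ = _ := by group
    conv_lhs => rw [hy'e]
    conv_rhs => rw [hy'e]
    calc g' * x * g'⁻¹ * (g' * y'⁻¹ * g'⁻¹) = g' * (x * y'⁻¹) * g'⁻¹ := by group
      _ = g' * (y'⁻¹ * x) * g'⁻¹ := by rw [(Commute.inv_right hx1 : Commute x y'⁻¹).eq]
      _ = g' * y'⁻¹ * g'⁻¹ * (g' * x * g'⁻¹) := by group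
  let γ : D →* D := MonoidHom.mk' (fun x => ⟨g' * x * g'⁻¹, hgD x x.2⟩)
    fun a b => Subtype.ext (show g' * ((a : G) * b) * g'⁻¹ = g' * a * g'⁻¹ * (g' * b * g'⁻¹) by group)
  obtain ⟨Q, hQ⟩ := ((P.isPGroup').map γ).exists_le_sylow
  obtain ⟨d, hd⟩ := MulAction.exists_smul_eq D Q P
  set k := (d : G) * g' with hk
  have hkN : k ∈ normalizer (F.four : Set G) := mem_normalizer_fintype fun x hx => by
    have h1 : γ ⟨x, hfour hx⟩ ∈ Q := hQ ⟨⟨x, hfour hx⟩, hx, rfl⟩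
    have h2 : d * γ ⟨x, hfour hx⟩ * d⁻¹ ∈ (P : Subgroup D) := by
      rw [← hd, Sylow.coe_subgroup_smul]
      exact Subgroup.smul_mem_pointwise_smul _ (MulAut.conj d) _ h1
    have h3 : (d : G) * (g' * x * g'⁻¹) * (d : G)⁻¹ ∈ F.four := h2
    rwa [show k * x * k⁻¹ = (d : G) * (g' * x * g'⁻¹) * (d : G)⁻¹ by rw [hk]; group]
  have hkinv : k * y' * k⁻¹ = y'⁻¹ := by
    have hdy := mem_centralizer_singleton_iff.1 d.2.1
    rw [hk, show (d : G) * g' * y' * ((d : G) * g')⁻¹ = (d : G) * (g' * y' * g'⁻¹) * (d : G)⁻¹ by group,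
      hinv, (Commute.inv_right hdy : Commute (d : G) y'⁻¹).eq]
    group
  have hkk : χ k = 1 := by rw [hk, map_mul, MonoidHom.mem_ker.1 d.2.2, hg'k, mul_one]
  obtain ⟨i, b, hb', hib⟩ := Nat.exists_eq_two_pow_mul_odd (orderOf_pos k).ne'
  have hpow : ∀ m : ℕ, k ^ (2 * m) * y' = y' * k ^ (2 * m) := by
    intro m
    rw [pow_mul]
    refine ((Commute.pow_left ?_ m)).eq
    rw [pow_two]
    show k * k * y' = y' * (k * k)
    calc k * k * y' = k * (k * y' * k⁻¹) * k⁻¹ * (k * k) := by group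
      _ = k * y'⁻¹ * k⁻¹ * (k * k) := by rw [hkinv]
      _ = (k * y' * k⁻¹)⁻¹ * (k * k) := by group
      _ = y' * (k * k) := by rw [hkinv, inv_inv]
  have hkb : k ^ b * y' * (k ^ b)⁻¹ = y'⁻¹ := by
    obtain ⟨j, rfl⟩ := hb'
    calc k ^ (2 * j + 1) * y' * (k ^ (2 * j + 1))⁻¹ = k * (k ^ (2 * j) * y' * (k ^ (2 * j))⁻¹) * k⁻¹ := by
          rw [pow_succ']; group
      _ = y'⁻¹ := by rw [hpow, mul_inv_cancel_right, hkinv]
  have hz2 : IsPGroup 2 (zpowers (k ^ b)) := by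
    refine IsPGroup.of_card (n := i) ?_
    rw [Nat.card_zpowers, orderOf_pow_of_dvd hb'.pos.ne' (hib ▸ dvd_mul_left _ _), hib,
      Nat.mul_div_cancel _ hb'.pos]
  obtain ⟨u, hu, hu1, hfix⟩ := F.four_normalised_fixed hb hz2 (zpowers_le.2 (pow_mem hkN b))
  obtain ⟨m, -, hm1, e, hmy⟩ := move u hu hu1
  have hck : m⁻¹ * k ^ b * m ∈ F.ker192 :=
    F.conj_centralizer χ hχ hm1 e (by rw [map_pow, hkk, one_pow]) (hfix _ (mem_zpowers _))
  refine (F.three_facts hb hmy (fun e' => hy'1 ?_) ?_).2.1 _ hck ?_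
  · calc y' = m * (m⁻¹ * y' * m) * m⁻¹ := by group
      _ = 1 := by rw [e']; group
  · have e2 := conj_pow (a := m⁻¹) (b := y') (i := 3)
    rw [inv_inv, hy'3, mul_one, inv_mul_cancel] at e2
    exact e2
  · calc m⁻¹ * k ^ b * m * (m⁻¹ * y' * m) * (m⁻¹ * k ^ b * m)⁻¹
        = m⁻¹ * (k ^ b * y' * (k ^ b)⁻¹) * m := by group
      _ = (m⁻¹ * y' * m)⁻¹ := by rw [hkb]; group

include hB hχ hs in
/-- The kernel satisfies the configuration. -/
theorem exists_conf : Conf ((F.A1 hb).subgroupOf χ.ker) ((F.A2 hb).subgroupOf χ.ker) := by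
  haveI : Fact (Nat.Prime 2) := ⟨Nat.prime_two⟩
  have hk1 : F.A1 hb ≤ χ.ker := fun x hx => ((F.ker_inf_centralizer χ hχ).ge (F.A1_le_ker192 hb hx)).1
  have hk2 : F.A2 hb ≤ χ.ker := fun x hx => ((F.ker_inf_centralizer χ hχ).ge (F.A2_le_ker192 hb hx)).1
  have hS : F.S64 ≤ χ.ker := fun x hx => ((F.ker_inf_centralizer χ hχ).ge (F.S64_le_ker192 hx)).1
  have hnorm : ∀ (B : Subgroup G), B ≤ χ.ker → normalizer ((B.subgroupOf χ.ker : Subgroup χ.ker) : Set χ.ker) =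
      (normalizer (B : Set G)).subgroupOf χ.ker := by
    intro B hB'
    ext x
    constructor
    · intro hx
      exact mem_subgroupOf.2 (mem_normalizer_fintype fun v hv =>
        (mem_normalizer_iff.1 hx ⟨v, hB' hv⟩).1 hv)
    · intro hx
      exact mem_normalizer_iff.2 fun v => mem_normalizer_iff.1 (mem_subgroupOf.1 hx) v
  have hcard : ∀ (B : Subgroup G), B ≤ χ.ker → Nat.card (B.subgroupOf χ.ker) = Nat.card B :=
    fun B hB' => Nat.card_congr (subgroupOfEquivOfLe hB').toEquiv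
  have hcardN : ∀ (B : Subgroup G), Nat.card (B.subgroupOf χ.ker) = Nat.card ↥(B ⊓ χ.ker) :=
    fun B => Nat.card_congr ⟨fun x => ⟨x.1.1, x.2, x.1.2⟩, fun x => ⟨⟨x.1, x.2.2⟩, x.2.1⟩,
      fun _ => rfl, fun _ => rfl⟩
  have hsup : (F.A1 hb).subgroupOf χ.ker ⊔ (F.A2 hb).subgroupOf χ.ker = F.S64.subgroupOf χ.ker := by
    rw [← Subgroup.subgroupOf_sup hk1 hk2, F.sup_eq_S64 hb]
  have hcJ : Nat.card ↥(normalizer (((F.A1 hb).subgroupOf χ.ker : Subgroup χ.ker) : Set χ.ker) ⊓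
      normalizer (((F.A2 hb).subgroupOf χ.ker : Subgroup χ.ker) : Set χ.ker)) = 576 := by
    rw [hnorm _ hk1, hnorm _ hk2, ← F.card_joint hB χ hχ hs hb, ← hcardN]
    rfl
  have hN1 : Nat.card (normalizer (((F.A1 hb).subgroupOf χ.ker : Subgroup χ.ker) : Set χ.ker)) = 2880 := by
    rw [hnorm _ hk1, hcardN, (F.card_normalizer_ker hB χ hχ hs hb).1]
  have hN2 : Nat.card (normalizer (((F.A2 hb).subgroupOf χ.ker : Subgroup χ.ker) : Set χ.ker)) = 2880 := by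
    rw [hnorm _ hk2, hcardN, F.card_normalizer_ker_A2 hB χ hχ hs hb]
  have hind : ∀ (M K : Subgroup χ.ker), Nat.card M = 2880 → Nat.card ↥(M ⊓ K) = 576 →
      (K.subgroupOf M).index = 5 := by
    intro M K hM hK
    have h := (K.subgroupOf M).card_mul_index
    rw [← inf_subgroupOf_left K M, Nat.card_congr (subgroupOfEquivOfLe inf_le_left).toEquiv, hK, hM,
      inf_subgroupOf_left] at h
    omega
  refine ⟨fun x hx => Subtype.ext (F.A1_sq hb hx), fun x hx => Subtype.ext (F.A2_sq hb hx), ?_, ?_, ?_, ?_,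
    ?_, ?_, ?_, ?_, ?_, ?_, hN1, hN2, hind _ _ hN1 hcJ, hind _ _ hN2 (by rw [inf_comm]; exact hcJ),
    ?_, ?_, ?_, ?_, ?_⟩
  · rw [hcard _ hk1, F.card_A1 hb]
  · rw [hcard _ hk2, F.card_A2 hb]
  · refine le_antisymm (fun x hx => ?_) fun x hx => mem_centralizer_iff.2 fun v hv =>
      Subtype.ext (F.A1_comm hb hv hx)
    refine mem_subgroupOf.2 ((F.centralizer_A1 hb).le (mem_centralizer_iff.2 fun v hv => ?_))
    exact congrArg Subtype.val (mem_centralizer_iff.1 hx ⟨v, hk1 hv⟩ hv)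
  · refine le_antisymm (fun x hx => ?_) fun x hx => mem_centralizer_iff.2 fun v hv =>
      Subtype.ext (F.A2_comm hb hv hx)
    refine mem_subgroupOf.2 ((F.centralizer_A2 hb).le (mem_centralizer_iff.2 fun v hv => ?_))
    exact congrArg Subtype.val (mem_centralizer_iff.1 hx ⟨v, hk2 hv⟩ hv)
  · have e : (F.A1 hb).subgroupOf χ.ker ⊓ (F.A2 hb).subgroupOf χ.ker = F.four.subgroupOf χ.ker := by
      rw [← F.inf_eq_four hb]; rfl
    rw [e, hcard _ (fun x hx => hk1 ((F.inf_eq_four hb).ge hx).1), F.card_four]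
  · rw [hsup, hcard _ hS, F.card_S64]
  · rw [hnorm _ hk1]
    exact fun x hx => mem_subgroupOf.2 ((F.ker192_le_normalizer hb) (F.A2_le_ker192 hb hx)).1
  · rw [hnorm _ hk2]
    exact fun x hx => mem_subgroupOf.2 ((F.ker192_le_normalizer hb) (F.A1_le_ker192 hb hx)).2
  · intro Q hQ hle
    refine (Subgroup.eq_of_le_of_card_ge hle ?_).symm
    rw [hsup, hcard _ hS, F.card_S64]
    obtain ⟨j, hj⟩ := hQ.exists_card_eq
    have hd : 2 ^ j ∣ Nat.card χ.ker := hj ▸ Subgroup.card_subgroup_dvd_card Q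
    have h4 : Nat.card χ.ker * 4 = Nat.card G := by
      rw [← χ.ker.card_mul_index, Subgroup.index_ker, MonoidHom.range_eq_top.2 hs, Subgroup.card_top]
      simp
    have hG : Nat.card G = 256 * F.syl.index := by rw [← F.card_syl, F.syl.card_mul_index]
    rw [hj]
    by_contra hgt
    have h7 : 7 ≤ j := by
      by_contra hle6
      have := Nat.pow_le_pow_right (show 0 < 2 by norm_num) (show j ≤ 6 by omega)
      norm_num at this
      omega
    have h512 : 512 ∣ 256 * F.syl.index := by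
      rw [← hG, ← h4]
      exact Nat.mul_dvd_mul ((pow_dvd_pow 2 h7).trans hd) (dvd_refl 4)
    obtain ⟨m, hm⟩ := F.odd_index
    omega
  · intro x hx hx2
    rw [hsup] at hx
    by_cases h1 : (x : G) = 1
    · exact Or.inl (mem_subgroupOf.2 (h1 ▸ one_mem _))
    obtain ⟨-, g, hg, e⟩ := F.inner_invol hB (F.S64_le_ker192 (mem_subgroupOf.1 hx)) h1
      (congrArg Subtype.val hx2)
    exact hg.imp (fun h => mem_subgroupOf.2 ⟨g, inA_lt (Or.inl h), h, e⟩)
      (fun h => mem_subgroupOf.2 ⟨g, inA_lt (Or.inr h), h, e⟩)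
  · intro t ht ht1 t' ht' ht1'
    obtain ⟨n, hn, hn1, e⟩ := F.trans_ker_A1 hB χ hχ hs hb t ht (fun e => ht1 (Subtype.ext e)) t' ht'
      (fun e => ht1' (Subtype.ext e))
    exact ⟨⟨n, hn1⟩, by rw [hnorm _ hk1]; exact mem_subgroupOf.2 hn, Subtype.ext e⟩
  · intro t ht ht1 t' ht' ht1'
    obtain ⟨n, hn, hn1, e⟩ := F.trans_ker_A2 hB χ hχ hs hb t ht (fun e => ht1 (Subtype.ext e)) t' ht'
      (fun e => ht1' (Subtype.ext e))
    exact ⟨⟨n, hn1⟩, by rw [hnorm _ hk2]; exact mem_subgroupOf.2 hn, Subtype.ext e⟩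
  · intro t ht1 ht2
    obtain ⟨g, hg, hgt⟩ := F.conj_ker χ hχ (F.invol_conj hB χ hχ (x := (t : G)) t.2
      (fun e => ht1 (Subtype.ext e)) (congrArg Subtype.val ht2))
    refine ⟨⟨g, hg⟩, fun x hx2 hxt => ?_⟩
    rw [CfsgLib.CIT.FourRecog.mem_conj, hsup, mem_subgroupOf]
    show g⁻¹ * (x : G) * g ∈ F.S64
    refine F.two_elt_mem_S64 hb (n := 1)
      (F.conj_centralizer χ hχ hg hgt x.2 (congrArg Subtype.val hxt)) ?_
    have h2 : (x : G) * x = 1 := congrArg Subtype.val hx2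
    rw [pow_one, pow_two, show g⁻¹ * (x : G) * g * (g⁻¹ * x * g) = g⁻¹ * ((x : G) * x) * g by group, h2]
    group
  · intro t ht1 ht2
    obtain ⟨g, hg, hgt⟩ := F.conj_ker χ hχ (F.invol_conj hB χ hχ (x := (t : G)) t.2
      (fun e => ht1 (Subtype.ext e)) (congrArg Subtype.val ht2))
    rw [← F.card_ker192]
    refine Nat.card_congr ⟨fun x => ⟨g⁻¹ * (x.1 : G) * g, F.conj_centralizer χ hχ hg hgt x.1.2
        (congrArg Subtype.val (mem_centralizer_singleton_iff.1 x.2))⟩,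
      fun x => ⟨⟨g * x * g⁻¹, ?_⟩, mem_centralizer_singleton_iff.2 (Subtype.ext ?_)⟩,
      fun x => Subtype.ext (Subtype.ext (by group)), fun x => Subtype.ext (by group)⟩
    · rw [MonoidHom.mem_ker, map_mul, map_mul, map_inv, hg,
        MonoidHom.mem_ker.1 ((F.ker_inf_centralizer χ hχ).ge x.2).1]
      simp
    · show g * (x : G) * g⁻¹ * (t : G) = (t : G) * (g * x * g⁻¹)
      have := mem_centralizer_singleton_iff.1 ((F.ker_inf_centralizer χ hχ).ge x.2).2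
      rw [← hgt]
      calc g * (x : G) * g⁻¹ * (g * z * g⁻¹) = g * ((x : G) * z) * g⁻¹ := by group
        _ = g * (z * x) * g⁻¹ := by rw [this]
        _ = g * z * g⁻¹ * (g * x * g⁻¹) := by group
  · rintro y g hy1 hy3 ⟨t, ht1, ht2, hty⟩ e
    exact F.no_inversion hB χ hχ hs hb (y := (y : G)) (g := (g : G)) (t := (t : G))
      (fun e => hy1 (Subtype.ext e)) (congrArg Subtype.val hy3) y.2 g.2 t.2
      (fun e => ht1 (Subtype.ext e)) (congrArg Subtype.val ht2) (congrArg Subtype.val hty)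
      (congrArg Subtype.val e)

end Frame

end CfsgLib.AutL34
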