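import Cfsg.Agent.Lib.AutL34.EBase
import Mathlib.GroupTheory.Perm.Basic
import Mathlib.GroupTheory.GroupAction.Quotient

/-!
The action on the five singular lines.
-/
set_option autoImplicit false
set_option maxRecDepth 10000

namespace CfsgLib.AutL34

theorem ptSym_facts : ∀ j : Fin 5, ptSym j < 32 ∧ ptSym j ≠ 0 ∧ ptSym j ≠ 16 ∧
    eMul (ptSym j) (ptSym j) = 0 ∧ ∀ k : Fin 5, j ≠ k → ptSym j % 16 ≠ ptSym k % 16 := by
  decide +kernel

theorem sign_table : allB 16 (fun t => anyB 32 fun x => allB 4 fun i =>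
    eMul x (2 ^ i) == eMul (2 ^ i) x ^^^ (16 * bitN t i)) = true := by decide +kernel

theorem stab_table : (Finset.univ.filter fun σ : Equiv.Perm (Fin 5) => σ 4 = 4).card = 24 := by
  decide +kernel

namespace EHyp

variable {L : Type*} [Group L] [Finite L] {z : L} (H : EHyp L z)
variable (X : EGens L z) (hX : X.e1 ∈ H.E ∧ X.e2 ∈ H.E ∧ X.e3 ∈ H.E ∧ X.e4 ∈ H.E)

/-- a representative of a singular line -/
def pt (_ : EHyp L z) (X : EGens L z) (j : Fin 5) : L := X.elE (ptSym j)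

include H in
omit [Finite L] in
theorem pt_ne {j k : Fin 5} (hjk : j ≠ k) : H.pt X j ≠ H.pt X k ∧ H.pt X j ≠ z * H.pt X k := by
  obtain ⟨hj, -, -, -, hd⟩ := ptSym_facts j
  obtain ⟨hk, -⟩ := ptSym_facts k
  refine ⟨fun e => hd k hjk (by rw [H.elE_inj X hj hk e]), fun e => hd k hjk ?_⟩
  rw [show z * H.pt X k = X.elE (ptSym k ^^^ 16) from X.z_elE hk] at e
  rw [H.elE_inj X hj (xor_lt hk (k := 1) (by omega)) e]
  have h : allB 32 (fun a => (a ^^^ 16) % 16 == a % 16) = true := by decide +kernel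
  exact eq_of_beq (allB_spec h hk)

omit [Finite L] in
theorem pt_spec (j : Fin 5) : H.pt X j * H.pt X j = 1 ∧ H.pt X j ≠ 1 ∧ H.pt X j ≠ z := by
  obtain ⟨hj, h0, h16, hsq, -⟩ := ptSym_facts j
  refine ⟨?_, fun e => ?_, fun e => ?_⟩
  · rw [pt, X.elE_mul hj hj, hsq, X.elE_zero]
  · exact h0 (H.elE_inj X hj (by omega) (by rw [X.elE_zero]; exact e))
  · exact h16 (H.elE_inj X hj (by omega) (by rw [X.elE_sixteen]; exact e))

include hX

theorem exists_image (g : L) (j : Fin 5) :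
    ∃ k : Fin 5, g * H.pt X j * g⁻¹ = H.pt X k ∨ g * H.pt X j * g⁻¹ = z * H.pt X k := by
  obtain ⟨h1, h2, h3⟩ := H.pt_spec X j
  obtain ⟨k, hk, h⟩ := H.exists_pt X hX (x := g * H.pt X j * g⁻¹)
    (H.normal g _ (H.elE_mem X hX _))
    (by rw [show g * H.pt X j * g⁻¹ * (g * H.pt X j * g⁻¹) = g * (H.pt X j * H.pt X j) * g⁻¹ by group,
      h1]; group)
    (fun e => h2 (conj_eq_one_iff.1 e))
    (fun e => h3 (by
      have e' : g * H.pt X j * g⁻¹ = g * z * g⁻¹ := by rw [e, H.central g]; group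
      simpa using e'))
  exact ⟨⟨k, hk⟩, h⟩

/-- the image of a line -/
noncomputable def lineMap (g : L) (j : Fin 5) : Fin 5 := (H.exists_image X hX g j).choose

theorem lineMap_spec (g : L) (j : Fin 5) :
    g * H.pt X j * g⁻¹ = H.pt X (H.lineMap X hX g j) ∨ g * H.pt X j * g⁻¹ = z * H.pt X (H.lineMap X hX g j) :=
  (H.exists_image X hX g j).choose_spec

theorem lineMap_eq {g : L} {j k : Fin 5}
    (h : g * H.pt X j * g⁻¹ = H.pt X k ∨ g * H.pt X j * g⁻¹ = z * H.pt X k) : H.lineMap X hX g j = k := by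
  by_contra hne
  obtain ⟨n1, n2⟩ := H.pt_ne X hne
  rcases H.lineMap_spec X hX g j with h' | h' <;> rcases h with h | h <;> rw [h'] at h
  · exact n1 h
  · exact n2 h
  · refine n2 ?_
    rw [← h, ← mul_assoc, H.z_sq, one_mul]
  · exact n1 (mul_left_cancel h)

theorem lineMap_mul (g h : L) (j : Fin 5) :
    H.lineMap X hX (g * h) j = H.lineMap X hX g (H.lineMap X hX h j) := by
  refine H.lineMap_eq X hX ?_
  have key : g * h * H.pt X j * (g * h)⁻¹ = g * (h * H.pt X j * h⁻¹) * g⁻¹ := by group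
  have hz : ∀ w : L, g * (z * w) * g⁻¹ = z * (g * w * g⁻¹) := fun w => by
    rw [← mul_assoc g, H.central g]; group
  rcases H.lineMap_spec X hX h j with h1 | h1 <;>
    rcases H.lineMap_spec X hX g (H.lineMap X hX h j) with h2 | h2
  · exact Or.inl (by rw [key, h1, h2])
  · exact Or.inr (by rw [key, h1, h2])
  · exact Or.inr (by rw [key, h1, hz, h2])
  · exact Or.inl (by rw [key, h1, hz, h2, ← mul_assoc, H.z_sq, one_mul])

theorem lineMap_one (j : Fin 5) : H.lineMap X hX 1 j = j := H.lineMap_eq X hX (Or.inl (by group))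

/-- the permutation representation on the lines -/
noncomputable def lineHom : L →* Equiv.Perm (Fin 5) :=
  MonoidHom.mk' (fun g =>
    { toFun := H.lineMap X hX g
      invFun := H.lineMap X hX g⁻¹
      left_inv := fun j => by rw [← H.lineMap_mul X hX, inv_mul_cancel, H.lineMap_one X hX]
      right_inv := fun j => by rw [← H.lineMap_mul X hX, mul_inv_cancel, H.lineMap_one X hX] })
    fun g h => Equiv.ext fun j => H.lineMap_mul X hX g h j

theorem lineHom_apply (g : L) (j : Fin 5) : H.lineHom X hX g j = H.lineMap X hX g j := rfl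

theorem elE_conj (x : ℕ) (hx : x < 32) (i : ℕ) (hi : i < 4) (k : ℕ) (hk : k < 2)
    (h : eMul x (2 ^ i) = eMul (2 ^ i) x ^^^ (16 * k)) :
    X.elE x * X.elE (2 ^ i) * (X.elE x)⁻¹ = z ^ k * X.elE (2 ^ i) := by
  have h2 : 2 ^ i < 32 := lt_of_le_of_lt (Nat.pow_le_pow_right (by omega) (by omega : i ≤ 3)) (by norm_num)
  rw [X.elE_mul hx h2, h, ← X.zpow_elE (eMul_lt h2 hx) hk, ← X.elE_mul h2 hx,
    (Commute.pow_right (H.central (X.elE (2 ^ i) * X.elE x)) k).eq]
  group

/-- adjusting the signs by the extraspecial group -/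
theorem exists_signs (t : Fin 4 → ℕ) (ht : ∀ i, t i < 2) :
    ∃ x ∈ H.E, ∀ i : Fin 4, x * X.elE (2 ^ (i : ℕ)) * x⁻¹ = z ^ t i * X.elE (2 ^ (i : ℕ)) := by
  have ht0 := ht 0; have ht1 := ht 1; have ht2 := ht 2; have ht3 := ht 3
  obtain ⟨x, hx, h⟩ := anyB_spec (allB_spec sign_table
    (i := t 0 + 2 * t 1 + 4 * t 2 + 8 * t 3) (by omega))
  refine ⟨X.elE x, H.elE_mem X hX x, fun i => H.elE_conj X hX x hx i i.2 (t i) (ht i) ?_⟩
  have h1 := eq_of_beq (allB_spec h i.2)
  rw [h1]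
  congr 2
  fin_cases i <;> simp [bitN, Nat.shiftRight_eq_div_pow] <;> omega

theorem lineHom_ker : (H.lineHom X hX).ker = H.E := by
  refine le_antisymm (fun g hg => ?_) (fun x hx => ?_)
  · have hpt : ∀ i : Fin 4, H.pt X i.castSucc = X.elE (2 ^ (i : ℕ)) := fun i => by
      fin_cases i <;> rfl
    have key : ∀ i : Fin 4, ∃ k < 2, g * X.elE (2 ^ (i : ℕ)) * g⁻¹ = z ^ k * X.elE (2 ^ (i : ℕ)) := by
      intro i
      have h1 := H.lineMap_spec X hX g i.castSucc
      rw [← H.lineHom_apply X hX, MonoidHom.mem_ker.1 hg, Equiv.Perm.one_apply, hpt] at h1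
      rcases h1 with h1 | h1
      · exact ⟨0, by omega, by simpa using h1⟩
      · exact ⟨1, by omega, by simpa using h1⟩
    choose t ht htg using key
    obtain ⟨x, hx, hxc⟩ := H.exists_signs X hX t ht
    have hcomm : ∀ i : Fin 4, Commute (x⁻¹ * g) (X.elE (2 ^ (i : ℕ))) := fun i => by
      have e := (htg i).trans (hxc i).symm
      show x⁻¹ * g * X.elE (2 ^ (i : ℕ)) = X.elE (2 ^ (i : ℕ)) * (x⁻¹ * g)
      calc x⁻¹ * g * X.elE (2 ^ (i : ℕ)) = x⁻¹ * (g * X.elE (2 ^ (i : ℕ)) * g⁻¹) * g := by group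
        _ = X.elE (2 ^ (i : ℕ)) * (x⁻¹ * g) := by rw [e]; group
    have h5 : x⁻¹ * g ∈ H.E := by
      refine H.cent _ fun y hy => ?_
      obtain ⟨m, -, rfl⟩ := H.elE_surj X hX hy
      have e0 : Commute (x⁻¹ * g) X.e1 := by simpa [EGens.elE, bitN] using hcomm 0
      have e1 : Commute (x⁻¹ * g) X.e2 := by simpa [EGens.elE, bitN] using hcomm 1
      have e2 : Commute (x⁻¹ * g) X.e3 := by simpa [EGens.elE, bitN] using hcomm 2
      have e3 : Commute (x⁻¹ * g) X.e4 := by simpa [EGens.elE, bitN] using hcomm 3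
      exact ((Commute.pow_right (H.central _) _).mul_right ((e0.pow_right _).mul_right
        ((e1.pow_right _).mul_right ((e2.pow_right _).mul_right (e3.pow_right _))))).eq
    have := mul_mem hx h5
    rwa [mul_inv_cancel_left] at this
  · refine MonoidHom.mem_ker.2 (Equiv.ext fun j => H.lineMap_eq X hX ?_)
    rcases H.comm x hx _ (H.elE_mem X hX (ptSym j)) with h | h
    · exact Or.inl (by rw [show x * H.pt X j = H.pt X j * x from h]; group; rfl)
    · refine Or.inr ?_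
      rw [show x * H.pt X j = z * (H.pt X j * x) from h]
      group
      rfl

theorem card_range (hq : Nat.card (L ⧸ H.E) = 24) : Nat.card (H.lineHom X hX).range = 24 := by
  rw [← Subgroup.index_ker, H.lineHom_ker X hX, Subgroup.index_eq_card, hq]

end EHyp

/-- A subgroup of order 24 of `Sym(5)` fixes a point. -/
theorem exists_fixed_of_card {R : Subgroup (Equiv.Perm (Fin 5))} (hR : Nat.card R = 24) :
    ∃ q : Fin 5, ∀ σ ∈ R, σ q = q := by
  classical
  let O : Set (Fin 5) := MulAction.orbit R (0 : Fin 5)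
  have hO0 : (0 : Fin 5) ∈ O := MulAction.mem_orbit_self _
  have hOinv : ∀ σ : R, ∀ x, x ∈ O ↔ (σ : Equiv.Perm (Fin 5)) x ∈ O := fun σ x => by
    constructor
    · exact fun h => MulAction.mem_orbit_of_mem_orbit σ h
    · intro h
      have := MulAction.mem_orbit_of_mem_orbit σ⁻¹ h
      simpa [Subgroup.smul_def] using this
  have hdvd : Nat.card O ∣ 24 := by
    have h := MulAction.card_orbit_mul_card_stabilizer_eq_card_group R (0 : Fin 5)
    rw [← Nat.card_eq_fintype_card, ← Nat.card_eq_fintype_card, ← Nat.card_eq_fintype_card, hR] at h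
    exact ⟨_, h.symm⟩
  let f : R →* Equiv.Perm O × Equiv.Perm (Oᶜ : Set (Fin 5)) :=
    MonoidHom.mk' (fun σ => ((σ : Equiv.Perm (Fin 5)).subtypePerm (p := (· ∈ O)) (fun x => (hOinv σ x).symm),
      (σ : Equiv.Perm (Fin 5)).subtypePerm (p := (· ∈ Oᶜ)) (fun x => (not_congr (hOinv σ x)).symm)))
      fun σ τ => by ext <;> rfl
  have hf : Function.Injective f := by
    intro σ τ h
    refine Subtype.ext (Equiv.ext fun x => ?_)
    by_cases hx : x ∈ O
    · exact congrArg Subtype.val (Equiv.congr_fun (congrArg Prod.fst h) ⟨x, hx⟩)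
    · exact congrArg Subtype.val (Equiv.congr_fun (congrArg Prod.snd h) ⟨x, hx⟩)
  have hle := Nat.card_le_card_of_injective f hf
  rw [hR, Nat.card_prod, Nat.card_perm, Nat.card_perm] at hle
  have hsum : Nat.card O + Nat.card (Oᶜ : Set (Fin 5)) = 5 := by
    have h5 : Nat.card (Fin 5) = 5 := Nat.card_fin 5
    rw [← Nat.card_sum, Nat.card_congr (Equiv.Set.sumCompl O), h5]
  by_cases h1 : Nat.card O = 1
  · refine ⟨0, fun σ hσ => ?_⟩
    haveI := (Nat.card_eq_one_iff_unique.1 h1).1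
    exact congrArg Subtype.val (Subsingleton.elim (⟨σ 0, (hOinv ⟨σ, hσ⟩ 0).1 hO0⟩ : O) ⟨0, hO0⟩)
  by_cases h4 : Nat.card (Oᶜ : Set (Fin 5)) = 1
  · haveI := (Nat.card_eq_one_iff_unique.1 h4).1
    obtain ⟨q⟩ := (Nat.card_eq_one_iff_unique.1 h4).2
    exact ⟨q, fun σ hσ => congrArg Subtype.val
      (Subsingleton.elim (⟨σ q, fun h => q.2 ((hOinv ⟨σ, hσ⟩ q).2 h)⟩ : (Oᶜ : Set (Fin 5))) q)⟩
  exfalso
  have hpos : 0 < Nat.card O := Nat.card_pos_iff.2 ⟨⟨⟨0, hO0⟩⟩, inferInstance⟩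
  have hne5 : Nat.card O ≠ 5 := fun h => by rw [h] at hdvd; norm_num at hdvd
  rcases (show Nat.card O = 2 ∧ Nat.card (Oᶜ : Set (Fin 5)) = 3 ∨
      Nat.card O = 3 ∧ Nat.card (Oᶜ : Set (Fin 5)) = 2 by omega) with ⟨a, b⟩ | ⟨a, b⟩ <;>
    · rw [a, b] at hle
      norm_num [Nat.factorial] at hle

end CfsgLib.AutL34
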