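import Cfsg.Agent.Lib.AutL34.Count
import Cfsg.Agent.Lib.AutL34.Kernel
import Cfsg.Agent.Lib.AutPSL.OutPSL
import Cfsg.Agent.S0813

/-!
The plane of the index four subgroup and the identification with the automorphism group of `PGL₃(4)`.
-/
set_option autoImplicit false
set_option linter.style.haveILetI false

namespace CfsgLib.AutL34

open Subgroup CfsgLib.Combin
open scoped Pointwise

universe u v

namespace Conf

open CfsgLib.CIT.FourRecog (Inc inc_swap inc_smul card_inc mem_conj card_conj conj_eq_self_iff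
  conj_congr quot_eq_of_conj commutator_mem)

variable {G : Type u} [Group G] [Finite G] {V A : Subgroup G}

theorem faithful (h : Conf V A) {g : G} (hg : ∀ p : G ⧸ normalizer (V : Set G), g • p = p) : g = 1 := by
  haveI : Fact (Nat.Prime 2) := ⟨Nat.prime_two⟩
  set ρ := MulAction.toPermHom G (G ⧸ normalizer (V : Set G))
  set K : Subgroup G := ρ.ker
  have hgK : g ∈ K := MonoidHom.mem_ker.2 (Equiv.ext hg)
  have hKN : ∀ (x : G), x ∈ K → ∀ c : G, x ∈ normalizer ((MulAut.conj c • V : Subgroup G) : Set G) := by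
    intro x hx c
    refine (CfsgLib.CIT.FourCount.fix_iff V c x).1 ?_
    exact Equiv.congr_fun (MonoidHom.mem_ker.1 hx) (c : G ⧸ normalizer (V : Set G))
  have hbot : K ⊓ V = ⊥ := by
    by_contra hne
    obtain ⟨⟨t, ht⟩, ht1⟩ := ne_bot_iff_exists_ne_one.1 hne
    have ht1' : t ≠ 1 := fun e => ht1 (Subtype.ext e)
    have hVK : V ≤ K := fun x hx => by
      rcases eq_or_ne x 1 with rfl | hx1
      · exact one_mem _
      obtain ⟨n, -, rfl⟩ := h.transV t ht.2 ht1' x hx hx1
      exact (inferInstance : K.Normal).conj_mem _ ht.1 _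
    have hall : ∀ c : G, MulAut.conj c • V = V := by
      intro c
      have hle : MulAut.conj c • V ≤ normalizer (V : Set G) := fun x hx => by
        have hxK : x ∈ K := by
          have := (inferInstance : K.Normal).conj_mem _ (hVK (mem_conj.1 hx)) c
          simpa [mul_assoc] using this
        have := hKN x hxK 1
        rwa [map_one, one_smul] at this
      have hp : ∀ d : G, IsPGroup 2 ↥(MulAut.conj d • V) := fun d =>
        IsPGroup.of_card (n := 4) (by rw [card_conj, h.card_V]; norm_num)
      have hQ : IsPGroup 2 ↥(MulAut.conj c • V ⊔ MulAut.conj (1 : G) • V) :=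
        (hp c).to_sup_of_normal_right' (hp 1) (by rwa [map_one, one_smul])
      have := conj_unique h hQ le_sup_left le_sup_right
      rwa [map_one, one_smul] at this
    have htop : normalizer (V : Set G) = ⊤ := eq_top_iff.2 fun c _ => conj_eq_self_iff.1 (hall c)
    have := (card_eq h).2
    rw [htop, Subgroup.index_top] at this
    omega
  have hC : K ≤ centralizer (V : Set G) := by
    intro x hx
    rw [mem_centralizer_iff]
    intro v hv
    have hxN := hKN x hx 1
    rw [map_one, one_smul] at hxN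
    have h1 : x * v * x⁻¹ * v⁻¹ ∈ K ⊓ V := by
      refine ⟨?_, commutator_mem hv hxN⟩
      have := mul_mem hx ((inferInstance : K.Normal).conj_mem _ (inv_mem hx) v)
      simpa [mul_assoc] using this
    rw [hbot, mem_bot] at h1
    calc v * x = (x * v * x⁻¹ * v⁻¹) * (v * x) := by rw [h1, one_mul]
      _ = x * v := by group
  have : g ∈ K ⊓ V := ⟨hgK, h.centV ▸ hC hgK⟩
  rwa [hbot, mem_bot] at this

/-- The points on a line. -/
noncomputable def block (h : Conf V A) [Fintype (G ⧸ normalizer (V : Set G))]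
    (l : G ⧸ normalizer (A : Set G)) : Finset (G ⧸ normalizer (V : Set G)) :=
  haveI := Classical.decPred fun p : G ⧸ normalizer (V : Set G) => Inc p l
  have _ := h
  Finset.univ.filter fun p => Inc p l

theorem mem_block (h : Conf V A) [Fintype (G ⧸ normalizer (V : Set G))]
    {l : G ⧸ normalizer (A : Set G)} {p : G ⧸ normalizer (V : Set G)} :
    p ∈ block h l ↔ Inc p l := by
  simp [block]

theorem steiner (h : Conf V A)
    [Fintype (G ⧸ normalizer (V : Set G))] [DecidableEq (G ⧸ normalizer (V : Set G))] :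
    PlaneFour.IsPlane (Set.range (block h)) := by
  classical
  haveI : Fintype (G ⧸ normalizer (A : Set G)) := Fintype.ofFinite _
  have hN : Fintype.card (G ⧸ normalizer (V : Set G)) = 21 := by
    rw [← Nat.card_eq_fintype_card, ← Subgroup.index_eq_card, (card_eq h).2]
  set k := ((normalizer (A : Set G)).subgroupOf (normalizer (V : Set G))).index
  set k' := ((normalizer (V : Set G)).subgroupOf (normalizer (A : Set G))).index
  have hk : k = 5 := h.linesV
  have hk' : k' = 5 := h.linesA
  have hblock : ∀ l, (block h l).card = k' := by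
    intro l
    induction l using QuotientGroup.induction_on with | _ a =>
    rw [← Nat.card_eq_finsetCard]
    refine Eq.trans (Nat.card_congr (Equiv.subtypeEquivRight fun p => ?_))
      (card_inc (normalizer (A : Set G)) (normalizer (V : Set G)) a)
    rw [mem_block, inc_swap]
  have hlines : ∀ p : G ⧸ normalizer (V : Set G),
      (Finset.univ.filter fun l : G ⧸ normalizer (A : Set G) => Inc p l).card = k := by
    intro p
    induction p using QuotientGroup.induction_on with | _ a =>
    rw [← Nat.card_eq_finsetCard]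
    refine Eq.trans (Nat.card_congr (Equiv.subtypeEquivRight fun l => ?_))
      (card_inc (normalizer (V : Set G)) (normalizer (A : Set G)) a)
    simp
  have hjoin : ∀ p : G ⧸ normalizer (V : Set G),
      ((Finset.univ.filter fun l : G ⧸ normalizer (A : Set G) => Inc p l).biUnion fun l => (block h l).erase p).card =
        k * (k' - 1) := by
    intro p
    rw [Finset.card_biUnion]
    · rw [Finset.sum_congr rfl (fun l hl => by
        rw [Finset.card_erase_of_mem ((mem_block h).2 (Finset.mem_filter.1 hl).2), hblock]),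
        Finset.sum_const, hlines, smul_eq_mul]
    · intro l hl l' hl' hne
      rw [Function.onFun, Finset.disjoint_left]
      intro q hq hq'
      rw [Finset.mem_erase, mem_block] at hq hq'
      exact hne (inc_unique h hq.1.symm (Finset.mem_filter.1 hl).2 (Finset.mem_filter.1 hl').2
        hq.2 hq'.2)
  have hsubset : ∀ p : G ⧸ normalizer (V : Set G),
      ((Finset.univ.filter fun l : G ⧸ normalizer (A : Set G) => Inc p l).biUnion fun l => (block h l).erase p) ⊆
        Finset.univ.erase p := by
    intro p q hq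
    obtain ⟨l, -, hl⟩ := Finset.mem_biUnion.1 hq
    exact Finset.mem_erase.2 ⟨(Finset.mem_erase.1 hl).1, Finset.mem_univ _⟩
  refine ⟨hN, ⟨?_, fun s hs => ?_⟩⟩
  · rintro _ ⟨l, rfl⟩
    rw [hblock, hk']
  obtain ⟨p, q, hpq, rfl⟩ := Finset.card_eq_two.1 hs
  have hex : q ∈ (Finset.univ.filter fun l : G ⧸ normalizer (A : Set G) => Inc p l).biUnion fun l => (block h l).erase p := by
    rw [Finset.eq_of_subset_of_card_le (hsubset p) (by
      rw [hjoin, Finset.card_erase_of_mem (Finset.mem_univ _), Finset.card_univ, hN, hk, hk'])]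
    exact Finset.mem_erase.2 ⟨hpq.symm, Finset.mem_univ _⟩
  obtain ⟨l, hl, hql⟩ := Finset.mem_biUnion.1 hex
  refine ⟨block h l, ⟨⟨l, rfl⟩, ?_⟩, ?_⟩
  · rw [Finset.insert_subset_iff, Finset.singleton_subset_iff, mem_block]
    exact ⟨(Finset.mem_filter.1 hl).2, (Finset.mem_erase.1 hql).2⟩
  rintro _ ⟨⟨l', rfl⟩, hl'⟩
  rw [Finset.insert_subset_iff, Finset.singleton_subset_iff, mem_block, mem_block] at hl'
  rw [inc_unique h hpq hl'.1 (Finset.mem_filter.1 hl).2 hl'.2
    ((mem_block h).1 (Finset.mem_erase.1 hql).2)]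

theorem smul_block (h : Conf V A) [Fintype (G ⧸ normalizer (V : Set G))]
    [DecidableEq (G ⧸ normalizer (V : Set G))] (g : G) (l : G ⧸ normalizer (A : Set G)) :
    (block h l).image (fun p => g • p) = block h (g • l) := by
  ext p
  simp only [Finset.mem_image, mem_block]
  constructor
  · rintro ⟨q, hq, rfl⟩
    exact inc_smul g hq
  · intro hp
    exact ⟨g⁻¹ • p, by simpa using inc_smul g⁻¹ hp, smul_inv_smul g p⟩

theorem smul_range (h : Conf V A) [Fintype (G ⧸ normalizer (V : Set G))]
    [DecidableEq (G ⧸ normalizer (V : Set G))] (g : G) :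
    MulAction.toPermHom G (G ⧸ normalizer (V : Set G)) g ∈
      Cfsg.setSystemAut (Set.range (block h)) := by
  rw [MulAction.mem_stabilizer_iff, Set.smul_set_range]
  have : (fun l => MulAction.toPermHom G (G ⧸ normalizer (V : Set G)) g • block h l) =
      block h ∘ (fun l => g • l) := by
    funext l
    rw [Function.comp_apply, ← smul_block h g l, Finset.smul_finset_def]
    rfl
  rw [this, (MulAction.surjective g).range_comp]


/-- A group with the configuration has a normal subgroup `PSL₃(4)` of index three. -/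
theorem exists_psl (h : Conf V A) (F : Type) [Field F] [Fintype F] (hF : Fintype.card F = 4) :
    ∃ j : Matrix.ProjectiveSpecialLinearGroup (Fin 3) F →* G,
      Function.Injective j ∧ j.range.Normal ∧ j.range.index = 3 := by
  classical
  letI : Fintype (G ⧸ normalizer (V : Set G)) := Fintype.ofFinite _
  have hP := steiner h
  let f : G →* Cfsg.setSystemAut (Set.range (block h)) :=
    (MulAction.toPermHom G (G ⧸ normalizer (V : Set G))).codRestrict _ (smul_range h)
  have hf : Function.Injective f := by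
    refine (MonoidHom.ker_eq_bot_iff f).1 ((Subgroup.eq_bot_iff_forall _).2 fun g hg => ?_)
    exact faithful h fun p => Equiv.congr_fun (congrArg Subtype.val (MonoidHom.mem_ker.1 hg)) p
  haveI : IsSimpleGroup (Matrix.ProjectiveSpecialLinearGroup (Fin 3) F) :=
    Cfsg.Agent.Classical.psl_isSimpleGroup (by simp)
  obtain ⟨g, hg⟩ := CfsgLib.CIT.FourRecog.exists_psl_hom hP F hF
  have hcK := CfsgLib.CIT.FourRecog.card_psl_three_four F hF
  have hcG := (card_eq h).1
  have hle : g.range ≤ f.range := by
    rintro _ ⟨x, rfl⟩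
    have hidx : f.range.index ≤ 2 := by
      have h1 := f.range.card_mul_index
      have h2 := CfsgLib.CIT.FourRecog.card_aut_le hP
      rw [← Nat.card_congr (MonoidHom.ofInjective hf).toEquiv, hcG] at h1
      omega
    have hsmall : Nat.card (Equiv.Perm (Cfsg.setSystemAut (Set.range (block h)) ⧸ f.range)) <
        Nat.card (Matrix.ProjectiveSpecialLinearGroup (Fin 3) F) := by
      rw [hcK, Nat.card_perm, ← Subgroup.index_eq_card]
      exact lt_of_le_of_lt (Nat.factorial_le hidx) (by norm_num)
    have h1 := CfsgLib.CIT.FourRecog.hom_eq_one_of_card_lt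
      ((MulAction.toPermHom _ (Cfsg.setSystemAut (Set.range (block h)) ⧸ f.range)).comp g) hsmall x
    have h2 := Equiv.congr_fun h1 ((1 : Cfsg.setSystemAut (Set.range (block h))) :
      Cfsg.setSystemAut (Set.range (block h)) ⧸ f.range)
    simp only [MonoidHom.coe_comp, Function.comp_apply, MulAction.toPermHom_apply,
      MulAction.toPerm_apply, MulAction.Quotient.smul_coe, smul_eq_mul, mul_one,
      Equiv.Perm.one_apply] at h2
    simpa using QuotientGroup.eq.1 h2.symm
  let j : Matrix.ProjectiveSpecialLinearGroup (Fin 3) F →* G :=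
    (MonoidHom.ofInjective hf).symm.toMonoidHom.comp
      ((Subgroup.inclusion hle).comp g.rangeRestrict)
  have hj : Function.Injective j := (MonoidHom.ofInjective hf).symm.injective.comp
    ((Subgroup.inclusion_injective hle).comp fun a b e => hg (congrArg Subtype.val e))
  have hidx : j.range.index = 3 := by
    have h1 := j.range.card_mul_index
    rw [← Nat.card_congr (MonoidHom.ofInjective hj).toEquiv, hcK, hcG] at h1
    omega
  refine ⟨j, hj, ?_, hidx⟩
  let ρ : G →* Equiv.Perm (G ⧸ j.range) := MulAction.toPermHom _ _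
  have hker : ρ.ker = j.range := by
    refine le_antisymm (fun x hx => ?_) ?_
    · have h2 : ((x * 1 : G) : G ⧸ j.range) = ((1 : G) : G ⧸ j.range) :=
        Equiv.congr_fun (MonoidHom.mem_ker.1 hx) ((1 : G) : G ⧸ j.range)
      rw [mul_one] at h2
      simpa using inv_mem (QuotientGroup.eq.1 h2.symm)
    · rintro _ ⟨x, rfl⟩
      exact CfsgLib.CIT.FourRecog.hom_eq_one_of_card_lt (ρ.comp j)
        (by rw [Nat.card_perm, ← Subgroup.index_eq_card, hidx, hcK]; decide) x
  rw [← hker]
  infer_instance

end Conf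

/-- The automorphism group of a normal subgroup of `MulAut S` containing the inner automorphisms as a
characteristic subgroup. -/
theorem nonempty_mulAut_equiv {S : Type v} [Group S] (hZ : Subgroup.center S = ⊥)
    (P : Subgroup (MulAut S)) [hPn : P.Normal] (hI : ∀ s, MulAut.conj s ∈ P)
    (hchar : ∀ (γ : MulAut P) (s : S), ∃ s', (γ ⟨MulAut.conj s, hI s⟩ : MulAut S) = MulAut.conj s') :
    Nonempty (MulAut S ≃* MulAut P) := by
  have hinj : Function.Injective (MulAut.conj : S →* MulAut S) := by
    rw [← MonoidHom.ker_eq_bot_iff, eq_bot_iff, ← hZ]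
    intro s hs
    refine Subgroup.mem_center_iff.2 fun x => ?_
    have := DFunLike.congr_fun (MonoidHom.mem_ker.1 hs) x
    rw [MulAut.conj_apply, MulAut.one_apply, mul_inv_eq_iff_eq_mul] at this
    exact this.symm
  have hnat : ∀ (β : MulAut S) (s : S), β * MulAut.conj s * β⁻¹ = MulAut.conj (β s) := fun β s => by
    ext x
    simp [MulAut.mul_apply]
  have hcent : ∀ β : MulAut S, (∀ s, β * MulAut.conj s * β⁻¹ = MulAut.conj s) → β = 1 := fun β hβ => by
    ext s
    exact hinj ((hnat β s).symm.trans (hβ s))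
  let Φ : MulAut S →* MulAut P := MulAut.conjNormal
  refine ⟨MulEquiv.ofBijective Φ ⟨?_, fun γ => ?_⟩⟩
  · rw [← MonoidHom.ker_eq_bot_iff, eq_bot_iff]
    intro β hβ
    refine Subgroup.mem_bot.2 (hcent β fun s => ?_)
    have := congrArg Subtype.val (DFunLike.congr_fun (MonoidHom.mem_ker.1 hβ) ⟨MulAut.conj s, hI s⟩)
    rwa [MulAut.conjNormal_apply] at this
  · choose b hb using hchar γ
    choose b' hb' using hchar γ.symm
    have hleft : ∀ (δ : MulAut P) (f f' : S → S)
        (_ : ∀ s, (δ ⟨MulAut.conj s, hI s⟩ : MulAut S) = MulAut.conj (f s))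
        (_ : ∀ s, (δ.symm ⟨MulAut.conj s, hI s⟩ : MulAut S) = MulAut.conj (f' s)), ∀ s, f' (f s) = s := by
      intro δ f f' hf hf' s
      apply hinj
      rw [← hf', show (⟨MulAut.conj (f s), hI (f s)⟩ : P) = δ ⟨MulAut.conj s, hI s⟩ from Subtype.ext (hf s).symm,
        MulEquiv.symm_apply_apply]
    let β : MulAut S :=
      { toFun := b
        invFun := b'
        left_inv := hleft γ b b' hb hb'
        right_inv := hleft γ.symm b' b hb' (by simpa using hb)
        map_mul' := fun s t => hinj (by
          rw [map_mul MulAut.conj, ← hb, ← hb, ← hb,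
            show (⟨MulAut.conj (s * t), hI _⟩ : P) = ⟨MulAut.conj s, hI s⟩ * ⟨MulAut.conj t, hI t⟩ from
              Subtype.ext (map_mul _ _ _), map_mul, Subgroup.coe_mul]) }
    refine ⟨β, MulEquiv.ext fun x => Subtype.ext ?_⟩
    rw [MulAut.conjNormal_apply]
    have key : ∀ s, ((γ x : MulAut S))⁻¹ * (β * (x : MulAut S) * β⁻¹) * MulAut.conj s *
        (((γ x : MulAut S))⁻¹ * (β * (x : MulAut S) * β⁻¹))⁻¹ = MulAut.conj s := by
      intro s
      have h1 : ∀ t, MulAut.conj (β t) = (γ ⟨MulAut.conj t, hI t⟩ : MulAut S) := fun t => (hb t).symm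
      obtain ⟨t, rfl⟩ := β.surjective s
      have e1 : β * (x : MulAut S) * β⁻¹ * MulAut.conj (β t) * (β * (x : MulAut S) * β⁻¹)⁻¹ =
          MulAut.conj (β ((x : MulAut S) t)) := by
        rw [← hnat β t, ← hnat β ((x : MulAut S) t), ← hnat (x : MulAut S) t]
        group
      have e2 : (γ x : MulAut S) * MulAut.conj (β t) * (γ x : MulAut S)⁻¹ =
          MulAut.conj (β ((x : MulAut S) t)) := by
        rw [h1, h1, ← Subgroup.coe_inv, ← Subgroup.coe_mul, ← Subgroup.coe_mul, ← map_inv, ← map_mul,
          ← map_mul]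
        congr 2
        exact Subtype.ext (hnat _ _)
      calc ((γ x : MulAut S))⁻¹ * (β * (x : MulAut S) * β⁻¹) * MulAut.conj (β t) *
            (((γ x : MulAut S))⁻¹ * (β * (x : MulAut S) * β⁻¹))⁻¹
          = (γ x : MulAut S)⁻¹ * (β * (x : MulAut S) * β⁻¹ * MulAut.conj (β t) *
              (β * (x : MulAut S) * β⁻¹)⁻¹) * (γ x : MulAut S) := by group
        _ = (γ x : MulAut S)⁻¹ * ((γ x : MulAut S) * MulAut.conj (β t) * (γ x : MulAut S)⁻¹) *
              (γ x : MulAut S) := by rw [e1, e2]
        _ = MulAut.conj (β t) := by group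
    have := hcent _ key
    rw [inv_mul_eq_one] at this
    exact this.symm

theorem card_psl_three {F : Type v} [Field F] [Fintype F] (hF : Fintype.card F = 4) :
    Nat.card (Matrix.ProjectiveSpecialLinearGroup (Fin 3) F) = 20160 := by
  have := Cfsg.Agent.Classical.card_psl_mul (F := F) 3 (by norm_num)
  rw [hF, Fin.prod_univ_three] at this
  norm_num at this
  omega

theorem card_pgl_three {F : Type v} [Field F] [Fintype F] (hF : Fintype.card F = 4) :
    Nat.card (Matrix.ProjGenLinGroup (Fin 3) F) = 60480 := by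
  rw [Cfsg.Agent.Classical.card_pgl_eq_card_sl]
  have := Cfsg.Agent.Classical.card_sl_mul (F := F) 3 (by norm_num)
  rw [hF, Fin.prod_univ_three] at this
  norm_num at this
  omega

theorem center_psl_eq_bot {F : Type v} [Field F] [Fintype F] (hF : Fintype.card F = 4) :
    Subgroup.center (Matrix.ProjectiveSpecialLinearGroup (Fin 3) F) = ⊥ := by
  haveI : IsSimpleGroup (Matrix.ProjectiveSpecialLinearGroup (Fin 3) F) :=
    Cfsg.Agent.Classical.psl_isSimpleGroup (by simp)
  refine (inferInstance : (Subgroup.center (Matrix.ProjectiveSpecialLinearGroup (Fin 3) F)).Normal).eq_bot_or_eq_top.resolve_right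
    fun htop => ?_
  haveI : IsMulCommutative (Matrix.ProjectiveSpecialLinearGroup (Fin 3) F) :=
    ⟨⟨fun a b => (Subgroup.mem_center_iff.1 (htop ▸ mem_top a : a ∈ Subgroup.center _) b).symm⟩⟩
  letI : CommGroup (Matrix.ProjectiveSpecialLinearGroup (Fin 3) F) :=
    { (inferInstance : Group (Matrix.ProjectiveSpecialLinearGroup (Fin 3) F)) with
      mul_comm := fun a b => (Subgroup.mem_center_iff.1 (htop ▸ mem_top a : a ∈ Subgroup.center _) b).symm }
  have := IsSimpleGroup.prime_card (α := Matrix.ProjectiveSpecialLinearGroup (Fin 3) F)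
  rw [card_psl_three hF] at this
  norm_num at this

theorem nonempty_mulAut_pgl {F : Type v} [Field F] [Fintype F] (hF : Fintype.card F = 4) :
    Nonempty (MulAut (Matrix.ProjectiveSpecialLinearGroup (Fin 3) F) ≃*
      MulAut (GL (Fin 3) F ⧸ Subgroup.center (GL (Fin 3) F))) := by
  classical
  haveI : IsSimpleGroup (Matrix.ProjectiveSpecialLinearGroup (Fin 3) F) :=
    Cfsg.Agent.Classical.psl_isSimpleGroup (by simp)
  set c := (CfsgLib.AutPSL.conjAut : GL (Fin 3) F →* MulAut (CfsgLib.AutPSL.PSLG 3 F)) with hc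
  have hker : c.ker = Subgroup.center (GL (Fin 3) F) := by
    refine le_antisymm (fun g hg => ?_) fun g hg => Cfsg.Agent.S0813.conjAut_central hg
    exact (CfsgLib.AutPSL.eq_one_of_conj_field (by norm_num) (σ := 1)
      (by rw [map_one, mul_one]; exact hg)).1
  haveI : c.range.Normal := CfsgLib.AutPSL.conjAut_range_normal (by norm_num)
  have hI : ∀ s, MulAut.conj s ∈ c.range := fun s => CfsgLib.AutPSL.inn_le_range ⟨s, rfl⟩
  let eP : (GL (Fin 3) F ⧸ Subgroup.center (GL (Fin 3) F)) ≃* c.range :=
    (QuotientGroup.quotientMulEquivOfEq hker.symm).trans (QuotientGroup.quotientKerEquivRange c)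
  set In := (MulAut.conj : Matrix.ProjectiveSpecialLinearGroup (Fin 3) F →* _).range.subgroupOf c.range
    with hIn
  haveI : In.Normal := by
    haveI : (MulAut.conj : Matrix.ProjectiveSpecialLinearGroup (Fin 3) F →* _).range.Normal :=
      ⟨by rintro _ ⟨s, rfl⟩ β; exact ⟨β s, by ext x; simp [MulAut.mul_apply]⟩⟩
    exact Subgroup.Normal.subgroupOf inferInstance _
  haveI : Finite c.range := Finite.of_equiv _ eP.toEquiv
  have hIdx : In.index ≤ 3 := by
    have h1 := In.card_mul_index
    have h2 : Nat.card In = 20160 := by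
      rw [hIn, Nat.card_congr (subgroupOfEquivOfLe (by rintro _ ⟨s, rfl⟩; exact hI s)).toEquiv,
        ← Nat.card_congr (MonoidHom.ofInjective _).toEquiv, card_psl_three hF]
      rw [← MonoidHom.ker_eq_bot_iff, eq_bot_iff, ← center_psl_eq_bot hF]
      intro s hs
      refine Subgroup.mem_center_iff.2 fun x => ?_
      have := DFunLike.congr_fun (MonoidHom.mem_ker.1 hs) x
      rw [MulAut.conj_apply, MulAut.one_apply, mul_inv_eq_iff_eq_mul] at this
      exact this.symm
    rw [h2, ← Nat.card_congr eP.toEquiv] at h1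
    have h3 : Nat.card (GL (Fin 3) F ⧸ Subgroup.center (GL (Fin 3) F)) = 60480 := card_pgl_three hF
    rw [h3] at h1
    omega
  have hchar : ∀ (γ : MulAut c.range) (s), ∃ s',
      (γ ⟨MulAut.conj s, hI s⟩ : MulAut (Matrix.ProjectiveSpecialLinearGroup (Fin 3) F)) = MulAut.conj s' := by
    intro γ s
    let φ : Matrix.ProjectiveSpecialLinearGroup (Fin 3) F →* c.range ⧸ In :=
      (QuotientGroup.mk' In).comp (γ.toMonoidHom.comp
        ((MulAut.conj : Matrix.ProjectiveSpecialLinearGroup (Fin 3) F →* _).codRestrict c.range hI))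
    have h1 := CfsgLib.CIT.FourRecog.hom_eq_one_of_card_lt φ
      (by rw [card_psl_three hF, ← Subgroup.index_eq_card]; omega) s
    obtain ⟨s', hs'⟩ := mem_subgroupOf.1 ((QuotientGroup.eq_one_iff _).1 h1)
    exact ⟨s', hs'.symm⟩
  obtain ⟨e⟩ := nonempty_mulAut_equiv (center_psl_eq_bot hF) c.range hI hchar
  exact ⟨e.trans (MulAut.congr eP.symm)⟩

/-- `PGL₃` over isomorphic fields. -/
theorem nonempty_pgl_congr {F : Type v} {F' : Type u} [Field F] [Field F'] (σ : F ≃+* F') :
    Nonempty ((GL (Fin 3) F ⧸ Subgroup.center (GL (Fin 3) F)) ≃*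
      (GL (Fin 3) F' ⧸ Subgroup.center (GL (Fin 3) F'))) := by
  let e : GL (Fin 3) F ≃* GL (Fin 3) F' := Units.mapEquiv σ.mapMatrix.toMulEquiv
  refine ⟨QuotientGroup.congr _ _ e ?_⟩
  ext x
  constructor
  · rintro ⟨y, hy, rfl⟩
    refine Subgroup.mem_center_iff.2 fun w => ?_
    obtain ⟨w', rfl⟩ := e.surjective w
    show e w' * e y = e y * e w'
    rw [← map_mul, ← map_mul, Subgroup.mem_center_iff.1 hy w']
  · intro hx
    refine ⟨e.symm x, Subgroup.mem_center_iff.2 fun w => e.injective ?_, e.apply_symm_apply x⟩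
    rw [map_mul, map_mul, e.apply_symm_apply]
    exact Subgroup.mem_center_iff.1 hx _

namespace Frame

variable {G : Type u} [Group G] [Finite G] {z : G} (F₀ : Frame G z)

include F₀ in
/-- The big case. -/
theorem nonempty_equiv_of_bigCase (hB : F₀.BigCase) {F : Type v} [Field F] [Fintype F]
    (hF : Fintype.card F = 4) :
    Nonempty (G ≃* MulAut (GL (Fin 3) F ⧸ Subgroup.center (GL (Fin 3) F))) := by
  classical
  haveI : Fact (Nat.Prime 2) := ⟨Nat.prime_two⟩
  obtain ⟨χ, hs, hχ⟩ := F₀.exists_indexFour hB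
  have hb := F₀.big_beta hB
  have hC := F₀.exists_conf hB χ hχ hs hb
  let K := GaloisField 2 2
  letI : Fintype K := Fintype.ofFinite K
  have hK : Fintype.card K = 4 := by
    rw [← Nat.card_eq_fintype_card, GaloisField.card 2 2 (by norm_num)]; norm_num
  haveI : IsSimpleGroup (Matrix.ProjectiveSpecialLinearGroup (Fin 3) K) :=
    Cfsg.Agent.Classical.psl_isSimpleGroup (by simp)
  obtain ⟨j, hj, hjn, hidx⟩ := Conf.exists_psl hC K hK
  have hcH := (Conf.card_eq hC).1
  have hcS := card_psl_three hK
  set G₀ : Subgroup G := j.range.map χ.ker.subtype with hG₀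
  -- normal in the whole group
  have hG₀n : G₀.Normal := by
    refine ⟨?_⟩
    rintro _ ⟨w, ⟨s, rfl⟩, rfl⟩ g
    let φ : Matrix.ProjectiveSpecialLinearGroup (Fin 3) K →* χ.ker ⧸ j.range :=
      (QuotientGroup.mk' j.range).comp ((MulAut.conjNormal g : MulAut χ.ker).toMonoidHom.comp j)
    have h1 := CfsgLib.CIT.FourRecog.hom_eq_one_of_card_lt φ
      (by rw [← Subgroup.index_eq_card, hidx, hcS]; norm_num) s
    exact ⟨MulAut.conjNormal g (j s), (QuotientGroup.eq_one_iff _).1 h1, MulAut.conjNormal_apply g (j s)⟩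
  have hz0 : z ∈ G₀ := by
    have hzk : z ∈ χ.ker :=
      ((F₀.ker_inf_centralizer χ hχ).ge (F₀.A1_le_ker192 hb (F₀.z_mem_A1 hb))).1
    refine ⟨⟨z, hzk⟩, ?_, rfl⟩
    have h3 := orderOf_map_dvd (QuotientGroup.mk' j.range) (⟨z, hzk⟩ : χ.ker)
    have h3' := orderOf_dvd_natCard (QuotientGroup.mk' j.range (⟨z, hzk⟩ : χ.ker))
    rw [← Subgroup.orderOf_coe, F₀.orderOf_z] at h3
    rw [← Subgroup.index_eq_card, hidx] at h3'
    exact (QuotientGroup.eq_one_iff _).1 (orderOf_eq_one_iff.1 (Nat.dvd_one.1 (Nat.dvd_gcd h3 h3')))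
  have hc0 : Nat.card G₀ = 20160 := by
    rw [hG₀, Nat.card_congr (j.range.equivMapOfInjective _ χ.ker.subtype_injective).symm.toEquiv,
      ← Nat.card_congr (MonoidHom.ofInjective hj).toEquiv, hcS]
  -- faithful on it
  have hCG : centralizer (G₀ : Set G) = ⊥ := by
    haveI := hG₀n
    refine (Subgroup.eq_bot_iff_forall _).2 fun x hx => ?_
    by_contra hx1
    have hzC := F₀.z_mem_of_normal (N := centralizer (G₀ : Set G)) hx
      (mem_centralizer_iff.1 hx z hz0).symm hx1
    have hle : G₀ ≤ F₀.ker192 := fun y hy => by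
      refine (F₀.ker_inf_centralizer χ hχ).le ⟨?_, mem_centralizer_singleton_iff.2
        (mem_centralizer_iff.1 hzC y hy)⟩
      obtain ⟨w, -, rfl⟩ := hy
      exact w.2
    have := Subgroup.card_le_of_le hle
    rw [hc0, F₀.card_ker192] at this
    omega
  haveI := hG₀n
  let e0 : G₀ ≃* Matrix.ProjectiveSpecialLinearGroup (Fin 3) K :=
    (j.range.equivMapOfInjective _ χ.ker.subtype_injective).symm.trans (MonoidHom.ofInjective hj).symm
  let ψ : G →* MulAut (Matrix.ProjectiveSpecialLinearGroup (Fin 3) K) :=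
    (MulAut.congr e0).toMonoidHom.comp MulAut.conjNormal
  have hψ : Function.Injective ψ := by
    refine (MulAut.congr e0).injective.comp ?_
    rw [← MonoidHom.ker_eq_bot_iff, eq_bot_iff, ← hCG]
    intro x hx
    refine mem_centralizer_iff.2 fun y hy => ?_
    have := congrArg Subtype.val (DFunLike.congr_fun (MonoidHom.mem_ker.1 hx) ⟨y, hy⟩)
    rw [MulAut.conjNormal_apply, MulAut.one_apply, mul_inv_eq_iff_eq_mul] at this
    exact this.symm
  have hcG : Nat.card G = 241920 := by
    rw [← χ.ker.card_mul_index, Subgroup.index_ker, MonoidHom.range_eq_top.2 hs, Subgroup.card_top, hcH]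
    simp
  have hcA : Nat.card (MulAut (Matrix.ProjectiveSpecialLinearGroup (Fin 3) K)) = 241920 := by
    rw [Cfsg.Agent.S0813.result 2 2 (by norm_num) (by rw [hK]; norm_num) 3 (by norm_num) (by simp),
      card_pgl_three hK]
    norm_num
  haveI : Finite (MulAut (Matrix.ProjectiveSpecialLinearGroup (Fin 3) K)) :=
    Nat.finite_of_card_ne_zero (by omega)
  let e1 : G ≃* MulAut (Matrix.ProjectiveSpecialLinearGroup (Fin 3) K) :=
    MulEquiv.ofBijective ψ (hψ.bijective_of_nat_card_le (by rw [hcG, hcA]))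
  obtain ⟨e2⟩ := nonempty_mulAut_pgl hK
  obtain ⟨σ⟩ : Nonempty (K ≃+* F) := ⟨FiniteField.ringEquivOfCardEq (by rw [hK, hF])⟩
  obtain ⟨e3⟩ := nonempty_pgl_congr σ
  exact ⟨e1.trans (e2.trans (MulAut.congr e3))⟩

end Frame

end CfsgLib.AutL34
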