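import Cfsg.Agent.Lib.AutL34.Core
import Mathlib.GroupTheory.Sylow
import Mathlib.GroupTheory.Nilpotent

/-!
The Sylow 2-subgroup.
-/
set_option autoImplicit false
set_option maxRecDepth 10000

namespace CfsgLib.AutL34

universe u

theorem inT_closed (α β : Bool) : ∀ g h, g < 768 → h < 768 → inT g = true → inT h = true →
    inT (mulC α β g h) = true := by
  intro g h hg hh pg ph
  have hpl := pMul_lt (p := g / 32) (q := h / 32) (by omega) (by omega)
  have hl := xor_lt (eMul_lt (Nat.mod_lt g (by omega : 0 < 32))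
    (act_lt (p := g / 32) (by omega) (Nat.mod_lt h (by omega : 0 < 32)))) (kk_lt α β (g / 32) (h / 32))
  have e : mulC α β g h / 32 = pMul (g / 32) (h / 32) := by unfold mulC; omega
  have hd : ∀ x, inT x = inT (32 * (x / 32)) := fun x => by
    unfold inT; rw [Nat.mul_div_cancel_left _ (by omega : 0 < 32)]
  rw [hd] at pg ph
  have h1 := allB_spec inT_mul (i := g / 32) (by omega)
  rw [pg, Bool.not_true, Bool.false_or] at h1
  have h2 := allB_spec h1 (i := h / 32) (by omega)
  rw [ph, Bool.not_true, Bool.false_or] at h2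
  rw [hd, e]
  exact h2

namespace Frame

variable {G : Type u} [Group G] [Finite G] {z : G} (F : Frame G z)

/-- a Sylow subgroup -/
def syl : Subgroup G := F.subOf inT (by decide) (inT_closed F.α F.β)

theorem card_syl : Nat.card F.syl = 256 := by
  rw [syl, F.card_subOf]; exact counts.2.2.1

theorem isPGroup_syl : IsPGroup 2 F.syl :=
  IsPGroup.of_card (n := 8) (by rw [F.card_syl]; norm_num)

theorem syl_le : ∀ x ∈ F.syl, x * z = z * x := by
  rintro _ ⟨g, -, -, rfl⟩
  exact F.el_comm g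

theorem syl_center {x : G} (hx : x ∈ F.syl) (hc : ∀ y ∈ F.syl, x * y = y * x) : x = 1 ∨ x = z := by
  obtain ⟨g, hg, pg, rfl⟩ := hx
  have h := allB_spec (sylow_check F.α F.β) hg
  simp only [Bool.or_eq_true, Bool.not_eq_true', beq_iff_eq] at h
  rcases h with ((h | h) | h) | h
  · rw [pg] at h; exact absurd h (by simp)
  · exact Or.inl (by rw [h, F.el_zero])
  · exact Or.inr (h ▸ F.el_sixteen)
  · obtain ⟨k, hk, h⟩ := anyB_spec h
    rw [Bool.and_eq_true, Bool.not_eq_true'] at h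
    rw [(F.commC_iff hg hk).2 (hc _ ⟨k, hk, h.1, rfl⟩)] at h
    exact absurd h.2 (by simp)

theorem eq_syl {P : Subgroup G} (hP : IsPGroup 2 P) (hle : F.syl ≤ P) : P = F.syl := by
  haveI : Fact (Nat.Prime 2) := ⟨Nat.prime_two⟩
  by_contra hne
  haveI : Group.IsNilpotent P := hP.isNilpotent
  have hlt : F.syl.subgroupOf P < ⊤ := lt_top_iff_ne_top.2 fun e =>
    hne (le_antisymm (Subgroup.subgroupOf_eq_top.1 e) hle)
  obtain ⟨⟨q, hqP⟩, hqN, hqT⟩ := SetLike.exists_of_lt ((normalizerCondition_of_isNilpotent (G := P)) _ hlt)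
  have hq : ∀ x ∈ F.syl, q * x * q⁻¹ ∈ F.syl := fun x hx =>
    (Subgroup.mem_normalizer_iff.1 hqN ⟨x, hle hx⟩).1 hx
  have hqinv : ∀ y ∈ F.syl, q⁻¹ * y * q ∈ F.syl := fun y hy => by
    have := (Subgroup.mem_normalizer_iff.1 (inv_mem hqN) ⟨y, hle hy⟩).1 hy
    simpa [Subgroup.mem_subgroupOf] using this
  have hz : z ∈ F.syl := ⟨16, by omega, by decide, F.el_sixteen⟩
  have hqz : q * z = z * q := by
    rcases F.syl_center (hq z hz) (fun y hy => by
      calc q * z * q⁻¹ * y = q * (z * (q⁻¹ * y * q)) * q⁻¹ := by group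
        _ = q * (q⁻¹ * y * q * z) * q⁻¹ := by rw [F.syl_le _ (hqinv y hy)]
        _ = y * (q * z * q⁻¹) := by group) with e | e
    · exact absurd (conj_eq_one_iff.1 e) F.z_ne
    · exact mul_inv_eq_iff_eq_mul.1 e
  let C := Subgroup.centralizer ({z} : Set G)
  have hS : F.syl ≤ P ⊓ C := le_inf hle fun x hx => Subgroup.mem_centralizer_singleton_iff.2 (F.syl_le x hx)
  have hcard : Nat.card ↥(P ⊓ C) ≤ 256 := by
    obtain ⟨n, hn⟩ := (hP.to_le (inf_le_left : P ⊓ C ≤ P)).exists_card_eq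
    have hd : 2 ^ n ∣ 768 := hn ▸ (by
      have := Subgroup.card_dvd_of_le (inf_le_right : P ⊓ C ≤ C)
      rwa [show Nat.card C = 768 from by
        rw [← Nat.card_fin 768]
        exact (Nat.card_eq_of_bijective (fun g : Fin 768 => (⟨F.el g,
          Subgroup.mem_centralizer_singleton_iff.2 (F.el_comm g)⟩ : C))
          ⟨fun g h e => Fin.ext (F.inj g.2 h.2 (congrArg Subtype.val e)), fun x => by
            obtain ⟨g, hg, e⟩ := F.surj (Subgroup.mem_centralizer_singleton_iff.1 x.2)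
            exact ⟨⟨g, hg⟩, Subtype.ext e⟩⟩).symm] at this)
    rw [hn]
    have h9 : n ≤ 8 := by
      by_contra hgt
      have : 2 ^ 9 ∣ 768 := (pow_dvd_pow 2 (by omega : 9 ≤ n)).trans hd
      norm_num at this
    exact le_trans (Nat.pow_le_pow_right (by omega) h9) (by norm_num)
  have he := Subgroup.eq_of_le_of_card_ge hS (by rw [F.card_syl]; exact hcard)
  exact hqT (he ▸ ⟨hqP, Subgroup.mem_centralizer_singleton_iff.2 hqz⟩ : q ∈ F.syl)

/-- the Sylow subgroup -/
noncomputable def sylow : Sylow 2 G :=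
  ⟨F.syl, F.isPGroup_syl, fun hQ hle => F.eq_syl hQ hle⟩

theorem odd_index : Odd F.syl.index := by
  haveI : Fact (Nat.Prime 2) := ⟨Nat.prime_two⟩
  rw [← Nat.not_even_iff_odd, even_iff_two_dvd]
  exact F.sylow.not_dvd_index

theorem exists_conj_mem_syl {x : G} (hx : x * x = 1) : ∃ g : G, g⁻¹ * x * g ∈ F.syl := by
  haveI : Fact (Nat.Prime 2) := ⟨Nat.prime_two⟩
  have hz : IsPGroup 2 (Subgroup.zpowers x) := by
    rcases eq_or_ne x 1 with e | e
    · exact IsPGroup.of_card (n := 0) (by rw [e, Subgroup.zpowers_one_eq_bot, Subgroup.card_bot, pow_zero])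
    · exact IsPGroup.of_card (n := 1)
        (by rw [Nat.card_zpowers, orderOf_eq_prime (by rw [pow_two, hx]) e, pow_one])
  obtain ⟨P, hP⟩ := hz.exists_le_sylow
  obtain ⟨g, hg⟩ := MulAction.exists_smul_eq G F.sylow P
  refine ⟨g, ?_⟩
  have := hP (Subgroup.mem_zpowers x)
  rw [← hg, Sylow.coe_subgroup_smul, Subgroup.mem_pointwise_smul_iff_inv_smul_mem, ← map_inv,
    MulAut.smul_def, MulAut.conj_apply, inv_inv] at this
  exact this

end Frame

end CfsgLib.AutL34
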