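import Cfsg.Agent.Lib.AutL34.Setting
import Cfsg.Agent.Lib.AutL34.Sylow
import Cfsg.Agent.Lib.StrongCrit.Closed
import Cfsg.Agent.Lib.BenderQ.Classify
import Cfsg.Agent.Lib.BenderQ.Bender
import Cfsg.Agent.Lib.RankOneRecog.Class
import Cfsg.Agent.Lib.ThreeFree.Exclude

/-!
The case that the conjugates of `z` in the centraliser form a four-group: the group is solvable.
-/
set_option autoImplicit false
set_option maxRecDepth 10000

namespace CfsgLib.AutL34

universe u

open MulAction CfsgLib.BenderTrans CfsgLib.BenderQ CfsgLib.Involutions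

theorem two_adic {a b o o' : ℕ} (ho : Odd o) (ho' : Odd o') (h : 2 ^ a * o = 2 ^ b * o') : a = b ∧ o = o' := by
  have hab : a = b := by
    rcases lt_trichotomy a b with hl | e | hl
    · obtain ⟨c, rfl⟩ := Nat.exists_eq_add_of_lt hl
      rw [add_assoc, pow_add, mul_assoc] at h
      have := Nat.eq_of_mul_eq_mul_left (pow_pos two_pos a) h
      rw [this, pow_succ, mul_right_comm] at ho
      exact absurd (Nat.odd_mul.1 ho).2 (by decide)
    · exact e
    · obtain ⟨c, rfl⟩ := Nat.exists_eq_add_of_lt hl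
      rw [add_assoc, pow_add, mul_assoc] at h
      have := Nat.eq_of_mul_eq_mul_left (pow_pos two_pos b) h
      rw [← this, pow_succ, mul_right_comm] at ho'
      exact absurd (Nat.odd_mul.1 ho').2 (by decide)
  subst hab
  exact ⟨rfl, Nat.eq_of_mul_eq_mul_left (pow_pos two_pos a) h⟩

theorem card_benderType {L : Type u} [Group L] [Finite L] (hL : IsBenderType L) {k i d : ℕ}
    (hd : d ∣ 9) (hi : Odd i) (hk : 1 ≤ k) (h : Nat.card L * i = 2 ^ k * ((2 ^ k + 1) * d)) : k = 2 := by
  have hdodd : Odd d := (by decide : Odd 9).of_dvd_nat hd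
  have hR : Odd ((2 ^ k + 1) * d) :=
    ((Nat.even_pow.2 ⟨even_two, by omega⟩).add_one).mul hdodd
  rcases hL with ⟨E, i1, i2, ⟨m, hm, hE⟩, ⟨f⟩⟩ | hsz | ⟨E, i1, i2, m, hm, hE, ⟨f⟩⟩
  · rw [Nat.card_congr f.toEquiv, CfsgLib.CITGraph.card_psl_two (by omega) hE] at h
    have h1 : 1 ≤ 2 ^ m := Nat.one_le_two_pow
    have e : 2 ^ (2 * m) - 1 = (2 ^ m + 1) * (2 ^ m - 1) := by
      rw [pow_mul', ← one_pow 2, Nat.sq_sub_sq, one_pow]
    have ho : Odd ((2 ^ (2 * m) - 1) * i) :=
      (Nat.Even.sub_odd Nat.one_le_two_pow (Nat.even_pow.2 ⟨even_two, by omega⟩) odd_one).mul hi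
    rw [mul_assoc] at h
    obtain ⟨rfl, h2⟩ := two_adic ho hR h
    rw [e, mul_assoc] at h2
    have h3 := Nat.eq_of_mul_eq_mul_left (by omega) h2
    have h4 : 2 ^ m - 1 ≤ 9 := Nat.le_of_dvd (by norm_num) ((Dvd.intro i h3).trans hd)
    have h5 : m ≤ 3 := by
      by_contra hc
      have : 2 ^ 4 ≤ 2 ^ m := Nat.pow_le_pow_right (by omega) (by omega)
      norm_num at this; omega
    have h6 : 2 ^ m - 1 ∣ 9 := (Dvd.intro i h3).trans hd
    interval_cases m
    · rfl
    · norm_num at h6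
  · exfalso
    obtain ⟨-, m, hm, hc⟩ := isSuzuki_of_isoSuzuki hsz
    rw [hc] at h
    set q := 2 ^ (2 * m + 1) with hq
    have hq8 : 8 ≤ q := le_trans (by norm_num : 8 ≤ 2 ^ 3) (Nat.pow_le_pow_right (by omega) (by omega))
    have he : Even q := Nat.even_pow.2 ⟨even_two, by omega⟩
    have ho : Odd ((q ^ 2 + 1) * (q - 1) * i) :=
      (((Nat.even_pow.2 ⟨he, two_ne_zero⟩).add_one).mul (Nat.Even.sub_odd (by omega) he odd_one)).mul hi
    have h' : 2 ^ ((2 * m + 1) * 2) * ((q ^ 2 + 1) * (q - 1) * i) = 2 ^ k * ((2 ^ k + 1) * d) := by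
      rw [← h, pow_mul, ← hq]; ring
    obtain ⟨rfl, h2⟩ := two_adic ho hR h'
    rw [pow_mul, ← hq, mul_assoc] at h2
    have h3 := Nat.eq_of_mul_eq_mul_left (by positivity) h2
    have h6 : q - 1 ∣ 9 := (Dvd.intro i h3).trans hd
    have h4 : q - 1 ≤ 9 := Nat.le_of_dvd (by norm_num) h6
    have : q = 8 ∨ q = 9 ∨ q = 10 := by omega
    rcases this with e | e | e
    · rw [e] at h6; norm_num at h6
    · rw [e] at he; exact absurd he (by decide)
    · rw [e] at hq
      have h7 : (2 : ℕ) ∣ 5 * 2 := dvd_mul_left 2 5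
      have h8 : 5 ∣ 2 ^ (2 * m + 1) := ⟨2, by omega⟩
      exact absurd (Nat.prime_five.dvd_of_dvd_pow h8) (by decide)
  · exfalso
    set q := 2 ^ m with hq
    have hq4 : 4 ≤ q := le_trans (by norm_num : 4 ≤ 2 ^ 2) (Nat.pow_le_pow_right (by omega) hm)
    have hc := CfsgLib.ClassicalGroups.card_GU hE 3
    rw [← CfsgLib.ClassicalGroups.card_SU_mul hE (show 1 ≤ 3 by norm_num),
      CfsgLib.ClassicalGroups.card_SU_eq_center_mul_PSU 3,
      CfsgLib.ClassicalGroups.card_center_SU hE (show 1 ≤ 3 by norm_num)] at hc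
    simp [Finset.prod_range_succ, parity_simps] at hc
    have hcard : Nat.card (Cfsg.PSU 3 E q) * Nat.gcd 3 (q + 1) = q ^ 3 * ((q ^ 2 - 1) * (q ^ 3 + 1)) := by
      refine Nat.eq_of_mul_eq_mul_right (show 0 < q + 1 by omega) ?_
      linear_combination hc
    rw [Nat.card_congr f.toEquiv, ← hq] at h
    have he : Even q := Nat.even_pow.2 ⟨even_two, by omega⟩
    have ho : Odd ((q ^ 2 - 1) * (q ^ 3 + 1) * i) :=
      ((Nat.Even.sub_odd (Nat.one_le_pow _ _ (by omega)) (Nat.even_pow.2 ⟨he, two_ne_zero⟩) odd_one).mul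
        (Nat.even_pow.2 ⟨he, by norm_num⟩).add_one).mul hi
    have hg : Nat.gcd 3 (q + 1) ∣ 3 := Nat.gcd_dvd_left _ _
    have hR' : Odd ((2 ^ k + 1) * (d * Nat.gcd 3 (q + 1))) := by
      rw [← mul_assoc]; exact hR.mul ((by decide : Odd 3).of_dvd_nat hg)
    have h' : 2 ^ (m * 3) * ((q ^ 2 - 1) * (q ^ 3 + 1) * i) =
        2 ^ k * ((2 ^ k + 1) * (d * Nat.gcd 3 (q + 1))) := by
      rw [pow_mul, ← hq, ← mul_assoc (2 ^ k), ← mul_assoc (q ^ 3), ← hcard]
      linear_combination (Nat.gcd 3 (q + 1)) * h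
    obtain ⟨rfl, h2⟩ := two_adic ho hR' h'
    rw [pow_mul, ← hq, mul_comm (q ^ 2 - 1), mul_assoc] at h2
    have h3 := Nat.eq_of_mul_eq_mul_left (by positivity) h2
    have h6 : q ^ 2 - 1 ∣ 27 := (Dvd.intro i h3).trans (Nat.mul_dvd_mul hd hg)
    have h4 : q ^ 2 - 1 ≤ 27 := Nat.le_of_dvd (by norm_num) h6
    have h5 : q ≤ 5 := by nlinarith [Nat.sub_add_cancel (Nat.one_le_pow 2 q (by omega))]
    interval_cases q <;> norm_num at h6

namespace Frame

variable {G : Type u} [Group G] [Finite G] {z : G} (F : Frame G z) (hS : F.SmallCase)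
include hS

theorem card_normalizer_dvd :
    Nat.card (Subgroup.normalizer (F.four : Set G)) ∣ 768 * 6 := by
  classical
  set N := Subgroup.normalizer (F.four : Set G)
  have hz : z ∈ F.four := ⟨16, by omega, by decide, F.el_sixteen⟩
  letI : MulAction N F.four :=
    { smul := fun g x => ⟨(g : G) * x * (g : G)⁻¹, (Subgroup.mem_normalizer_iff.1 g.2 _).1 x.2⟩
      one_smul := fun x => Subtype.ext (show (1 : G) * x * (1 : G)⁻¹ = x by group)
      mul_smul := fun g h x => Subtype.ext (show ((g : G) * h) * x * ((g : G) * h)⁻¹ =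
        (g : G) * ((h : G) * x * (h : G)⁻¹) * (g : G)⁻¹ by group) }
  set x₀ : F.four := ⟨z, hz⟩
  have horb : Nat.card (MulAction.orbit N x₀) ≤ 3 := by
    have hsub : MulAction.orbit N x₀ ⊆ {y | y ≠ (1 : F.four)} := by
      rintro _ ⟨g, rfl⟩ e
      exact F.z_ne (conj_eq_one_iff.1 (show (g : G) * z * (g : G)⁻¹ = 1 from congrArg Subtype.val e))
    refine le_trans (Nat.card_mono (Set.toFinite _) hsub) ?_
    have h4 := F.card_four
    haveI := Fintype.ofFinite F.four
    rw [Nat.card_eq_fintype_card] at h4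
    show Nat.card {y : F.four // y ≠ 1} ≤ 3
    rw [Nat.card_eq_fintype_card]
    rw [Fintype.card_subtype_compl, Fintype.card_subtype_eq, h4]
  have hstab : Nat.card (MulAction.stabilizer N x₀) = 768 := by
    rw [← F.card_centralizer]
    refine Nat.card_congr
      { toFun := fun g => ⟨(g : N), Subgroup.mem_centralizer_singleton_iff.2
          (mul_inv_eq_iff_eq_mul.1 (congrArg Subtype.val (MulAction.mem_stabilizer_iff.1 g.2)))⟩
        invFun := fun g => ⟨⟨g, F.centralizer_le_normalizer (Subgroup.mem_centralizer_singleton_iff.1 g.2)⟩,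
          MulAction.mem_stabilizer_iff.2 (Subtype.ext
            (mul_inv_eq_iff_eq_mul.2 (Subgroup.mem_centralizer_singleton_iff.1 g.2)))⟩
        left_inv := fun g => rfl
        right_inv := fun g => rfl }
  haveI := Fintype.ofFinite (MulAction.orbit N x₀)
  haveI := Fintype.ofFinite (MulAction.stabilizer N x₀)
  haveI := Fintype.ofFinite N
  have h := MulAction.card_orbit_mul_card_stabilizer_eq_card_group N x₀
  rw [← Nat.card_eq_fintype_card, ← Nat.card_eq_fintype_card, ← Nat.card_eq_fintype_card, hstab] at h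
  have hj : Nat.card (MulAction.orbit N x₀) ∣ 6 := by
    have h0 : 0 < Nat.card (MulAction.orbit N x₀) :=
      Nat.card_pos_iff.2 ⟨⟨⟨x₀, MulAction.mem_orbit_self _⟩⟩, inferInstance⟩
    generalize Nat.card (MulAction.orbit N x₀) = j at h0 horb
    interval_cases j <;> norm_num
  rw [← h, mul_comm]
  exact Nat.mul_dvd_mul_left _ hj

theorem small_false (hN : Subgroup.normalizer (F.four : Set G) ≠ ⊤) : False := by
  classical
  set N := Subgroup.normalizer (F.four : Set G) with hNdef
  set Z : Set G := {t | IsConj z t} with hZ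
  set K := Subgroup.closure Z with hK
  haveI hKn : K.Normal := by
    refine ⟨fun x hx g => ?_⟩
    have hle : K.map (MulAut.conj g).toMonoidHom ≤ K := by
      rw [hK, MonoidHom.map_closure, Subgroup.closure_le]
      rintro _ ⟨y, hy, rfl⟩
      exact Subgroup.subset_closure (hy.trans (isConj_iff.2 ⟨g, rfl⟩))
    exact hle ⟨x, hx, rfl⟩
  have hset := F.setting hS hN
  have hbad : ∀ w ∈ K, orderOf w = 2 → ∀ x y : G ⧸ N, w • x = x → w • y = y → x = y := by
    intro w hw h2 x y hx hy
    by_contra hne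
    exact CfsgLib.StrongCrit.notMem_closure_of_mul CfsgLib.StrongCrit.criterionMain G (G ⧸ N) Z hset
      (F.mulClosed hS) w ⟨h2, x, y, hne, hx, hy⟩ hw
  have hfix : ∀ w : G, orderOf w = 2 → ∃ x : G ⧸ N, w • x = x := fun w hw => by
    obtain ⟨g, hg⟩ := F.exists_conj_mem_syl (x := w) (mul_self_eq_one hw)
    exact ⟨(g : G ⧸ N), (F.smul_eq_iff hS _ g).2 (F.centralizer_le_normalizer (F.syl_le _ hg))⟩
  have hmem : ∀ t, IsConj z t → t ∈ K := fun t ht => Subgroup.subset_closure ht
  have hmemAt : ∀ x : G ⧸ N, ∃ t, IsConj z t ∧ t • x = x := fun x => by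
    induction x using QuotientGroup.induction_on with | _ g =>
    refine ⟨g * z * g⁻¹, isConj_iff.2 ⟨g, rfl⟩, (F.smul_eq_iff hS _ g).2 ?_⟩
    rw [show g⁻¹ * (g * z * g⁻¹) * g = z by group]
    exact F.centralizer_le_normalizer rfl
  have hone : OneFix K (G ⧸ N) := by
    refine ⟨fun x y => ?_, hset.nontriv, ⟨⟨z, hmem z (IsConj.refl z)⟩, by
      rw [Subgroup.orderOf_mk]; exact F.orderOf_z⟩, fun t ht => ?_, fun t ht x y hx hy => ?_⟩
    · by_cases hxy : x = y
      · exact ⟨1, by rw [one_smul]; exact hxy⟩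
      obtain ⟨s, hs, hsx⟩ := hmemAt x
      obtain ⟨t, ht, hty⟩ := hmemAt y
      have hs2 := hset.invol s hs
      have ht2 := hset.invol t ht
      have hodd : Odd (orderOf (s * t)) := by
        by_contra hev
        rw [Nat.not_odd_iff_even] at hev
        obtain ⟨hj, hjs, hjt⟩ := central_involution hs2 ht2 hev
        set j := (s * t) ^ (orderOf (s * t) / 2)
        have hjK : j ∈ K := pow_mem (mul_mem (hmem s hs) (hmem t ht)) _
        have h1 : j • x = x := hset.unique s hs _ _ (by rw [smul_smul, ← hjs.eq, mul_smul, hsx]) hsx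
        have h2 : j • y = y := hset.unique t ht _ _ (by rw [smul_smul, ← hjt.eq, mul_smul, hty]) hty
        exact hxy (hbad j hjK hj x y h1 h2)
      obtain ⟨d, hd, hdst⟩ := conj_of_odd_order hs2 ht2 hodd
      have hdK : d ∈ K := (Subgroup.closure_le K).2 (by
        rintro w (rfl | rfl)
        · exact hmem _ hs
        · exact hmem _ ht) hd
      refine ⟨⟨d, hdK⟩, hset.unique t ht _ _ ?_ hty⟩
      show t • d • x = d • x
      rw [smul_smul, ← hdst, show d * s * d⁻¹ * d = d * s by group, mul_smul, hsx]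
    · obtain ⟨x, hx⟩ := hfix (t : G) (by rw [Subgroup.orderOf_coe, ht])
      exact ⟨x, hx⟩
    · exact hbad _ t.2 (by rw [Subgroup.orderOf_coe, ht]) x y hx hy
  have hA : IsConj z F.a := hS.1
  have hfaith : ∀ g : K, (∀ x : G ⧸ N, g • x = x) → g = 1 := by
    intro g hg
    let D : Subgroup G := K ⊓ N.normalCore
    have hD : (g : G) ∈ D := ⟨g.2, fun b => by
      have := (F.smul_eq_iff hS (g : G) b⁻¹).1 (hg ((b⁻¹ : G) : G ⧸ N))
      simpa using this⟩
    have hodd : ¬ 2 ∣ Nat.card D := by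
      intro h2
      haveI : Fact (Nat.Prime 2) := ⟨Nat.prime_two⟩
      obtain ⟨⟨w, hwK, hwN⟩, hw⟩ := exists_prime_orderOf_dvd_card' 2 h2
      rw [← Subgroup.orderOf_coe] at hw
      change orderOf w = 2 at hw
      obtain ⟨y, hy⟩ := hset.nontriv ((1 : G) : G ⧸ N)
      have hall : ∀ x : G ⧸ N, w • x = x := fun x => by
        induction x using QuotientGroup.induction_on with | _ b =>
        refine (F.smul_eq_iff hS _ b).2 ?_
        have := hwN b⁻¹
        simpa using this
      exact hy (hbad w hwK hw _ _ (hall y) (hall _))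
    have hle : D ≤ Cfsg.oddCore G := by
      haveI : Fact (Nat.Prime 2) := ⟨Nat.prime_two⟩
      exact CfsgLib.PCore.le_pPrimeCore_of_not_dvd inferInstance hodd
    have := hle hD
    rw [F.oddCore_eq_bot hA, Subgroup.mem_bot] at this
    exact Subtype.ext this
  have hz2 := F.orderOf_z
  have hzK := hmem z (IsConj.refl z)
  have hfour : HasFour K := ⟨⟨z, hzK⟩, ⟨F.a, hmem _ hA⟩, by rw [Subgroup.orderOf_mk]; exact hz2,
    by rw [Subgroup.orderOf_mk]; exact orderOf_eq_prime (by rw [pow_two]; exact F.a_spec.2.1) F.a_spec.1,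
    fun e => F.a_spec.2.2.2.1 (congrArg Subtype.val e).symm, Subtype.ext F.a_spec.2.2.1.symm⟩
  set c : G ⧸ N := ((1 : G) : G ⧸ N) with hc
  obtain ⟨Q, hQ⟩ := isKernelAt_of_hasKernelAt (benderKernel K (G ⧸ N) hone hfaith hfour c)
  obtain ⟨L, -, hLodd, hL⟩ :=
    exists_normal_benderType benderKernel CfsgLib.RankOneRecog.rankOneClass hone hfaith hfour
  obtain ⟨y, hy⟩ := hone.nontriv c
  set T := stabilizer K c
  set D := two K c y
  have hcardQ : Nat.card Q + 1 = Nat.card (G ⧸ N) := by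
    haveI := Fintype.ofFinite (G ⧸ N)
    have hb : Function.Bijective
        (fun g : Q => (⟨(g : K) • y, fun e => hy (by
          have h1 : (g : K) • y = (g : K) • c := e.trans (mem_stabilizer_iff.1 (hQ.le g.2)).symm
          exact MulAction.injective _ h1)⟩ : {x : G ⧸ N // x ≠ c})) := by
      refine ⟨fun g h e => ?_, fun x => ?_⟩
      · have e' : (g : K) • y = (h : K) • y := congrArg Subtype.val e
        have h1 : ((h : K)⁻¹ * g) • y = y := by rw [mul_smul, e', inv_smul_smul]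
        have := hQ.free _ (mul_mem (inv_mem h.2) g.2) y hy h1
        exact Subtype.ext (inv_mul_eq_one.1 this).symm
      · obtain ⟨g, hg, e⟩ := hQ.trans y x hy x.2
        exact ⟨⟨g, hg⟩, Subtype.ext e⟩
    rw [Nat.card_eq_of_bijective _ hb, Nat.card_eq_fintype_card, Fintype.card_subtype_compl,
      Fintype.card_subtype_eq, ← Nat.card_eq_fintype_card]
    have : 0 < Nat.card (G ⧸ N) := Nat.card_pos
    omega
  have hcardT : Nat.card T = Nat.card Q * Nat.card D := by
    rw [← Nat.card_prod]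
    refine (Nat.card_eq_of_bijective (fun p : Q × D => (⟨(p.1 : K) * (p.2 : K),
      mul_mem (hQ.le p.1.2) ((inf_le_left : D ≤ T) p.2.2)⟩ : T)) ⟨?_, ?_⟩).symm
    · rintro ⟨g, d⟩ ⟨g', d'⟩ e
      have e' : (g : K) * (d : K) = (g' : K) * (d' : K) := congrArg Subtype.val e
      have h1 : ((g' : K)⁻¹ * g) = (d' : K) * (d : K)⁻¹ := by
        rw [eq_mul_inv_iff_mul_eq, mul_assoc, e', inv_mul_cancel_left]
      have h2 := hQ.free _ (mul_mem (inv_mem g'.2) g.2) y hy (by
        rw [h1]; exact (mem_two_iff.1 (mul_mem d'.2 (inv_mem d.2))).2)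
      have hg : g = g' := Subtype.ext (inv_mul_eq_one.1 h2).symm
      subst hg
      exact Prod.ext rfl (Subtype.ext (mul_left_cancel e'))
    · rintro ⟨g, hg⟩
      obtain ⟨x, hx, d, hd, e⟩ := hQ.sup_two hy hg
      exact ⟨(⟨x, hx⟩, ⟨d, hd⟩), Subtype.ext e.symm⟩
  have hcardK : Nat.card K = Nat.card (G ⧸ N) * Nat.card T := by
    have h := (stabilizer K c).card_mul_index
    rw [← h, mul_comm, Subgroup.index, ← Nat.card_congr (MulAction.orbitEquivQuotientStabilizer K c)]
    congr 1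
    refine Nat.card_congr (Equiv.subtypeUnivEquiv fun x => ?_)
    obtain ⟨g, hg⟩ := hone.trans c x
    exact ⟨g, hg⟩
  have hD9 : Nat.card D ∣ 9 := by
    have hodd : Odd (Nat.card D) := odd_card_two hone hy.symm
    have hdiv : Nat.card D ∣ 768 * 6 := by
      refine Nat.dvd_trans ?_ (F.card_normalizer_dvd hS)
      let f : D →* N := MonoidHom.mk' (fun d => ⟨((d : K) : G), by
        simpa using (F.smul_eq_iff hS ((d : K) : G) 1).1 (mem_two_iff.1 d.2).1⟩) fun a b => rfl
      refine Subgroup.card_dvd_of_injective f fun a b e => ?_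
      exact Subtype.ext (Subtype.ext (congrArg (fun w : N => (w : G)) e))
    exact Nat.Coprime.dvd_of_dvd_mul_left
      (((Nat.coprime_two_right.2 hodd).pow_right 9)) (by norm_num at hdiv ⊢; exact hdiv)
  obtain ⟨k, hk⟩ := hQ.isTwo.exists_card_eq
  have hk1 : 1 ≤ k := by
    by_contra h0
    rw [show k = 0 by omega, pow_zero] at hk
    exact hQ.ne_bot hone (Subgroup.card_eq_one.1 hk)
  have hk2 : k = 2 := by
    refine card_benderType hL hD9 hLodd hk1 ?_
    rw [Subgroup.card_mul_index, hcardK, hcardT, ← hcardQ, hk]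
    ring
  have hn : Nat.card (G ⧸ N) = 5 := by rw [← hcardQ, hk, hk2]; norm_num
  let φ : Subgroup.centralizer ({z} : Set G) →* Equiv.Perm (G ⧸ N) :=
    (MulAction.toPermHom G (G ⧸ N)).comp (Subgroup.centralizer ({z} : Set G)).subtype
  have hnot : ¬ Function.Injective φ := fun hi => by
    have h1 := Nat.card_le_card_of_injective φ hi
    rw [F.card_centralizer, Nat.card_perm, hn] at h1
    norm_num [Nat.factorial] at h1
  rw [injective_iff_map_eq_one] at hnot
  push Not at hnot
  obtain ⟨⟨x, hx⟩, hx1, hx2⟩ := hnot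
  have hzker : z ∈ (MulAction.toPermHom G (G ⧸ N)).ker :=
    F.z_mem_of_normal (x := x) (MonoidHom.mem_ker.2 hx1) (Subgroup.mem_centralizer_singleton_iff.1 hx)
      (fun e => hx2 (Subtype.ext e))
  have hall : ∀ w : G ⧸ N, z • w = w := fun w =>
    Equiv.congr_fun (MonoidHom.mem_ker.1 hzker) w
  exact hy (hset.unique z (IsConj.refl z) _ _ (hall y) (hall c))

theorem isSolvable_of_smallCase (hC : Group.IsSolvable (Subgroup.centralizer ({z} : Set G))) :
    Group.IsSolvable G := by
  by_cases hN : Subgroup.normalizer (F.four : Set G) = ⊤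
  · exact F.isSolvable_of_normalizer_eq_top hS hC hN
  · exact (F.small_false hS hN).elim

end Frame

end CfsgLib.AutL34
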