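import Mathlib.Data.Nat.Bitwise
import Mathlib.Data.Fintype.Basic
import Mathlib.Data.Bool.Basic

/-!
Symbols for the four groups `2^{1+4}_-.Sym(4)` with self-centralising normal subgroup.  A symbol
`32 p + x` stands for `e(x) d(p)`: the bits of `x` are the exponents of `e₁, ..., e₄, z`, and `d(p)` is the
`p`-th normal word in the lifts `s₁, s₂, s₃` of adjacent transpositions.  The Booleans give `s₁²` and the
commutator of `s₁` and `s₃`.
-/
set_option autoImplicit false

namespace CfsgLib.AutL34

/-- a bit of a number -/
def bitN (m k : ℕ) : ℕ := (m >>> k) % 2

/-- the product in the extraspecial group -/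
def eMul (x y : ℕ) : ℕ :=
  (x ^^^ y) ^^^ (16 * bitN 40867796217264508184565122775466261096999833863607151025216202233750145204224 (x % 16 * 16 + y % 16))

/-- the action of a permutation symbol on the extraspecial group -/
def act (p x : ℕ) : ℕ :=
  ((46730923938407472360267062418295721784961588216146813466512977716162369816228552378222700551189244491177493886839086174521906210875938244530593997416974156257004334134770335624077917670368340275593987397834506681492750516962271844482715367021559070267273063383417088313917395068300344334012591268818229171598979230932638960415972318913305899478134267641223596273889687759361442344820339764109950467175778784878718673933549357892555467438044555609585886051938627258515164179014960709135559602123495620540702481874420566590725074578711326963031156858683496920933227820832268584992 >>> (5 * (p * 16 + x % 16))) % 32) ^^^ (16 * (x / 16 % 2))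

/-- the product of permutation symbols -/
def pMul (p q : ℕ) : ℕ := (5490304049447100748220118883508891959386240264978256434489773072100789438816824962324681578241781526841022231419034451894349668648117850588599978293249585457824129718629319511687591053171798699276830995035668295714496070267063557201629931406101063569958159862973440774875867212393596808629525269022473925270245992122564507572184515317621691022830178636663910619558832759358382054739135270923685144166912178344256875178813959987031676548746591976623925108299743924044688870769454103477745227402707877222448113677080525999376421450246378972270253002793416326557231935314264962009672653450638580424149432310122714074681050104988239312464674358719467297653054884931577629673406664104079712933138379202034971849512787739305612220244255930622458887607621380029632849628377849614449931925833405437491985333425860324996437622318364700567002005281251262128368213203789908000 >>> (5 * (p * 24 + q))) % 32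

/-- the central part of the product of two lifts -/
def kk (α β : Bool) (p q : ℕ) : ℕ :=
  ((bif α then bitN 79911571011697461649399197279148853510582657299833562485280763283775492337695928948342271595618789836072504384845843567595813716542071631751563641881406152551602407090421760 (p * 24 + q) else 0) +
    (bif β then bitN 150039369180972247616183115258441538893996089805697612433540844930716206435561357289401192077119630823128067136286365999992974699819674238605446912943845206826725418901438464 (p * 24 + q) else 0)) % 2

/-- the product of two symbols -/
def mulC (α β : Bool) (g h : ℕ) : ℕ :=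
  pMul (g / 32) (h / 32) * 32 +
    (eMul (g % 32) (act (g / 32) (h % 32)) ^^^ (16 * kk α β (g / 32) (h / 32)))

/-- the normal words -/
def words : List (List ℕ) := [[], [0], [1], [0, 1], [1, 0], [0, 1, 0], [2], [0, 2], [1, 2], [0, 1, 2], [1, 0, 2], [0, 1, 0, 2], [2, 1], [0, 2, 1], [1, 2, 1], [0, 1, 2, 1], [1, 0, 2, 1], [0, 1, 0, 2, 1], [2, 1, 0], [0, 2, 1, 0], [1, 2, 1, 0], [0, 1, 2, 1, 0], [1, 0, 2, 1, 0], [0, 1, 0, 2, 1, 0]]

/-- the normal word of a symbol -/
def wordOf (p : ℕ) : List ℕ := words.getD p []

/-- the symbol of a lift of an adjacent transposition -/
def genP (i : ℕ) : ℕ := bif i == 0 then 1 else bif i == 1 then 2 else 6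

/-- parity of the exponent sum in the extraspecial group -/
def parE (x : ℕ) : ℕ := bitN 27030 (x % 16)

/-- sign of a permutation symbol -/
def sgnP (p : ℕ) : ℕ := bitN 6710886 p

/-- the two homomorphisms to a group of order two, packed -/
def chi (g : ℕ) : ℕ := parE g + 2 * sgnP (g / 32)

/-- the first elementary abelian subgroup of order sixteen -/
def lstA1 : List ℕ := [0, 15, 16, 31, 224, 239, 240, 255, 512, 527, 528, 543, 736, 751, 752, 767]

/-- the second one -/
def lstA2 : List ℕ := [0, 15, 16, 31, 227, 236, 243, 252, 517, 522, 533, 538, 742, 745, 758, 761]

/-- membership in the normal four-group -/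
def isA (g : ℕ) : Bool := g == 0 || g == 15 || g == 16 || g == 31

/-- membership in the first subgroup -/
def inA1 (g : ℕ) : Bool := lstA1.contains g

/-- membership in the second subgroup -/
def inA2 (g : ℕ) : Bool := lstA2.contains g

/-- the involutions of the two subgroups outside the four-group -/
def isU (g : ℕ) : Bool := (inA1 g || inA2 g) && !isA g

/-- membership in the normal subgroup of order 64 -/
def inS (g : ℕ) : Bool := chi g == 0 && [0, 7, 16, 23].contains (g / 32)

/-- a Sylow subgroup -/
def inT (g : ℕ) : Bool := [0, 1, 6, 7, 16, 17, 22, 23].contains (g / 32)

/-- a bounded Boolean universal quantifier -/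
def allB (k : ℕ) (f : ℕ → Bool) : Bool := (List.range k).all f

/-- a bounded Boolean existential quantifier -/
def anyB (k : ℕ) (f : ℕ → Bool) : Bool := (List.range k).any f

theorem allB_spec {k : ℕ} {f : ℕ → Bool} (h : allB k f = true) {i : ℕ} (hi : i < k) : f i = true :=
  List.all_eq_true.1 h i (List.mem_range.2 hi)

theorem anyB_spec {k : ℕ} {f : ℕ → Bool} (h : anyB k f = true) : ∃ i < k, f i = true := by
  obtain ⟨i, hi, h⟩ := List.any_eq_true.1 h
  exact ⟨i, List.mem_range.1 hi, h⟩

theorem eMul_lt {x y : ℕ} (hx : x < 32) (hy : y < 32) : eMul x y < 32 := by
  have h : allB 32 (fun x => allB 32 fun y => decide (eMul x y < 32)) = true := by decide +kernel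
  exact of_decide_eq_true (allB_spec (allB_spec h hx) hy)

theorem act_lt {p x : ℕ} (hp : p < 24) (hx : x < 32) : act p x < 32 := by
  have h : allB 24 (fun p => allB 32 fun y => decide (act p y < 32)) = true := by decide +kernel
  exact of_decide_eq_true (allB_spec (allB_spec h hp) hx)

theorem pMul_lt {p q : ℕ} (hp : p < 24) (hq : q < 24) : pMul p q < 24 := by
  have h : allB 24 (fun p => allB 24 fun q => decide (pMul p q < 24)) = true := by decide +kernel
  exact of_decide_eq_true (allB_spec (allB_spec h hp) hq)

theorem kk_lt (α β : Bool) (p q : ℕ) : kk α β p q < 2 := Nat.mod_lt _ (by omega)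

theorem xor_lt {x k : ℕ} (hx : x < 32) (hk : k < 2) : x ^^^ (16 * k) < 32 :=
  Nat.xor_lt_two_pow (n := 5) hx (by omega)

theorem mulC_lt (α β : Bool) {g h : ℕ} (hg : g < 768) (hh : h < 768) : mulC α β g h < 768 := by
  have h1 := pMul_lt (p := g / 32) (q := h / 32) (by omega) (by omega)
  have h2 := xor_lt (eMul_lt (Nat.mod_lt g (by omega : 0 < 32))
    (act_lt (p := g / 32) (by omega) (Nat.mod_lt h (by omega : 0 < 32)))) (kk_lt α β (g / 32) (h / 32))
  unfold mulC
  omega

end CfsgLib.AutL34
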