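import Cfsg.Agent.Lib.AutL34.Sylow
import Cfsg.Agent.Lib.AutL34.Fusion
import Cfsg.Agent.Lib.StrongCrit.Transfer

/-!
The main case: the fusion of the outer involutions and the subgroup of index four.
-/
set_option autoImplicit false
set_option maxRecDepth 10000

namespace CfsgLib.AutL34

universe u

theorem chi_zero_of_member : allB 768 (fun g => !(isA g || isU g) || chi g == 0) = true := by decide +kernel

theorem inS_closed (α β : Bool) : ∀ g h, g < 768 → h < 768 → inS g = true → inS h = true →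
    ([0, 7, 16, 23].contains (mulC α β g h / 32)) = true := by
  intro g h hg hh pg ph
  have hl := xor_lt (eMul_lt (Nat.mod_lt g (by omega : 0 < 32))
    (act_lt (p := g / 32) (by omega) (Nat.mod_lt h (by omega : 0 < 32)))) (kk_lt α β (g / 32) (h / 32))
  have hpl := pMul_lt (p := g / 32) (q := h / 32) (by omega) (by omega)
  have e : mulC α β g h / 32 = pMul (g / 32) (h / 32) := by unfold mulC; omega
  unfold inS at pg ph
  rw [Bool.and_eq_true] at pg ph
  have h1 := allB_spec inS_mul (i := g / 32) (by omega)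
  rw [pg.2, Bool.not_true, Bool.false_or] at h1
  have h2 := allB_spec h1 (i := h / 32) (by omega)
  rw [ph.2, Bool.not_true, Bool.false_or] at h2
  rw [e]
  exact h2

/-- the abelian target of the transfer -/
abbrev Sign := Multiplicative (ZMod 2 × ZMod 2)

theorem sign_sq (v : Sign) : v * v = 1 :=
  Multiplicative.toAdd.injective (show v.toAdd + v.toAdd = 0 by revert v; decide)

theorem sign_bits : ∀ a b c d : Fin 2, (Multiplicative.ofAdd (((a.1 : ℕ) : ZMod 2), ((b.1 : ℕ) : ZMod 2)) : Sign) *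
    Multiplicative.ofAdd (((c.1 : ℕ) : ZMod 2), ((d.1 : ℕ) : ZMod 2)) =
    Multiplicative.ofAdd (((a.1 ^^^ c.1 : ℕ) : ZMod 2), ((b.1 ^^^ d.1 : ℕ) : ZMod 2)) := by decide

namespace Frame

variable {G : Type u} [Group G] [Finite G] {z : G} (F : Frame G z)

theorem chi_closed : ∀ g h, g < 768 → h < 768 → (chi g == 0) = true → (chi h == 0) = true →
    (chi (mulC F.α F.β g h) == 0) = true := by
  intro g h hg hh pg ph
  rw [beq_iff_eq] at pg ph ⊢
  obtain ⟨m1, m2⟩ := F.chi_mul hg hh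
  obtain ⟨-, -, -, e1⟩ := chi_bits hg
  obtain ⟨-, -, -, e2⟩ := chi_bits hh
  obtain ⟨-, -, -, e3⟩ := chi_bits (mulC_lt F.α F.β hg hh)
  rw [e1] at pg; rw [e2] at ph; rw [e3, m1, m2, pg.1, pg.2, ph.1, ph.2]
  exact ⟨rfl, rfl⟩

/-- the kernel of both homomorphisms on the centraliser -/
def ker192 : Subgroup G := F.subOf (fun g => chi g == 0) (by decide) F.chi_closed

theorem card_ker192 : Nat.card F.ker192 = 192 := by
  rw [ker192, F.card_subOf]; exact counts.1

/-- the normal subgroup of order 64 -/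
def S64 : Subgroup G := F.subOf inS (by decide) (fun g h hg hh pg ph => by
  have h1 := inS_closed F.α F.β g h hg hh pg ph
  unfold inS at pg ph ⊢
  rw [Bool.and_eq_true] at pg ph ⊢
  exact ⟨F.chi_closed g h hg hh pg.1 ph.1, h1⟩)

theorem card_S64 : Nat.card F.S64 = 64 := by
  rw [S64, F.card_subOf]; exact counts.2.1

theorem S64_le_ker192 : F.S64 ≤ F.ker192 := by
  rintro _ ⟨g, hg, pg, rfl⟩
  unfold inS at pg
  rw [Bool.and_eq_true] at pg
  exact ⟨g, hg, pg.1, rfl⟩

theorem mem_centralizer_iff' {x : G} : x ∈ Subgroup.centralizer ({z} : Set G) ↔ x * z = z * x :=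
  Subgroup.mem_centralizer_singleton_iff

/-- the symbol of an element of the centraliser -/
noncomputable def idx (x : Subgroup.centralizer ({z} : Set G)) : ℕ :=
  (F.surj (mem_centralizer_iff'.1 x.2)).choose

theorem idx_spec (x : Subgroup.centralizer ({z} : Set G)) : F.idx x < 768 ∧ F.el (F.idx x) = (x : G) :=
  (F.surj (mem_centralizer_iff'.1 x.2)).choose_spec

theorem idx_el {g : ℕ} (hg : g < 768) (h : F.el g ∈ Subgroup.centralizer ({z} : Set G)) :
    F.idx ⟨F.el g, h⟩ = g :=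
  F.inj (F.idx_spec _).1 hg (F.idx_spec _).2

/-- the sign pair on the centraliser -/
noncomputable def chiHom : Subgroup.centralizer ({z} : Set G) →* Sign :=
  MonoidHom.mk' (fun x => Multiplicative.ofAdd ((parE (F.idx x) : ZMod 2), (sgnP (F.idx x / 32) : ZMod 2)))
    fun x y => by
      obtain ⟨hx, ex⟩ := F.idx_spec x
      obtain ⟨hy, ey⟩ := F.idx_spec y
      have e : F.idx (x * y) = mulC F.α F.β (F.idx x) (F.idx y) :=
        F.inj (F.idx_spec _).1 (mulC_lt _ _ hx hy)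
          (by rw [(F.idx_spec _).2, ← F.el_mul hx hy, ex, ey]; rfl)
      obtain ⟨m1, m2⟩ := F.chi_mul hx hy
      obtain ⟨a, b, -, -⟩ := chi_bits hx
      obtain ⟨c, d, -, -⟩ := chi_bits hy
      simp only [e, m1, m2]
      exact (sign_bits ⟨_, a⟩ ⟨_, b⟩ ⟨_, c⟩ ⟨_, d⟩).symm

theorem chiHom_eq (x : Subgroup.centralizer ({z} : Set G)) {g : ℕ} (hg : g < 768) (he : F.el g = (x : G)) :
    F.chiHom x = Multiplicative.ofAdd ((parE g : ZMod 2), (sgnP (g / 32) : ZMod 2)) := by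
  have e : F.idx x = g := F.inj (F.idx_spec x).1 hg ((F.idx_spec x).2.trans he.symm)
  show Multiplicative.ofAdd _ = _
  rw [e]

theorem chiHom_eq_one_iff (x : Subgroup.centralizer ({z} : Set G)) :
    F.chiHom x = 1 ↔ (x : G) ∈ F.ker192 := by
  obtain ⟨hx, ex⟩ := F.idx_spec x
  rw [F.chiHom_eq x hx ex]
  obtain ⟨a, b, -, e⟩ := chi_bits hx
  have key : ∀ p q : Fin 2, (Multiplicative.ofAdd ((p.1 : ZMod 2), (q.1 : ZMod 2)) : Sign) = 1 ↔
      p.1 = 0 ∧ q.1 = 0 := by decide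
  rw [key ⟨_, a⟩ ⟨_, b⟩, ← e]
  constructor
  · intro h; exact ⟨F.idx x, hx, by simpa using h, ex⟩
  · rintro ⟨g, hg, pg, eg⟩
    rw [F.inj hx hg (ex.trans eg.symm)]
    simpa using pg

/-- the condition on an outer involution -/
def IsOuter (i : G) : Prop := i * z = z * i ∧ i ≠ 1 ∧ i * i = 1 ∧ i ∉ F.ker192

theorem outer_square {i r : G} (hi : F.IsOuter i) (hr : r * z = z * r) (hri : r * i = i * r)
    (h4 : r * r * (r * r) = 1) (h2 : r * r ≠ 1) : r * r = z := by
  obtain ⟨h1, h1', hii, hk⟩ := hi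
  obtain ⟨g, hg, rfl⟩ := F.surj h1
  obtain ⟨k, hk', rfl⟩ := F.surj hr
  have h := allB_spec (outer_check F.α F.β) hg
  simp only [Bool.or_eq_true, Bool.not_eq_true', beq_iff_eq] at h
  rcases h with (h | h) | h
  · rw [(F.isInv_iff hg).2 ⟨h1', hii⟩] at h; exact absurd h (by simp)
  · exact absurd ⟨g, hg, by simpa using h, rfl⟩ hk
  have h' := allB_spec h hk'
  simp only [Bool.or_eq_true, Bool.not_eq_true', beq_iff_eq, bne_iff_ne] at h'
  have hs : sqC F.α F.β k < 768 := mulC_lt _ _ hk' hk'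
  have es : F.el k * F.el k = F.el (sqC F.α F.β k) := F.el_mul hk' hk'
  rcases h' with ((h' | h') | h') | h'
  · rw [(F.commC_iff hg hk').2 hri.symm] at h'; exact absurd h' (by simp)
  · exact absurd ((F.sqC_iff hs).2 (by rw [← es]; exact h4)) h'
  · exact absurd (by rw [es, h', F.el_zero]) h2
  · rw [es, h', F.el_sixteen]

include F in
theorem root_pow_four {r : G} (hr : r * r = z) : r * r * (r * r) = 1 ∧ r * r ≠ 1 := by
  rw [hr]; exact ⟨F.z_sq, F.z_ne⟩

/-- a Sylow subgroup of the centraliser of an outer involution lies in the centraliser of `z` -/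
theorem exists_outer_sylow {i : G} (hi : F.IsOuter i) :
    ∃ (P : Sylow 2 (Subgroup.centralizer ({i} : Set G))) (r : Subgroup.centralizer ({i} : Set G)),
      r ∈ P ∧ (r : G) * r = z ∧ ∀ x ∈ P, (x : G) * z = z * x := by
  haveI : Fact (Nat.Prime 2) := ⟨Nat.prime_two⟩
  obtain ⟨hiz, hi1, hii, -⟩ := id hi
  obtain ⟨r₀, hr₀, hr₀i, hr₀sq⟩ := F.exists_root hiz hi1 hii
  set M := Subgroup.centralizer ({i} : Set G) with hM
  set D : Subgroup M := (Subgroup.centralizer ({z} : Set G)).subgroupOf M with hD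
  let r : M := ⟨r₀, Subgroup.mem_centralizer_singleton_iff.2 hr₀i⟩
  have hrD : r ∈ D := Subgroup.mem_centralizer_singleton_iff.2 hr₀
  let r' : D := ⟨r, hrD⟩
  have hr4 : r' ^ 4 = 1 := by
    refine Subtype.ext (Subtype.ext ?_)
    show r₀ ^ 4 = 1
    rw [show 4 = 2 + 2 from rfl, pow_add, pow_two, (F.root_pow_four hr₀sq).1]
  have hp : IsPGroup 2 (Subgroup.zpowers r') := by
    obtain ⟨k, -, hk⟩ := (Nat.dvd_prime_pow Nat.prime_two (m := 2)).1
      (show orderOf r' ∣ 2 ^ 2 from orderOf_dvd_of_pow_eq_one hr4)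
    exact IsPGroup.of_card (n := k) (by rw [Nat.card_zpowers, hk])
  obtain ⟨R, hR⟩ := hp.exists_le_sylow
  set R' : Subgroup M := (R : Subgroup D).map D.subtype with hR'
  have hR'p : IsPGroup 2 R' := R.isPGroup'.map _
  obtain ⟨P, hP⟩ := hR'p.exists_le_sylow
  have hrR : r ∈ R' := ⟨r', hR (Subgroup.mem_zpowers r'), rfl⟩
  have hR'D : R' ≤ D := Subgroup.map_subtype_le _
  suffices hPR : (P : Subgroup M) = R' by
    exact ⟨P, r, hP hrR, hr₀sq, fun x hx => Subgroup.mem_centralizer_singleton_iff.1 (hR'D (hPR ▸ hx))⟩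
  by_contra hne
  haveI : Group.IsNilpotent (P : Subgroup M) := P.isPGroup'.isNilpotent
  have hlt : R'.subgroupOf (P : Subgroup M) < ⊤ := lt_top_iff_ne_top.2 fun e =>
    hne (le_antisymm (Subgroup.subgroupOf_eq_top.1 e) hP)
  obtain ⟨⟨q, hqP⟩, hqN, hqR⟩ :=
    SetLike.exists_of_lt ((normalizerCondition_of_isNilpotent (G := (P : Subgroup M))) _ hlt)
  have hqr : q * r * q⁻¹ ∈ R' := (Subgroup.mem_normalizer_iff.1 hqN ⟨r, hP hrR⟩).1 hrR
  have hqc : ((q : G) * r₀ * (q : G)⁻¹) * z = z * ((q : G) * r₀ * (q : G)⁻¹) :=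
    Subgroup.mem_centralizer_singleton_iff.1 (hR'D hqr)
  have hqi : (q : G) * r₀ * (q : G)⁻¹ * i = i * ((q : G) * r₀ * (q : G)⁻¹) :=
    Subgroup.mem_centralizer_singleton_iff.1 (q * r * q⁻¹).2
  have e2 : (q : G) * r₀ * (q : G)⁻¹ * ((q : G) * r₀ * (q : G)⁻¹) = (q : G) * z * (q : G)⁻¹ := by
    rw [← hr₀sq]; group
  have hsq := F.outer_square hi hqc hqi
    (by rw [e2]; calc (q : G) * z * (q : G)⁻¹ * ((q : G) * z * (q : G)⁻¹) = (q : G) * (z * z) * (q : G)⁻¹ := by group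
          _ = 1 := by rw [F.z_sq]; group)
    (by rw [e2]; exact fun e => F.z_ne (conj_eq_one_iff.1 e))
  rw [e2] at hsq
  have hqD : q ∈ D := Subgroup.mem_centralizer_singleton_iff.2 (mul_inv_eq_iff_eq_mul.1 hsq)
  have hsub : IsPGroup 2 ((((P : Subgroup M)) ⊓ D).subgroupOf D) :=
    (P.isPGroup'.to_le (inf_le_left : ((P : Subgroup M)) ⊓ D ≤ _)).comap_of_injective D.subtype
      D.subtype_injective
  have heq := R.is_maximal' hsub (fun x hx => ⟨hP ⟨x, hx, rfl⟩, x.2⟩)
  have hqR'' : (⟨q, hqD⟩ : D) ∈ (R : Subgroup D) := heq ▸ (show q ∈ (P : Subgroup M) ⊓ D from ⟨hqP, hqD⟩)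
  exact hqR ⟨_, hqR'', rfl⟩

/-- conjugate outer involutions are conjugate in the centraliser -/
theorem outer_conj {i j g : G} (hi : F.IsOuter i) (hj : F.IsOuter j) (hg : g * i * g⁻¹ = j) :
    ∃ c, c * z = z * c ∧ c * i * c⁻¹ = j := by
  haveI : Fact (Nat.Prime 2) := ⟨Nat.prime_two⟩
  obtain ⟨P, r, hrP, hr, hP⟩ := F.exists_outer_sylow hi
  obtain ⟨Pj, -, -, -, hPj⟩ := F.exists_outer_sylow hj
  let f : Subgroup.centralizer ({i} : Set G) →* Subgroup.centralizer ({j} : Set G) :=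
    MonoidHom.mk' (fun x => ⟨g * (x : G) * g⁻¹, Subgroup.mem_centralizer_singleton_iff.2 (by
      rw [← hg]
      calc g * (x : G) * g⁻¹ * (g * i * g⁻¹) = g * ((x : G) * i) * g⁻¹ := by group
        _ = g * (i * (x : G)) * g⁻¹ := by rw [Subgroup.mem_centralizer_singleton_iff.1 x.2]
        _ = g * i * g⁻¹ * (g * (x : G) * g⁻¹) := by group)⟩)
      fun a b => Subtype.ext (show g * ((a : G) * b) * g⁻¹ = g * a * g⁻¹ * (g * b * g⁻¹) by group)
  obtain ⟨Q, hQ⟩ := (P.isPGroup'.map f).exists_le_sylow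
  obtain ⟨c, hc⟩ := MulAction.exists_smul_eq (Subgroup.centralizer ({j} : Set G)) Q Pj
  have hmem : c * f r * c⁻¹ ∈ Pj := by
    rw [← hc]
    show c * f r * c⁻¹ ∈ ((c • Q : Sylow 2 _) : Subgroup (Subgroup.centralizer ({j} : Set G)))
    rw [Sylow.coe_subgroup_smul]
    exact Subgroup.smul_mem_pointwise_smul _ (MulAut.conj c) _ (hQ ⟨r, hrP, rfl⟩)
  set w : G := (c : G) * g with hw
  have hwi : w * i * w⁻¹ = j := by
    rw [hw, show (c : G) * g * i * ((c : G) * g)⁻¹ = (c : G) * (g * i * g⁻¹) * (c : G)⁻¹ by group, hg,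
      Subgroup.mem_centralizer_singleton_iff.1 c.2]
    group
  have hx : w * (r : G) * w⁻¹ = ((c * f r * c⁻¹ : Subgroup.centralizer ({j} : Set G)) : G) := by
    show _ = (c : G) * (g * (r : G) * g⁻¹) * (c : G)⁻¹
    rw [hw]; group
  have h1 := hPj _ hmem
  have h2 := Subgroup.mem_centralizer_singleton_iff.1 (c * f r * c⁻¹).2
  rw [← hx] at h1 h2
  have e2 : w * (r : G) * w⁻¹ * (w * (r : G) * w⁻¹) = w * z * w⁻¹ := by rw [← hr]; group
  have hsq := F.outer_square hj h1 h2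
    (by rw [e2]; calc w * z * w⁻¹ * (w * z * w⁻¹) = w * (z * z) * w⁻¹ := by group
          _ = 1 := by rw [F.z_sq]; group)
    (by rw [e2]; exact fun e => F.z_ne (conj_eq_one_iff.1 e))
  rw [e2] at hsq
  exact ⟨w, mul_inv_eq_iff_eq_mul.1 hsq, hwi⟩

/-- the main case -/
def BigCase : Prop := IsConj z F.a ∧ ∃ w, F.InU w ∧ IsConj z w

variable (hB : F.BigCase)
include hB

theorem big_beta : F.β = false := hB.2.choose_spec.1.1

theorem big_isConj {g : ℕ} (hg : isU g = true) : IsConj z (F.el g) := by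
  obtain ⟨w, hw, hzw⟩ := hB.2
  obtain ⟨c, -, hc⟩ := F.inU_conj hw
  obtain ⟨d, -, hd⟩ := F.inU_conj (x := F.el g) ⟨hw.1, g, hg, rfl⟩
  exact (hzw.trans (isConj_iff.2 ⟨c, hc⟩).symm).trans (isConj_iff.2 ⟨d, hd⟩)

theorem big_isConj_sym {g : ℕ} (h1 : inA1 g = true ∨ inA2 g = true) (h0 : g ≠ 0) : IsConj z (F.el g) := by
  by_cases hA : isA g = true
  · rcases F.inA_cases ⟨g, hA, h0, rfl⟩ with e | e | e
    · exact e.symm ▸ IsConj.refl z
    · exact e.symm ▸ hB.1
    · exact e.symm ▸ hB.1.trans (isConj_iff.2 ⟨F.el 1, F.conj_one_a⟩)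
  · exact F.big_isConj hB (isU_iff.2 ⟨h1, by simpa using hA⟩)

theorem not_conj_outer {i : G} (hi : F.IsOuter i) : ¬ IsConj z i := by
  intro h
  obtain ⟨h1, h2, h3, h4⟩ := hi
  have key : ∀ g, g < 768 → (isA g || isU g) = true → F.el g ∈ F.ker192 := fun g hg hh => by
    have := allB_spec chi_zero_of_member hg
    rw [hh, Bool.not_true, Bool.false_or] at this
    exact ⟨g, hg, this, rfl⟩
  by_cases he : i = z
  · have h16 := key 16 (by omega) (by decide)
    rw [F.el_sixteen] at h16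
    exact h4 (by rw [he]; exact h16)
  rcases F.members_sub h h1 he with ⟨g, hg, -, rfl⟩ | ⟨-, g, hg, rfl⟩
  · exact h4 (key g (mem_lt.2 hg) (by simp [hg]))
  · exact h4 (key g (isU_lt hg) (by simp [hg]))

theorem inner_invol {x : G} (hx : x ∈ F.ker192) (hx1 : x ≠ 1) (hx2 : x * x = 1) :
    IsConj z x ∧ ∃ g, (inA1 g = true ∨ inA2 g = true) ∧ F.el g = x := by
  obtain ⟨g, hg, pg, rfl⟩ := hx
  have h := allB_spec (inner_check F.α F.β) hg
  simp only [Bool.or_eq_true, Bool.not_eq_true', bne_iff_ne] at h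
  have h0 : g ≠ 0 := fun e => hx1 ((F.el_eq_one hg).2 e)
  rcases h with ((h | h) | h) | h
  · rw [(F.isInv_iff hg).2 ⟨hx1, hx2⟩] at h; exact absurd h (by simp)
  · exact absurd (beq_iff_eq.1 pg) h
  · exact ⟨F.big_isConj_sym hB (Or.inl (isA_inA h).1) h0, g, Or.inl (isA_inA h).1, rfl⟩
  · exact ⟨F.big_isConj_sym hB (isU_iff.1 h).1 h0, g, (isU_iff.1 h).1, rfl⟩

/-- The index four subgroup. -/
theorem exists_indexFour : ∃ V : G →* Sign, Function.Surjective V ∧
    ∀ x : Subgroup.centralizer ({z} : Set G), V x = F.chiHom x := by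
  classical
  have hle : F.syl ≤ Subgroup.centralizer ({z} : Set G) := fun x hx =>
    Subgroup.mem_centralizer_singleton_iff.2 (F.syl_le x hx)
  let φ : F.syl →* Sign := F.chiHom.comp (Subgroup.inclusion hle)
  let V : G →* Sign := MonoidHom.transfer φ
  have hout : ∀ g, g < 768 → F.IsOuter (F.el g) →
      V (F.el g) = Multiplicative.ofAdd ((parE g : ZMod 2), (sgnP (g / 32) : ZMod 2)) := by
    intro g hg ho
    refine CfsgLib.StrongCrit.transfer_involution φ F.odd_index ho.2.2.1 (sign_sq _) fun c hc => ?_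
    set w := c⁻¹ * F.el g * c with hw
    have hw1 : w ≠ 1 := fun e => ho.2.1 (by
      calc F.el g = c * w * c⁻¹ := by rw [hw]; group
        _ = 1 := by rw [e]; group)
    have hw2 : w * w = 1 := by
      calc w * w = c⁻¹ * (F.el g * F.el g) * c := by rw [hw]; group
        _ = 1 := by rw [ho.2.2.1]; group
    have hwz := F.syl_le _ hc
    have hwo : F.IsOuter w := ⟨hwz, hw1, hw2, fun hk => F.not_conj_outer hB ho
      ((F.inner_invol hB hk hw1 hw2).1.trans (isConj_iff.2 ⟨c, by rw [hw]; group⟩))⟩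
    obtain ⟨d, hd, hdw⟩ := F.outer_conj ho hwo (g := c⁻¹) (by rw [hw]; group)
    let dC : Subgroup.centralizer ({z} : Set G) := ⟨d, Subgroup.mem_centralizer_singleton_iff.2 hd⟩
    let gC : Subgroup.centralizer ({z} : Set G) := ⟨F.el g, Subgroup.mem_centralizer_singleton_iff.2 (F.el_comm g)⟩
    show F.chiHom ⟨w, _⟩ = _
    rw [show (⟨w, hle hc⟩ : Subgroup.centralizer ({z} : Set G)) = dC * gC * dC⁻¹ from Subtype.ext hdw.symm,
      map_mul, map_mul, map_inv, mul_comm (F.chiHom dC), mul_inv_cancel_right]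
    exact F.chiHom_eq gC hg rfl
  have hconj : ∀ x, IsConj z x → V x = 1 := by
    intro x hx
    obtain ⟨g, rfl⟩ := isConj_iff.1 hx
    obtain ⟨r, -, -, hr⟩ := F.exists_root rfl F.z_ne F.z_sq
    rw [map_mul, map_mul, map_inv, mul_comm (V g), mul_inv_cancel_right, ← hr, map_mul, sign_sq]
  have hker : ∀ x ∈ F.ker192, V x = 1 := by
    intro x hx
    have hS : ∀ y ∈ F.S64, V y = 1 := by
      rintro _ ⟨k, hk, pk, rfl⟩
      have hb := F.big_beta hB
      have h := prodS_check F.α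
      rw [Bool.and_eq_true] at h
      have h1 := allB_spec h.1 hk
      rw [pk, Bool.not_true, Bool.false_or] at h1
      obtain ⟨p, hp, h2⟩ := List.any_eq_true.1 h1
      obtain ⟨q, hq, h3⟩ := List.any_eq_true.1 h2
      rw [beq_iff_eq] at h3
      have hp' : inA1 p = true := List.contains_iff_mem.2 hp
      have hq' : inA2 q = true := List.contains_iff_mem.2 hq
      have one : ∀ s, (inA1 s = true ∨ inA2 s = true) → V (F.el s) = 1 := fun s hs => by
        rcases eq_or_ne s 0 with rfl | h0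
        · rw [F.el_zero, map_one]
        · exact hconj _ (F.big_isConj_sym hB hs h0)
      rw [← h3, ← hb, ← F.el_mul (inA_lt (Or.inl hp')) (inA_lt (Or.inr hq')), map_mul,
        one p (Or.inl hp'), one q (Or.inr hq'), one_mul]
    obtain ⟨g, hg, pg, rfl⟩ := hx
    have h3 := allB_spec (cube_check F.α F.β) hg
    rw [Bool.or_eq_true, bne_iff_ne] at h3
    have h3' := h3.resolve_left (by simpa using pg)
    have hsl : sqC F.α F.β g < 768 := mulC_lt _ _ hg hg
    have h4 := hS (F.el (mulC F.α F.β g (sqC F.α F.β g))) ⟨_, mulC_lt _ _ hg hsl, h3', rfl⟩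
    rw [← F.el_mul hg hsl, show F.el (sqC F.α F.β g) = F.el g * F.el g from (F.el_mul hg hg).symm,
      map_mul, map_mul, sign_sq, mul_one] at h4
    exact h4
  have he := outer_exists F.α F.β
  rw [Bool.and_eq_true, Bool.and_eq_true, beq_iff_eq] at he
  obtain ⟨⟨i1, i2⟩, he2⟩ := he
  obtain ⟨t, ht, he3⟩ := anyB_spec he2
  rw [Bool.and_eq_true, beq_iff_eq] at he3
  obtain ⟨he3, t2⟩ := he3
  have mkOut : ∀ g, g < 768 → isInv F.α F.β g = true → chi g ≠ 0 → F.IsOuter (F.el g) := by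
    intro g hg hi hc
    obtain ⟨a, b⟩ := (F.isInv_iff hg).1 hi
    refine ⟨F.el_comm g, a, b, ?_⟩
    rintro ⟨k, hk, pk, ek⟩
    rw [F.inj hk hg ek] at pk
    exact hc (by simpa using pk)
  have hbit : ∀ g, g < 768 → ((chi g = 1 → parE g = 1 ∧ sgnP (g / 32) = 0) ∧
      (chi g = 2 → parE g = 0 ∧ sgnP (g / 32) = 1)) := fun g hg => by
    obtain ⟨a, b, -, -⟩ := chi_bits hg
    unfold chi
    omega
  obtain ⟨b1, b1'⟩ := (hbit 1 (by omega)).1 i2
  obtain ⟨c1, c1'⟩ := (hbit t ht).2 t2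
  have v1 := hout 1 (by omega) (mkOut 1 (by omega) i1 (by omega))
  have v2 := hout t ht (mkOut t ht he3 (by omega))
  rw [b1, b1'] at v1
  rw [c1, c1'] at v2
  let g1 : Subgroup.centralizer ({z} : Set G) := ⟨F.el 1, Subgroup.mem_centralizer_singleton_iff.2 (F.el_comm 1)⟩
  let g2 : Subgroup.centralizer ({z} : Set G) := ⟨F.el t, Subgroup.mem_centralizer_singleton_iff.2 (F.el_comm t)⟩
  have w1 : F.chiHom g1 = Multiplicative.ofAdd ((1 : ZMod 2), (0 : ZMod 2)) := by
    rw [F.chiHom_eq g1 (show 1 < 768 by omega) rfl, b1, b1']; simp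
  have w2 : F.chiHom g2 = Multiplicative.ofAdd ((0 : ZMod 2), (1 : ZMod 2)) := by
    rw [F.chiHom_eq g2 ht rfl, c1, c1']; simp
  have hres : ∀ x : Subgroup.centralizer ({z} : Set G), V x = F.chiHom x := by
    intro x
    have hall : ∀ v : Sign, ∃ y : Subgroup.centralizer ({z} : Set G), F.chiHom y = v ∧ V y = v := by
      have hd : ∀ v : Sign, v = 1 ∨ v = Multiplicative.ofAdd ((1 : ZMod 2), (0 : ZMod 2)) ∨
          v = Multiplicative.ofAdd ((0 : ZMod 2), (1 : ZMod 2)) ∨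
          v = Multiplicative.ofAdd ((1 : ZMod 2), (0 : ZMod 2)) * Multiplicative.ofAdd ((0 : ZMod 2), (1 : ZMod 2)) := by
        decide
      intro v
      rcases hd v with rfl | rfl | rfl | rfl
      · exact ⟨1, map_one _, map_one _⟩
      · exact ⟨g1, w1, by simpa [g1] using v1⟩
      · exact ⟨g2, w2, by simpa [g2] using v2⟩
      · refine ⟨g1 * g2, by rw [map_mul, w1, w2], ?_⟩
        rw [Subgroup.coe_mul, map_mul]
        simpa [g1, g2] using congrArg₂ (· * ·) v1 v2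
    obtain ⟨y, hy1, hy2⟩ := hall (F.chiHom x)
    have hk : ((x * y⁻¹ : Subgroup.centralizer ({z} : Set G)) : G) ∈ F.ker192 :=
      (F.chiHom_eq_one_iff _).1 (by rw [map_mul, map_inv, hy1, mul_inv_cancel])
    have := hker _ hk
    rw [Subgroup.coe_mul, Subgroup.coe_inv, map_mul, map_inv, hy2, mul_inv_eq_one] at this
    exact this
  refine ⟨V, fun v => ?_, hres⟩
  have hd : ∀ v : Sign, v = 1 ∨ v = Multiplicative.ofAdd ((1 : ZMod 2), (0 : ZMod 2)) ∨
      v = Multiplicative.ofAdd ((0 : ZMod 2), (1 : ZMod 2)) ∨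
      v = Multiplicative.ofAdd ((1 : ZMod 2), (0 : ZMod 2)) * Multiplicative.ofAdd ((0 : ZMod 2), (1 : ZMod 2)) := by
    decide
  rcases hd v with rfl | rfl | rfl | rfl
  · exact ⟨1, map_one _⟩
  · exact ⟨g1, by rw [hres, w1]⟩
  · exact ⟨g2, by rw [hres, w2]⟩
  · exact ⟨(g1 : G) * g2, by rw [map_mul, hres, hres, w1, w2]⟩

end Frame

end CfsgLib.AutL34
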